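import Cfsg.Agent.Lib.U62Cent.Code
import Mathlib.LinearAlgebra.Matrix.SchurComplement

/-!
Codes for the elements of `SU₄(2)` (four coded columns), transvections as elements of it, and the
coded form of the action in case A.
-/

set_option autoImplicit false
set_option maxRecDepth 100000

namespace CfsgLib.U62Cent

open Matrix
open CfsgLib.Spor.U62 (kOf kCode kOf_code kCode_lt mulN mulN_lt)

/-- the group `SU₄(2)` -/
abbrev U4 : Type := ↥(Cfsg.SU 4 K4 2)

/-- the matrix of an element -/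
def mat4 : U4 →* Matrix (Fin 4) (Fin 4) K4 where
  toFun g := g.1.1
  map_one' := rfl
  map_mul' _ _ := rfl

theorem mat4_injective : Function.Injective mat4 := fun _ _ h => Subtype.ext (Subtype.ext h)

theorem hf_mat4 (g : U4) (u v : V4) : hf (mat4 g *ᵥ u) (mat4 g *ᵥ v) = hf u v := g.2 u v

/-- column of a coded matrix -/
def colC (M i : ℕ) : ℕ := M / 256 ^ i % 256

/-- a coded matrix applied to a coded vector -/
def ap (M a : ℕ) : ℕ :=
  addC (addC (addC (smC4 (e4 a 0) (colC M 0)) (smC4 (e4 a 1) (colC M 1))) (smC4 (e4 a 2) (colC M 2)))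
    (smC4 (e4 a 3) (colC M 3))

/-- a coded matrix from its columns -/
def packM (a b c d : ℕ) : ℕ := a + 256 * b + 65536 * c + 16777216 * d

theorem colC_packM {a b c d : ℕ} (ha : a < 256) (hb : b < 256) (hc : c < 256) (hd : d < 256) :
    colC (packM a b c d) 0 = a ∧ colC (packM a b c d) 1 = b ∧ colC (packM a b c d) 2 = c ∧
      colC (packM a b c d) 3 = d := by
  unfold colC packM
  norm_num
  omega

/-- the column of a matrix -/
def colV (A : Matrix (Fin 4) (Fin 4) K4) (j : Fin 4) : V4 := fun i => A i j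

/-- code of a matrix -/
def cdM (A : Matrix (Fin 4) (Fin 4) K4) : ℕ :=
  packM (vc4 (colV A 0)) (vc4 (colV A 1)) (vc4 (colV A 2)) (vc4 (colV A 3))

/-- code of an element -/
def cd4 (g : U4) : ℕ := cdM (mat4 g)

theorem vc4_mulVec (A : Matrix (Fin 4) (Fin 4) K4) (v : V4) : vc4 (A *ᵥ v) = ap (cdM A) (vc4 v) := by
  have he : A *ᵥ v = v 0 • colV A 0 + v 1 • colV A 1 + v 2 • colV A 2 + v 3 • colV A 3 := by
    funext i
    simp only [Matrix.mulVec, dotProduct, Fin.sum_univ_four, Pi.add_apply, Pi.smul_apply, smul_eq_mul, colV]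
    ring
  obtain ⟨h0, h1, h2, h3⟩ := colC_packM (vc4_lt (colV A 0)) (vc4_lt (colV A 1)) (vc4_lt (colV A 2))
    (vc4_lt (colV A 3))
  obtain ⟨e0, e1, e2, e3⟩ := e4_pack_aux _ (kCode_lt (v 0)) _ (kCode_lt (v 1)) _ (kCode_lt (v 2))
    _ (kCode_lt (v 3))
  rw [he, vc4_add, vc4_add, vc4_add, vc4_smul, vc4_smul, vc4_smul, vc4_smul]
  rw [ap, cdM, h0, h1, h2, h3, show e4 (vc4 v) 0 = kCode (v 0) from e0,
    show e4 (vc4 v) 1 = kCode (v 1) from e1, show e4 (vc4 v) 2 = kCode (v 2) from e2,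
    show e4 (vc4 v) 3 = kCode (v 3) from e3]

theorem vc4_mat4 (g : U4) (v : V4) : vc4 (mat4 g *ᵥ v) = ap (cd4 g) (vc4 v) := vc4_mulVec _ _

theorem mat4_ext {g h : U4} (e : ∀ v : V4, mat4 g *ᵥ v = mat4 h *ᵥ v) : g = h :=
  mat4_injective (Matrix.ext_of_mulVec_single fun i => e _)

theorem cd4_injective : Function.Injective cd4 := fun g h e =>
  mat4_ext fun v => vc4_inj (by rw [vc4_mat4, vc4_mat4, e])

/-- product of coded matrices -/
def mulM (A B : ℕ) : ℕ := packM (ap A (colC B 0)) (ap A (colC B 1)) (ap A (colC B 2)) (ap A (colC B 3))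

theorem colC_cdM (A : Matrix (Fin 4) (Fin 4) K4) (j : Fin 4) : colC (cdM A) j = vc4 (colV A j) := by
  obtain ⟨h0, h1, h2, h3⟩ := colC_packM (vc4_lt (colV A 0)) (vc4_lt (colV A 1)) (vc4_lt (colV A 2))
    (vc4_lt (colV A 3))
  fin_cases j
  exacts [h0, h1, h2, h3]

theorem cdM_mul (A B : Matrix (Fin 4) (Fin 4) K4) : cdM (A * B) = mulM (cdM A) (cdM B) := by
  have h : ∀ j : Fin 4, vc4 (colV (A * B) j) = ap (cdM A) (colC (cdM B) j) := fun j => by
    rw [colC_cdM, ← vc4_mulVec]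
    rfl
  show packM _ _ _ _ = packM _ _ _ _
  rw [h 0, h 1, h 2, h 3]
  rfl

theorem cd4_mul (g h : U4) : cd4 (g * h) = mulM (cd4 g) (cd4 h) := by
  show cdM (mat4 (g * h)) = _
  rw [map_mul, cdM_mul]
  rfl

/-- the identity code -/
def oneM : ℕ := packM 1 4 16 64

theorem cd4_one : cd4 1 = oneM := by
  show cdM (mat4 1) = _
  rw [map_one]
  decide +kernel

theorem sq_add_K4 (a b : K4) : (a + b) ^ 2 = a ^ 2 + b ^ 2 := by
  have h2 : (2 : K4) = 0 := by decide +kernel
  linear_combination (a * b) * h2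

theorem hf_add_left (u u' v : V4) : hf (u + u') v = hf u v + hf u' v := by
  simp only [hf, Cfsg.hermForm, Pi.add_apply, add_mul, Finset.sum_add_distrib]

theorem hf_add_right (u v v' : V4) : hf u (v + v') = hf u v + hf u v' := by
  simp only [hf, Cfsg.hermForm, Pi.add_apply, sq_add_K4, mul_add, Finset.sum_add_distrib]

theorem hf_smul_left (c : K4) (u v : V4) : hf (c • u) v = c * hf u v := by
  simp only [hf, Cfsg.hermForm, Pi.smul_apply, smul_eq_mul, Finset.mul_sum, mul_assoc]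

theorem hf_smul_right (c : K4) (u v : V4) : hf u (c • v) = c ^ 2 * hf u v := by
  simp only [hf, Cfsg.hermForm, Pi.smul_apply, smul_eq_mul, Finset.mul_sum]
  exact Finset.sum_congr rfl fun i _ => by ring

theorem hf_swap (u v : V4) : hf v u = hf u v ^ 2 := by
  have h4a : ∀ x < 4, kOf x ^ 4 = kOf x := by decide +kernel
  have h4 : ∀ a : K4, a ^ 4 = a := fun a => by rw [← kOf_code a]; exact h4a _ (kCode_lt a)
  simp only [hf, Cfsg.hermForm, Fin.sum_univ_four, sq_add_K4, mul_pow, ← pow_mul]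
  rw [show (2 * 2 : ℕ) = 4 from rfl, h4, h4, h4, h4]
  ring

theorem tv_isom {x : V4} (hx : hf x x = 0) (u v : V4) : hf (tv x u) (tv x v) = hf u v := by
  simp only [tv, hf_add_left, hf_add_right, hf_smul_left, hf_smul_right, hx, ← hf_swap]
  have h2 : (2 : K4) = 0 := by decide +kernel
  linear_combination (hf u x * hf x v) * h2

/-- the matrix of a transvection -/
def tvMat (x : V4) : Matrix (Fin 4) (Fin 4) K4 :=
  1 + Matrix.replicateCol Unit x * Matrix.replicateRow Unit (fun j => x j ^ 2)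

theorem tvMat_mulVec (x v : V4) : tvMat x *ᵥ v = tv x v := by
  rw [tvMat, Matrix.add_mulVec, Matrix.one_mulVec, ← Matrix.mulVec_mulVec]
  funext i
  simp only [tv, Pi.add_apply, Pi.smul_apply, smul_eq_mul, Matrix.mulVec, dotProduct,
    Matrix.replicateCol_apply, Matrix.replicateRow_apply, hf, Cfsg.hermForm, Finset.univ_unique,
    Finset.sum_singleton, Finset.sum_mul, Finset.mul_sum]
  congr 1
  exact Finset.sum_congr rfl fun j _ => by ring

theorem tvMat_det {x : V4} (hx : hf x x = 0) : (tvMat x).det = 1 := by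
  rw [tvMat, Matrix.det_one_add_replicateCol_mul_replicateRow]
  have h : (fun j => x j ^ 2) ⬝ᵥ x = hf x x := by
    simp only [dotProduct, hf, Cfsg.hermForm]
    exact Finset.sum_congr rfl fun j _ => mul_comm _ _
  rw [h, hx, add_zero]

/-- a transvection as an element of `SU₄(2)` -/
def tvU (x : V4) (hx : hf x x = 0) : U4 :=
  ⟨⟨tvMat x, tvMat_det hx⟩, fun u v => by
    show hf (tvMat x *ᵥ u) (tvMat x *ᵥ v) = hf u v
    rw [tvMat_mulVec, tvMat_mulVec, tv_isom hx]⟩

theorem mat4_tvU (x : V4) (hx : hf x x = 0) (v : V4) : mat4 (tvU x hx) *ᵥ v = tv x v :=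
  tvMat_mulVec x v

/-- code of the transvection with coded centre -/
def tM (x : ℕ) : ℕ := packM (tC4 x 1) (tC4 x 4) (tC4 x 16) (tC4 x 64)

theorem cd4_tvU (x : V4) (hx : hf x x = 0) : cd4 (tvU x hx) = tM (vc4 x) := by
  have h : ∀ j : Fin 4, vc4 (colV (mat4 (tvU x hx)) j) = tC4 (vc4 x) (4 ^ (j : ℕ)) := fun j => by
    have e : colV (mat4 (tvU x hx)) j = mat4 (tvU x hx) *ᵥ Pi.single j 1 := by
      rw [Matrix.mulVec_single_one]; rfl
    rw [e, mat4_tvU, vc4_tv]
    congr 1
    fin_cases j <;> decide +kernel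
  show packM _ _ _ _ = packM _ _ _ _
  rw [h 0, h 1, h 2, h 3]
  rfl

end CfsgLib.U62Cent
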