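import Cfsg.Agent.Lib.U62Cent.Defs
import Cfsg.Agent.Lib.U62Cent.Code2

/-!
Basic facts from `Hyp` and `Nat4`: coordinates, commutators with a fixed element, and the transport
between the centraliser of a pair of conjugates seen from either member.
-/

set_option autoImplicit false

namespace CfsgLib.U62Cent

open CfsgLib.ThreeTransp
open Matrix

universe u

variable {G : Type u} [Group G] {z : G}

/-- the centraliser of `z` as a group -/
abbrev Cz (z : G) : Type u := ↥(Subgroup.centralizer ({z} : Set G))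

theorem comm_z (h : Cz z) : (h : G) * z = z * h := Subgroup.mem_centralizer_singleton_iff.1 h.2

theorem comm_zC (h : Cz z) : h * zC z = zC z * h := Subtype.ext (comm_z h)

namespace Hyp

variable (P : Hyp z)

theorem zC_mem : zC z ∈ P.J := P.xc.mem

include P in
theorem zC_ne_one : zC z ≠ 1 := P.xc.ne_one

include P in
theorem zC_sq : zC z * zC z = 1 := P.xc.inv

theorem conj_mem (h : Cz z) {a : Cz z} (ha : a ∈ P.J) : h * a * h⁻¹ ∈ P.J := P.normJ.conj_mem a ha h

theorem conj_mem' (h : Cz z) {a : Cz z} (ha : a ∈ P.J) : h⁻¹ * a * h ∈ P.J := by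
  simpa using P.conj_mem h⁻¹ ha

/-- the commutator of an element of `J` with an element of the centraliser, in `J` -/
def sOf (y : Cz z) (j : P.J) : P.J :=
  ⟨(j : Cz z)⁻¹ * (y * j * y⁻¹), P.J.mul_mem (P.J.inv_mem j.2) (P.conj_mem y j.2)⟩

theorem sOf_coe (y : Cz z) (j : P.J) : (P.sOf y j : Cz z) = (j : Cz z)⁻¹ * (y * j * y⁻¹) := rfl

theorem conj_eq (y : Cz z) (j : P.J) : (j : Cz z)⁻¹ * y * j = (P.sOf y j : Cz z) * y := by
  rw [P.sOf_coe]; group

theorem sOf_mul (y : Cz z) (j k : P.J) : P.sOf y (j * k) = k⁻¹ * P.sOf y j * k * P.sOf y k := by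
  refine Subtype.ext ?_
  simp only [Subgroup.coe_mul, Subgroup.coe_inv, P.sOf_coe]
  group

theorem sOf_one_iff (y : Cz z) (j : P.J) : P.sOf y j = 1 ↔ y * j = j * y := by
  constructor
  · intro h
    have e : (j : Cz z)⁻¹ * (y * j * y⁻¹) = 1 := congrArg Subtype.val h
    rw [inv_mul_eq_one] at e
    conv_rhs => rw [e]
    group
  · intro h
    refine Subtype.ext ?_
    rw [P.sOf_coe, h]
    simp

include P in
theorem odd_index [Finite G] : Odd (Subgroup.centralizer ({z} : Set G)).index := by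
  classical
  haveI := Fact.mk Nat.prime_two
  obtain ⟨C, hC⟩ : ∃ C : Subgroup G, C = Subgroup.centralizer ({z} : Set G) := ⟨_, rfl⟩
  obtain ⟨S₀⟩ : Nonempty (Sylow 2 (Cz z)) := inferInstance
  have hJS : P.J ≤ (S₀ : Subgroup (Cz z)) := by
    obtain ⟨g, hg⟩ := (IsPGroup.of_card P.card_J).exists_le_sylow
    obtain ⟨c, hc⟩ := MulAction.exists_smul_eq (Cz z) g S₀
    intro a ha
    rw [← hc, Sylow.smul_def, Sylow.pointwise_smul_def]
    exact ⟨c⁻¹ * a * c, hg (P.conj_mem' c ha), by simp [mul_assoc]⟩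
  let T : Subgroup G := (S₀ : Subgroup (Cz z)).map (Subgroup.centralizer ({z} : Set G)).subtype
  have hT : IsPGroup 2 T := S₀.2.map _
  obtain ⟨U, hU⟩ := hT.exists_le_sylow
  have hkey : ∀ c ∈ Subgroup.centralizer (T : Set G) ⊓ T, c = 1 ∨ c = z := by
    rintro c ⟨hc, a, ha, rfl⟩
    have haJ : a ∈ P.J := P.xc.cent (Subgroup.mem_centralizer_iff.2 fun q hq => Subtype.ext
      (Subgroup.mem_centralizer_iff.1 hc _ ⟨q, hJS hq, rfl⟩))
    rcases P.xc.center a haJ (fun q hq => Subtype.ext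
      (Subgroup.mem_centralizer_iff.1 hc _ ⟨q, hJS hq, rfl⟩)) with e | e
    · exact Or.inl (congrArg Subtype.val e)
    · exact Or.inr (congrArg Subtype.val e)
  have hUT : (U : Subgroup G) ≤ T := by
    by_contra hne
    have hlt : T < (U : Subgroup G) := lt_of_le_of_ne hU fun e => hne (le_of_eq e.symm)
    haveI : Group.IsNilpotent ↥(U : Subgroup G) := U.2.isNilpotent
    have hn := Group.normalizerCondition_of_isNilpotent (T.subgroupOf (U : Subgroup G))
      (lt_top_iff_ne_top.2 fun e => hne fun x hx => by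
        have : (⟨x, hx⟩ : (U : Subgroup G)) ∈ T.subgroupOf (U : Subgroup G) := e ▸ Subgroup.mem_top _
        exact this)
    obtain ⟨x, hxn, hxT⟩ := SetLike.exists_of_lt hn
    have hnorm : ∀ t ∈ T, (x : G) * t * (x : G)⁻¹ ∈ T := fun t ht => by
      have := (Subgroup.mem_normalizer_iff.1 hxn ⟨t, hU ht⟩).1 ht
      exact this
    have hxinv : ∀ t ∈ T, (x : G)⁻¹ * t * (x : G) ∈ T := fun t ht => by
      have h2 := (Subgroup.mem_normalizer_iff.1 (Subgroup.inv_mem _ hxn) ⟨t, hU ht⟩).1 ht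
      simpa [Subgroup.mem_subgroupOf] using h2
    have hzT : z ∈ T := ⟨zC z, hJS P.zC_mem, rfl⟩
    have hz : (x : G) * z * (x : G)⁻¹ ∈ Subgroup.centralizer (T : Set G) ⊓ T := by
      refine ⟨Subgroup.mem_centralizer_iff.2 fun t ht => ?_, hnorm z hzT⟩
      obtain ⟨a, -, ha⟩ := hxinv t ht
      have hc : ((x : G)⁻¹ * t * x) * z = z * ((x : G)⁻¹ * t * x) := by rw [← ha]; exact comm_z a
      calc t * ((x : G) * z * (x : G)⁻¹) = x * (((x : G)⁻¹ * t * x) * z) * (x : G)⁻¹ := by group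
        _ = _ := by rw [hc]; group
    have hne1 : (x : G) * z * (x : G)⁻¹ ≠ 1 := fun e => by
      have : z = 1 := by
        calc z = (x : G)⁻¹ * ((x : G) * z * (x : G)⁻¹) * x := by group
          _ = 1 := by rw [e]; group
      exact P.zC_ne_one (Subtype.ext this)
    have hfix : (x : G) * z = z * x := mul_inv_eq_iff_eq_mul.1 ((hkey _ hz).resolve_left hne1)
    have hxC : (x : G) ∈ Subgroup.centralizer ({z} : Set G) := Subgroup.mem_centralizer_singleton_iff.2 hfix
    have hpg : IsPGroup 2 (((U : Subgroup G).subgroupOf (Subgroup.centralizer ({z} : Set G)))) :=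
      U.2.comap_subtype
    have hle : (S₀ : Subgroup (Cz z)) ≤ (U : Subgroup G).subgroupOf (Subgroup.centralizer ({z} : Set G)) :=
      fun s hs => hU ⟨s, hs, rfl⟩
    have heq := S₀.3 hpg hle
    have : (⟨x, hxC⟩ : Cz z) ∈ (S₀ : Subgroup (Cz z)) := by
      rw [← heq]; exact x.2
    exact hxT ⟨⟨x, hxC⟩, this, rfl⟩
  have hTC : (U : Subgroup G) ≤ Subgroup.centralizer ({z} : Set G) := fun x hx => by
    obtain ⟨a, -, rfl⟩ := hUT hx
    exact a.2
  have hnd : ¬ 2 ∣ (U : Subgroup G).index := U.not_dvd_index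
  refine Nat.odd_iff.2 (Nat.two_dvd_ne_zero.1 fun h2 => hnd (h2.trans ?_))
  exact Subgroup.index_dvd_of_le hTC

end Hyp

/-- A conjugate of `z` in its centraliser with a chosen conjugating element. -/
structure Pair (y : Cz z) where
  /-- the conjugating element -/
  g : G
  hg : g * z * g⁻¹ = (y : G)

theorem exists_pair {y : Cz z} (h : IsConj z (y : G)) : Nonempty (Pair y) := by
  obtain ⟨g, hg⟩ := isConj_iff.1 h
  exact ⟨⟨g, hg⟩⟩

namespace Pair

variable {y : Cz z} (Q : Pair y)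

/-- the image of `z` -/
def y' : Cz z := ⟨Q.g⁻¹ * z * Q.g, Subgroup.mem_centralizer_singleton_iff.2 (by
  have h := comm_z y
  rw [← Q.hg] at h
  calc Q.g⁻¹ * z * Q.g * z = Q.g⁻¹ * (z * (Q.g * z * Q.g⁻¹)) * Q.g := by group
    _ = Q.g⁻¹ * (Q.g * z * Q.g⁻¹ * z) * Q.g := by rw [h]
    _ = _ := by group)⟩

theorem y'_conj : IsConj z (Q.y' : G) := isConj_iff.2 ⟨Q.g⁻¹, by rw [y', inv_inv]⟩

/-- the opposite pair -/
def symm : Pair Q.y' := ⟨Q.g⁻¹, by rw [y', inv_inv]⟩

/-- An element commuting with `y` seen from `y`. -/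
def phi (a : Cz z) (ha : a * y = y * a) : Cz z :=
  ⟨Q.g⁻¹ * a * Q.g, Subgroup.mem_centralizer_singleton_iff.2 (by
    have h : (a : G) * y = y * a := congrArg Subtype.val ha
    rw [← Q.hg] at h
    calc Q.g⁻¹ * a * Q.g * z = Q.g⁻¹ * ((a : G) * (Q.g * z * Q.g⁻¹)) * Q.g := by group
      _ = Q.g⁻¹ * (Q.g * z * Q.g⁻¹ * a) * Q.g := by rw [h]
      _ = _ := by group)⟩

theorem phi_coe (a : Cz z) (ha : a * y = y * a) : (Q.phi a ha : G) = Q.g⁻¹ * a * Q.g := rfl

theorem phi_mul {a b : Cz z} (ha : a * y = y * a) (hb : b * y = y * b) (hab : a * b * y = y * (a * b)) :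
    Q.phi (a * b) hab = Q.phi a ha * Q.phi b hb :=
  Subtype.ext (by simp only [Subgroup.coe_mul, phi_coe]; group)

theorem phi_inj {a b : Cz z} {ha : a * y = y * a} {hb : b * y = y * b} (h : Q.phi a ha = Q.phi b hb) :
    a = b := by
  have e : Q.g⁻¹ * (a : G) * Q.g = Q.g⁻¹ * (b : G) * Q.g := congrArg Subtype.val h
  exact Subtype.ext (mul_left_cancel (mul_right_cancel e))

theorem phi_comm (a : Cz z) (ha : a * y = y * a) : Q.phi a ha * Q.y' = Q.y' * Q.phi a ha :=
  Subtype.ext (by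
    simp only [Subgroup.coe_mul, phi_coe, y']
    calc Q.g⁻¹ * (a : G) * Q.g * (Q.g⁻¹ * z * Q.g) = Q.g⁻¹ * ((a : G) * z) * Q.g := by group
      _ = Q.g⁻¹ * (z * a) * Q.g := by rw [comm_z a]
      _ = _ := by group)

theorem phi_symm (a : Cz z) (ha : a * y = y * a) : Q.symm.phi (Q.phi a ha) (Q.phi_comm a ha) = a :=
  Subtype.ext (by simp only [phi_coe, symm]; group)

theorem phi_y : Q.phi y rfl = zC z := Subtype.ext (by
  simp only [phi_coe, ← Q.hg, zC]; group)

theorem phi_zC : Q.phi (zC z) (comm_zC y).symm = Q.y' := Subtype.ext (by simp only [phi_coe, y', zC])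

theorem phi_isConj (a : Cz z) (ha : a * y = y * a) :
    IsConj z (Q.phi a ha : G) ↔ IsConj z (a : G) :=
  ⟨fun h => h.trans (isConj_iff.2 ⟨Q.g, by rw [phi_coe]; group⟩),
    fun h => h.trans (isConj_iff.2 ⟨Q.g⁻¹, by rw [phi_coe, inv_inv]⟩)⟩

end Pair

namespace Nat4

variable {P : Hyp z} (M : Nat4 P)

theorem vec_one : M.vec 1 = 0 := (M.vec_eq_zero 1).2 (Or.inl rfl)

theorem two_V4 (v : V4) : v + v = 0 := by
  funext i
  have h2 : (2 : K4) = 0 := by decide +kernel
  show v i + v i = 0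
  rw [← two_mul, h2, zero_mul]

theorem vec_inv (a : P.J) : M.vec a⁻¹ = M.vec a := by
  have h := M.vec_mul a a⁻¹
  rw [mul_inv_cancel, M.vec_one] at h
  calc M.vec a⁻¹ = M.vec a + M.vec a + M.vec a⁻¹ := by rw [two_V4, zero_add]
    _ = M.vec a := by rw [add_assoc, ← h, add_zero]

theorem vec_z : M.vec ⟨zC z, P.zC_mem⟩ = 0 := (M.vec_eq_zero _).2 (Or.inr rfl)

theorem vec_eq_iff (a b : P.J) :
    M.vec a = M.vec b ↔ (b : Cz z) = a ∨ (b : Cz z) = zC z * a := by
  constructor
  · intro h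
    have h0 : M.vec (b * a⁻¹) = 0 := by rw [M.vec_mul, M.vec_inv, ← h, two_V4]
    rcases (M.vec_eq_zero _).1 h0 with e | e <;> rw [Subgroup.coe_mul, Subgroup.coe_inv, mul_inv_eq_iff_eq_mul] at e
    · exact Or.inl (by rw [e, one_mul])
    · exact Or.inr e
  · rintro (h | h)
    · rw [Subtype.ext h]
    · rw [show b = ⟨zC z, P.zC_mem⟩ * a from Subtype.ext h, M.vec_mul, M.vec_z, zero_add]

theorem act_J {h : Cz z} (hh : h ∈ P.J) (v : V4) : M.act h v = v := by
  rw [(M.ker_act h).2 hh]; rfl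

theorem act_mul (h k : Cz z) (v : V4) : M.act (h * k) v = M.act h (M.act k v) := by
  rw [map_mul]; rfl

theorem act_inv_act (h : Cz z) (v : V4) : M.act h⁻¹ (M.act h v) = v := by
  rw [← M.act_mul, inv_mul_cancel, map_one]; rfl

theorem act_act_inv (h : Cz z) (v : V4) : M.act h (M.act h⁻¹ v) = v := by
  rw [← M.act_mul, mul_inv_cancel, map_one]; rfl

theorem vec_sOf (y : Cz z) (j : P.J) : M.vec (P.sOf y j) = M.vec j + M.act y (M.vec j) := by
  have h : P.sOf y j = j⁻¹ * MulAut.conjNormal y j :=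
    Subtype.ext (by rw [P.sOf_coe, Subgroup.coe_mul, Subgroup.coe_inv, MulAut.conjNormal_apply])
  rw [h, M.vec_mul, M.vec_inv, M.vec_conj]

/-- Conjugation of an element of `J` by another one. -/
theorem conj_J (a b : P.J) : (b⁻¹ * a * b : Cz z) =
    if (hf (M.vec a) (M.vec b)).im = 0 then (a : Cz z) else zC z * a := by
  split_ifs with h
  · have e : a * b = b * a := (M.vec_comm a b).2 h
    have e' : b⁻¹ * a * b = a := by rw [mul_assoc, e, inv_mul_cancel_left]
    exact congrArg Subtype.val e'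
  · have e : ¬ a * b = b * a := fun e => h ((M.vec_comm a b).1 e)
    rcases P.xc.commEl _ (inv_mem b.2) _ a.2 with k | k
    · rw [inv_inv] at k
      exact absurd (Subtype.ext (by rw [Subgroup.coe_mul, Subgroup.coe_mul]; conv_rhs => rw [← k]
                                    group)) e
    · rw [inv_inv] at k
      exact k

/-- An inner element acts through a unique element of `SU₄(2)`. -/
theorem existsUnique_lin {h : Cz z} (hh : h ∈ P.H₁) : ∃! g : U4, ∀ v, M.act h v = mat4 g *ᵥ v := by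
  obtain ⟨g, hg, he⟩ := M.lin h hh
  exact ⟨⟨g, hg⟩, he, fun g' hg' => mat4_ext fun v => (hg' v).symm.trans (he v)⟩

/-- the linear part on the inner subgroup -/
noncomputable def rho : ↥P.H₁ →* U4 :=
  MonoidHom.mk' (fun h => Classical.choose (M.existsUnique_lin h.2).exists) fun a b =>
    mat4_ext fun v => by
      rw [← Classical.choose_spec (M.existsUnique_lin (a * b).2).exists v, map_mul, ← Matrix.mulVec_mulVec,
        ← Classical.choose_spec (M.existsUnique_lin b.2).exists v,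
        ← Classical.choose_spec (M.existsUnique_lin a.2).exists (M.act b v), Subgroup.coe_mul, M.act_mul]

theorem act_rho (h : P.H₁) (v : V4) : M.act h v = mat4 (M.rho h) *ᵥ v :=
  Classical.choose_spec (M.existsUnique_lin h.2).exists v

theorem rho_surj : Function.Surjective M.rho := fun g => by
  obtain ⟨h, hh, he⟩ := M.lift g g.2
  exact ⟨⟨h, hh⟩, mat4_ext fun v => by rw [← M.act_rho]; exact he v⟩

theorem rho_eq_one_iff (h : P.H₁) : M.rho h = 1 ↔ (h : Cz z) ∈ P.J := by
  rw [← M.ker_act]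
  constructor
  · intro e
    refine DFunLike.ext _ _ fun v => ?_
    show M.act h v = v
    rw [M.act_rho, e, map_one, Matrix.one_mulVec]
  · intro e
    refine mat4_ext fun v => ?_
    rw [← M.act_rho, e, map_one, Matrix.one_mulVec]
    rfl

end Nat4

end CfsgLib.U62Cent
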