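import Cfsg.Agent.Lib.U62Cent.Code2
import Cfsg.Agent.Lib.U62Cent.FusData
import Cfsg.Agent.Lib.Classical.UnitarySU
import Cfsg.Agent.Lib.Classical.UnitaryOrder

/-!
Products of transvections by codes, a Sylow 2-subgroup of `SU₄(2)` and its finite properties.
-/

set_option autoImplicit false
set_option maxRecDepth 100000

namespace CfsgLib.U62Cent

open Matrix
open CfsgLib.Spor.U62 (kOf kCode card_K4)

theorem tv_tv {x : V4} (hx : hf x x = 0) (v : V4) : tv x (tv x v) = v := by
  simp only [tv, hf_add_left, hf_smul_left, hx, mul_zero, add_zero]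
  rw [add_assoc, ← add_smul, show hf v x + hf v x = 0 by
    have h2 : (2 : K4) = 0 := by decide +kernel
    linear_combination (hf v x) * h2, zero_smul, add_zero]

theorem tvU_sq (x : V4) (hx : hf x x = 0) : tvU x hx * tvU x hx = 1 := by
  refine mat4_ext fun v => ?_
  rw [map_mul, ← Matrix.mulVec_mulVec, mat4_tvU, mat4_tvU, tv_tv hx, map_one, Matrix.one_mulVec]

/-- a coded isotropic vector -/
def isoB (x : ℕ) : Bool := Nat.blt x 256 && Nat.beq (hC4 x x) 0

theorem isoB_spec {x : ℕ} (h : isoB x = true) : x < 256 ∧ hf (vo4 x) (vo4 x) = 0 := by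
  simp only [isoB, Bool.and_eq_true, Nat.blt_eq, Nat.beq_eq] at h
  exact ⟨h.1, hf_zero_iff.2 (by rw [vc4_vo4 x h.1]; exact h.2)⟩

open _root_.Classical in
/-- the transvection of a coded point -/
noncomputable def tvI (x : ℕ) : U4 :=
  if h : hf (vo4 x) (vo4 x) = 0 then tvU (vo4 x) h else 1

/-- the element of a word -/
noncomputable def wU : List ℕ → U4
  | [] => 1
  | x :: l => tvI x * wU l

theorem wU_nil : wU [] = 1 := rfl

theorem wU_cons' (x : ℕ) (l : List ℕ) : wU (x :: l) = tvI x * wU l := rfl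

theorem tvI_eq {x : ℕ} (h : hf (vo4 x) (vo4 x) = 0) : tvI x = tvU (vo4 x) h := dif_pos h

theorem tvI_sq (x : ℕ) : tvI x * tvI x = 1 := by
  rw [tvI]
  split_ifs with h
  · exact tvU_sq _ h
  · exact one_mul _

/-- the code of a word -/
def wM : List ℕ → ℕ
  | [] => oneM
  | x :: l => mulM (tM x) (wM l)

/-- all points of a word are isotropic -/
def wB (l : List ℕ) : Bool := l.all isoB

theorem cd4_wU : ∀ {l : List ℕ}, wB l = true → cd4 (wU l) = wM l
  | [], _ => cd4_one
  | x :: l, h => by
    simp only [wB, List.all_cons, Bool.and_eq_true] at h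
    obtain ⟨hx, hiso⟩ := isoB_spec h.1
    rw [wU_cons', tvI_eq hiso, cd4_mul, cd4_tvU, vc4_vo4 x hx, cd4_wU (show wB l = true from h.2), wM]

theorem wU_cons {x : ℕ} (l : List ℕ) (h : hf (vo4 x) (vo4 x) = 0) :
    wU (x :: l) = tvU (vo4 x) h * wU l := by rw [wU_cons', tvI_eq h]

theorem wU_append : ∀ (l m : List ℕ), wU (l ++ m) = wU l * wU m
  | [], m => (one_mul _).symm
  | x :: l, m => by rw [List.cons_append, wU_cons', wU_cons', wU_append l m, mul_assoc]

theorem wU_reverse : ∀ (l : List ℕ), wU l.reverse = (wU l)⁻¹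
  | [] => inv_one.symm
  | x :: l => by
    rw [List.reverse_cons, wU_append, wU_reverse l, wU_cons' x l, _root_.mul_inv_rev, wU_cons', wU_nil,
      mul_one, inv_eq_of_mul_eq_one_right (tvI_sq x)]

theorem card_U4 : Nat.card U4 = 25920 := by
  have hF : Nat.card K4 = 2 ^ 2 := by rw [card_K4]; norm_num
  have h := CfsgLib.Classical.card_SU_mul (n := 4) hF (by norm_num)
  rw [CfsgLib.Classical.card_GU hF] at h
  simp only [Finset.prod_range_succ, Finset.prod_range_zero] at h
  norm_num [show Even 2 from ⟨1, rfl⟩, show ¬ Even 3 by decide, show ¬ Even 1 by decide] at h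
  have h' : 3 * Nat.card U4 = 77760 := h
  omega

namespace Fus

/-- the codes of the Sylow subgroup -/
def sylC : List ℕ := sylL.map Prod.fst

/-- membership of a number in a list -/
def memN (l : List ℕ) (x : ℕ) : Bool := l.any fun y => Nat.beq y x

theorem memN_iff {l : List ℕ} {x : ℕ} : memN l x = true ↔ x ∈ l := by
  simp [memN, Nat.beq_eq]

theorem syl_words : (sylL.all fun p => wB p.2 && Nat.beq (wM p.2) p.1) = true := by decide +kernel

theorem syl_closed : (sylC.all fun a => sylC.all fun b => memN sylC (mulM a b)) = true := by decide +kernel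

theorem syl_one : memN sylC oneM = true := by decide +kernel

theorem syl_count : sylC.Nodup ∧ sylC.length = 64 := by decide +kernel

/-- the Sylow subgroup -/
def sylP : Subgroup U4 where
  carrier := {g | cd4 g ∈ sylC}
  one_mem' := by
    show cd4 1 ∈ sylC
    rw [cd4_one]; exact memN_iff.1 syl_one
  mul_mem' {a b} ha hb := by
    show cd4 (a * b) ∈ sylC
    rw [cd4_mul]
    exact memN_iff.1 (List.all_eq_true.1 (List.all_eq_true.1 syl_closed _ ha) _ hb)
  inv_mem' {a} ha := by
    have hp : ∀ n : ℕ, cd4 (a ^ n) ∈ sylC := fun n => by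
      induction n with
      | zero => rw [pow_zero, cd4_one]; exact memN_iff.1 syl_one
      | succ n ih =>
        rw [pow_succ, cd4_mul]
        exact memN_iff.1 (List.all_eq_true.1 (List.all_eq_true.1 syl_closed _ ih) _ ha)
    show cd4 a⁻¹ ∈ sylC
    have e : a⁻¹ = a ^ (orderOf a - 1) := by
      refine inv_eq_of_mul_eq_one_right ?_
      rw [← pow_succ', Nat.sub_add_cancel (orderOf_pos a), pow_orderOf_eq_one]
    rw [e]; exact hp _

theorem mem_sylP {g : U4} : g ∈ sylP ↔ cd4 g ∈ sylC := Iff.rfl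

theorem word_mem {p : ℕ × List ℕ} (hp : p ∈ sylL) : wU p.2 ∈ sylP ∧ cd4 (wU p.2) = p.1 := by
  have h := List.all_eq_true.1 syl_words p hp
  simp only [Bool.and_eq_true, Nat.beq_eq] at h
  have e := (cd4_wU h.1).trans h.2
  refine ⟨mem_sylP.2 ?_, e⟩
  rw [e]
  exact List.mem_map.2 ⟨p, hp, rfl⟩

theorem card_sylP : Nat.card sylP = 2 ^ 6 := by
  classical
  obtain ⟨hnd, hlen⟩ := syl_count
  refine le_antisymm ?_ ?_
  · have hinj : Function.Injective fun g : sylP => (⟨cd4 (g : U4), List.mem_toFinset.2 g.2⟩ :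
        {c // c ∈ sylC.toFinset}) := fun g h e =>
      Subtype.ext (cd4_injective (congrArg Subtype.val e))
    have := Nat.card_le_card_of_injective _ hinj
    rwa [Nat.card_eq_fintype_card (α := {c // c ∈ sylC.toFinset}), Fintype.card_coe,
      List.toFinset_card_of_nodup hnd, hlen] at this
  · have hw : ∀ c : {c // c ∈ sylC.toFinset}, ∃ g : sylP, cd4 (g : U4) = c.1 := fun c => by
      obtain ⟨p, hp, e⟩ := List.mem_map.1 (List.mem_toFinset.1 c.2)
      exact ⟨⟨_, (word_mem hp).1⟩, (word_mem hp).2.trans e⟩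
    choose f hf' using hw
    have hinj : Function.Injective f := fun a b e => Subtype.ext (by rw [← hf' a, ← hf' b, e])
    have := Nat.card_le_card_of_injective f hinj
    rwa [Nat.card_eq_fintype_card (α := {c // c ∈ sylC.toFinset}), Fintype.card_coe,
      List.toFinset_card_of_nodup hnd, hlen] at this

/-- the Sylow 2-subgroup -/
noncomputable def sylS : Sylow 2 U4 :=
  Sylow.ofCard sylP (by
    rw [card_sylP, card_U4]
    congr 1
    rw [show (25920 : ℕ) = 2 ^ 6 * 405 by norm_num, Nat.factorization_mul (by norm_num) (by norm_num)]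
    rw [Finsupp.add_apply, Nat.Prime.factorization_pow Nat.prime_two, Finsupp.single_eq_same,
      Nat.factorization_eq_zero_of_not_dvd (by norm_num : ¬ 2 ∣ 405)])

theorem exists_conj_le {Y : Subgroup U4} (hY : IsPGroup 2 Y) :
    ∃ g : U4, ∀ y ∈ Y, g * y * g⁻¹ ∈ sylP := by
  haveI := Fact.mk Nat.prime_two
  obtain ⟨S, hS⟩ := hY.exists_le_sylow
  obtain ⟨g, hg⟩ := MulAction.exists_smul_eq U4 S sylS
  refine ⟨g, fun y hy => ?_⟩
  have h1 : g * y * g⁻¹ ∈ ((g • S : Sylow 2 U4) : Subgroup U4) := by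
    rw [Sylow.smul_def, Sylow.pointwise_smul_def]
    exact ⟨y, hS hy, rfl⟩
  rw [hg] at h1
  exact h1

/-- commuting involutions of the Sylow subgroup by codes -/
def commB (g : ℕ) : List ℕ :=
  sylC.filter fun h => Nat.beq (mulM h h) oneM && Nat.beq (mulM g h) (mulM h g)

theorem outside_line : (sylC.all fun g => memN lineL g || !Nat.beq (mulM g g) oneM ||
    Nat.blt (commB g).length 16) = true := by decide +kernel

theorem line_len : lineL.length = 16 ∧ lineL.Nodup := by decide +kernel

theorem line_pts : (linePts.all fun x => isoB x && memN lineL (tM x)) = true := by decide +kernel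

theorem two_commutators : ∃ a b c d : ℕ, a ∈ sylC ∧ b ∈ sylC ∧ c ∈ sylC ∧ d ∈ sylC ∧
    mulM (mulM a b) (mulM a b) ≠ oneM ∧ mulM (mulM c d) (mulM c d) ≠ oneM ∧
    mulM (mulM a b) (mulM a b) ≠ mulM (mulM c d) (mulM c d) ∧
    mulM a a = oneM ∧ mulM b b = oneM ∧ mulM c c = oneM ∧ mulM d d = oneM := by
  refine ⟨272630020, 1159360884, 272630020, 1327150257, ?_⟩
  decide +kernel

theorem rep_check : (sylC.all fun g => !Nat.beq (mulM g g) oneM || Nat.beq g oneM ||
    repL.any fun t => Nat.beq t.1 g && wB t.2.1 &&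
      Nat.beq (mulM (wM t.2.1) (mulM g (wM t.2.1.reverse)))
        (if Nat.beq t.2.2 0 then tM x₀C else mulM (tM x₀C) (tM 80))) = true := by decide +kernel

end Fus

end CfsgLib.U62Cent
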