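import Cfsg.Agent.Lib.U62Cent.Defs

/-!
Codes of the 256 vectors of the natural module of `U₄(2)` and of the hermitian form.
-/

set_option autoImplicit false
set_option maxRecDepth 100000

namespace CfsgLib.U62Cent

open CfsgLib.Spor.U62 (kOf kCode kOf_code kCode_lt mulN kOf_add kOf_mul xor_lt mulN_lt sqN)

/-- entry of a coded vector -/
def e4 (c i : ℕ) : ℕ := Nat.land (Nat.shiftRight c (2 * i)) 3

/-- code of a vector -/
def vc4 (v : V4) : ℕ := kCode (v 0) + 4 * kCode (v 1) + 16 * kCode (v 2) + 64 * kCode (v 3)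

/-- vector of a code -/
def vo4 (c : ℕ) : V4 := fun i => kOf (e4 c i)

theorem e4_lt (c i : ℕ) : e4 c i < 4 := Spor.U62.land_three_lt _

theorem vc4_lt (v : V4) : vc4 v < 256 := by
  have := kCode_lt (v 0); have := kCode_lt (v 1); have := kCode_lt (v 2); have := kCode_lt (v 3)
  unfold vc4; omega

theorem e4_pack_aux : ∀ a < 4, ∀ b < 4, ∀ c < 4, ∀ d < 4,
    e4 (a + 4 * b + 16 * c + 64 * d) 0 = a ∧ e4 (a + 4 * b + 16 * c + 64 * d) 1 = b ∧
    e4 (a + 4 * b + 16 * c + 64 * d) 2 = c ∧ e4 (a + 4 * b + 16 * c + 64 * d) 3 = d := by decide +kernel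

theorem vo4_vc4 (v : V4) : vo4 (vc4 v) = v := by
  obtain ⟨h0, h1, h2, h3⟩ := e4_pack_aux _ (kCode_lt (v 0)) _ (kCode_lt (v 1)) _ (kCode_lt (v 2))
    _ (kCode_lt (v 3))
  funext i
  fin_cases i <;> simp only [vo4, vc4, Fin.zero_eta, Fin.mk_one, Fin.reduceFinMk, h0, h1, h2, h3,
    kOf_code]

theorem vc4_vo4 : ∀ c < 256, vc4 (vo4 c) = c := by decide +kernel

theorem vc4_inj {u v : V4} (h : vc4 u = vc4 v) : u = v := by rw [← vo4_vc4 u, ← vo4_vc4 v, h]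

/-- sum of coded vectors -/
def addC (a b : ℕ) : ℕ := Nat.xor a b

/-- multiple of a coded vector -/
def smC4 (k a : ℕ) : ℕ :=
  mulN k (e4 a 0) + 4 * mulN k (e4 a 1) + 16 * mulN k (e4 a 2) + 64 * mulN k (e4 a 3)

/-- the form on codes -/
def hC4 (a b : ℕ) : ℕ :=
  Nat.xor (Nat.xor (Nat.xor (mulN (e4 a 0) (sqN (e4 b 0))) (mulN (e4 a 1) (sqN (e4 b 1))))
    (mulN (e4 a 2) (sqN (e4 b 2)))) (mulN (e4 a 3) (sqN (e4 b 3)))

/-- transvection on codes -/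
def tC4 (x a : ℕ) : ℕ := addC a (smC4 (hC4 a x) x)

/-- code of the base point -/
def x₀C : ℕ := 5

theorem x₀_code : vc4 x₀ = x₀C := by decide +kernel

theorem kOf_hC4 (u v : V4) : kOf (hC4 (vc4 u) (vc4 v)) = hf u v := by
  have he : ∀ (w : V4) (i : Fin 4), kOf (e4 (vc4 w) i) = w i := fun w i => congrFun (vo4_vc4 w) i
  have hs : ∀ x < 4, kOf (sqN x) = kOf x ^ 2 := by decide +kernel
  have m := fun a b => mulN_lt a b
  have hq : ∀ x, sqN x < 4 := fun x => mulN_lt _ _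
  rw [hC4, kOf_add _ (xor_lt (xor_lt (m _ _) (m _ _)) (m _ _)) _ (m _ _),
    kOf_add _ (xor_lt (m _ _) (m _ _)) _ (m _ _), kOf_add _ (m _ _) _ (m _ _),
    kOf_mul _ (e4_lt _ _) _ (hq _), kOf_mul _ (e4_lt _ _) _ (hq _),
    kOf_mul _ (e4_lt _ _) _ (hq _), kOf_mul _ (e4_lt _ _) _ (hq _),
    hs _ (e4_lt _ _), hs _ (e4_lt _ _), hs _ (e4_lt _ _), hs _ (e4_lt _ _)]
  have e0 := he u 0; have e1 := he u 1; have e2 := he u 2; have e3 := he u 3
  have f0 := he v 0; have f1 := he v 1; have f2 := he v 2; have f3 := he v 3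
  simp only [Fin.val_zero, Fin.val_one, Fin.val_two, show ((3 : Fin 4) : ℕ) = 3 from rfl] at *
  rw [e0, e1, e2, e3, f0, f1, f2, f3]
  simp [hf, Cfsg.hermForm, Fin.sum_univ_four]

theorem kOf_add_all : ∀ a < 256, ∀ i < 4, ∀ b < 256, e4 (addC a b) i = Nat.xor (e4 a i) (e4 b i) := by
  intro a _ i _ b _
  show ((a ^^^ b) >>> (2 * i)) &&& 3 = ((a >>> (2 * i)) &&& 3) ^^^ ((b >>> (2 * i)) &&& 3)
  rw [Nat.shiftRight_xor_distrib, Nat.and_xor_distrib_right]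

theorem addC_lt {a b : ℕ} (ha : a < 256) (hb : b < 256) : addC a b < 256 :=
  Nat.xor_lt_two_pow (n := 8) ha hb

theorem vc4_add (u v : V4) : vc4 (u + v) = addC (vc4 u) (vc4 v) := by
  refine (vc4_vo4 _ (addC_lt (vc4_lt u) (vc4_lt v))).symm.trans (congrArg vc4 ?_) |>.symm
  funext i
  show kOf (e4 _ i) = _
  rw [kOf_add_all _ (vc4_lt u) i i.2 _ (vc4_lt v), kOf_add _ (e4_lt _ _) _ (e4_lt _ _)]
  exact congrArg₂ (· + ·) (congrFun (vo4_vc4 u) i) (congrFun (vo4_vc4 v) i)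

theorem vc4_smul (c : K4) (v : V4) : vc4 (c • v) = smC4 (kCode c) (vc4 v) := by
  obtain ⟨h0, h1, h2, h3⟩ := e4_pack_aux _ (kCode_lt (v 0)) _ (kCode_lt (v 1)) _ (kCode_lt (v 2))
    _ (kCode_lt (v 3))
  have hm0 : ∀ a < 4, ∀ b < 4, kCode (kOf a * kOf b) = mulN a b := by decide +kernel
  have hm : ∀ x y : K4, kCode (x * y) = mulN (kCode x) (kCode y) := fun x y => by
    rw [← hm0 _ (kCode_lt x) _ (kCode_lt y), kOf_code, kOf_code]
  simp only [smC4, vc4, h0, h1, h2, h3, Pi.smul_apply, smul_eq_mul, hm]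

theorem hC4_lt (a b : ℕ) : hC4 a b < 4 :=
  xor_lt (xor_lt (xor_lt (mulN_lt _ _) (mulN_lt _ _)) (mulN_lt _ _)) (mulN_lt _ _)

theorem vc4_tv (x v : V4) : vc4 (tv x v) = tC4 (vc4 x) (vc4 v) := by
  have hk : ∀ a < 4, kCode (kOf a) = a := by decide +kernel
  rw [tv, vc4_add, vc4_smul, tC4, ← kOf_hC4 v x, hk _ (hC4_lt _ _)]

theorem hf_eq_iff {u v : V4} {c : ℕ} (hc : c < 4) : hf u v = kOf c ↔ hC4 (vc4 u) (vc4 v) = c :=
  ⟨fun h => Spor.U62.kOf_inj _ (hC4_lt _ _) _ hc (by rw [kOf_hC4, h]), fun h => by rw [← kOf_hC4, h]⟩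

theorem hf_zero_iff {u v : V4} : hf u v = 0 ↔ hC4 (vc4 u) (vc4 v) = 0 := by
  rw [← hf_eq_iff (by norm_num : 0 < 4)]
  rfl

/-- a statement about all vectors from a statement about all codes -/
theorem forall_V4 {p : ℕ → Prop} (h : ∀ c < 256, p c) (v : V4) : p (vc4 v) := h _ (vc4_lt v)

end CfsgLib.U62Cent
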