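import Cfsg.Agent.Lib.ThreeTransp.CentralPair
import Cfsg.Agent.Lib.Spor.U62.Code
import Cfsg.Prelude.Def_TwoFusion

/-!
Groups with an involution whose centraliser is `2^(1+8)` extended by `U₄(2)` or its automorphism group:
interface of S3230 and S3231 (plan: tools/S3230_plan.md).
-/

set_option autoImplicit false

namespace CfsgLib.U62Cent

open CfsgLib.ThreeTransp
open Matrix

universe u

variable {G : Type u} [Group G]

/-- the field of order four -/
abbrev K4 : Type := CfsgLib.Spor.U62.K4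

/-- the natural module -/
abbrev V4 : Type := Fin 4 → K4

/-- the hermitian form -/
abbrev hf (u v : V4) : K4 := Cfsg.hermForm 4 K4 2 u v

/-- the transvection of an isotropic vector -/
def tv (x v : V4) : V4 := v + hf v x • x

/-- the base point -/
def x₀ : V4 := ![1, 1, 0, 0]

/-- the orthogonal module of minus type -/
abbrev V6 : Type := Fin 6 → ZMod 2

/-- its quadratic form -/
def q6 (v : V6) : ZMod 2 := v 0 * v 1 + v 2 * v 3 + v 4 * v 4 + v 4 * v 5 + v 5 * v 5

/-- the involution inside its centraliser -/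
def zC (z : G) : Subgroup.centralizer ({z} : Set G) :=
  ⟨z, Subgroup.mem_centralizer_singleton_iff.2 rfl⟩

/-- The centraliser: `J` extraspecial of order `2^9`, `H₁` of index at most two with quotient `U₄(2)`. -/
structure Hyp (z : G) where
  /-- the extraspecial group -/
  J : Subgroup (Subgroup.centralizer ({z} : Set G))
  /-- the inner part -/
  H₁ : Subgroup (Subgroup.centralizer ({z} : Set G))
  [normJ : J.Normal]
  [normH : H₁.Normal]
  ord : orderOf z = 2
  xc : XCent J (zC z)
  card_J : Nat.card J = 2 ^ 9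
  le : J ≤ H₁
  index : H₁.index = 1 ∨ H₁.index = 2
  iso : Nonempty (↥H₁ ⧸ J.subgroupOf H₁ ≃* Cfsg.PSU 4 K4 2)
  faithful : ∀ h, (∀ x ∈ H₁, h * x * h⁻¹ * x⁻¹ ∈ J) → h ∈ J

attribute [instance] Hyp.normJ Hyp.normH

variable {z : G}

/-- Case A: `J/Z` is the natural module. -/
structure Nat4 (P : Hyp z) where
  /-- the projection -/
  vec : P.J → V4
  /-- the action -/
  act : Subgroup.centralizer ({z} : Set G) →* AddMonoid.End V4
  vec_mul : ∀ a b : P.J, vec (a * b) = vec a + vec b
  vec_surj : Function.Surjective vec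
  vec_eq_zero : ∀ a : P.J, vec a = 0 ↔ (a : Subgroup.centralizer ({z} : Set G)) = 1 ∨
    (a : Subgroup.centralizer ({z} : Set G)) = zC z
  vec_sq : ∀ a : P.J, a * a = 1 ↔ hf (vec a) (vec a) = 0
  vec_comm : ∀ a b : P.J, a * b = b * a ↔ (hf (vec a) (vec b)).im = 0
  vec_conj : ∀ h (a : P.J), vec (MulAut.conjNormal h a) = act h (vec a)
  ker_act : ∀ h, act h = 1 ↔ h ∈ P.J
  lin : ∀ h ∈ P.H₁, ∃ g ∈ Cfsg.SU 4 K4 2, ∀ v, act h v = (g : Matrix (Fin 4) (Fin 4) K4) *ᵥ v
  lift : ∀ g ∈ Cfsg.SU 4 K4 2, ∃ h ∈ P.H₁, ∀ v, act h v = (g : Matrix (Fin 4) (Fin 4) K4) *ᵥ v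
  semi : ∀ h, h ∉ P.H₁ → ∀ (c : K4) v, act h (c • v) = c ^ 2 • act h v
  act_norm : ∀ h v, hf (act h v) (act h v) = hf v v

/-- Case B: `J/Z` is a four-group plus the orthogonal module of minus type. -/
structure Six (P : Hyp z) where
  /-- the projection to the small summand -/
  sml : P.J → ZMod 2 × ZMod 2
  /-- the form of the small summand -/
  qU : ZMod 2 × ZMod 2 → ZMod 2
  /-- the projection to the large summand -/
  big : P.J → V6
  /-- the action on the small summand -/
  actU : Subgroup.centralizer ({z} : Set G) →* AddMonoid.End (ZMod 2 × ZMod 2)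
  /-- the action on the large summand -/
  act : Subgroup.centralizer ({z} : Set G) →* AddMonoid.End V6
  sml_mul : ∀ a b : P.J, sml (a * b) = sml a + sml b
  big_mul : ∀ a b : P.J, big (a * b) = big a + big b
  surj : ∀ u v, ∃ a : P.J, sml a = u ∧ big a = v
  eq_zero : ∀ a : P.J, (sml a = 0 ∧ big a = 0) ↔ (a : Subgroup.centralizer ({z} : Set G)) = 1 ∨
    (a : Subgroup.centralizer ({z} : Set G)) = zC z
  sq : ∀ a : P.J, a * a = 1 ↔ qU (sml a) + q6 (big a) = 0
  polU : qU (1, 1) + qU (1, 0) + qU (0, 1) = 1 ∧ qU 0 = 0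
  sml_conj : ∀ h (a : P.J), sml (MulAut.conjNormal h a) = actU h (sml a)
  big_conj : ∀ h (a : P.J), big (MulAut.conjNormal h a) = act h (big a)
  actU_inner : ∀ h ∈ P.H₁, actU h = 1
  ker_act : ∀ h ∈ P.H₁, act h = 1 → h ∈ P.J
  act_q : ∀ h v, q6 (act h v) = q6 v
  card_range : Nat.card ((P.H₁).map act.toHomUnits) = 25920

/-- What fusion gives in case A: the conjugates of `z` in its centraliser are `z` and one class of lifts
of transvections. -/
structure Fused {P : Hyp z} (M : Nat4 P) where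
  /-- the lift at the base point -/
  w : Subgroup.centralizer ({z} : Set G)
  w_inner : w ∈ P.H₁
  w_conj : IsConj z (w : G)
  w_act : ∀ v, M.act w v = tv x₀ v
  w_sq : w * w = 1
  one_class : ∀ y : Subgroup.centralizer ({z} : Set G), IsConj z (y : G) → (y : G) ≠ z →
    ∃ h ∈ P.H₁, y = h * w * h⁻¹
  no_wz : ¬ IsConj z ((w : G) * z)
  cent_R : ∀ a : P.J, hf (M.vec a) x₀ = 0 →
    (a : Subgroup.centralizer ({z} : Set G)) * w = w * a
  stab : ∀ h ∈ P.H₁, (∀ v, M.act h (tv x₀ v) = tv x₀ (M.act h v)) →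
    ∃ j ∈ P.J, (h * j) * w = w * (h * j)

end CfsgLib.U62Cent
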