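import Cfsg.Agent.Lib.U62Cent.FrameFin

/-!
The twenty-one points in nine binary coordinates and the finite facts about them.
-/

set_option autoImplicit false
set_option maxRecDepth 100000

namespace CfsgLib.U62Cent.Fr

open CfsgLib.Spor.U62 (kOf)

/-- coordinates of the points in the basis -/
def cP (P : Fin 21) : ℕ :=
  [1, 2, 4, 8, 15, 16, 32, 64, 113, 128, 183, 219, 237, 256, 343, 362, 316, 402, 500, 425, 462][P.val]!

/-- a code as a vector -/
def bits (x : ℕ) : Fin 9 → ZMod 2 := fun k => if Nat.testBit x k then 1 else 0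

theorem cP_lt : ∀ P : Fin 21, cP P < 512 := by decide +kernel

theorem cP_coord : ∀ P : Fin 21, ∀ k : Fin 9,
    ∑ j, bits (cP P) j * hv (basisP j) k = hv P k := by decide +kernel

theorem bits_xor (x y : ℕ) : bits (Nat.xor x y) = bits x + bits y := by
  funext k
  show (if Nat.testBit (x ^^^ y) k then (1 : ZMod 2) else 0) = _
  rw [Nat.testBit_xor]
  simp only [bits, Pi.add_apply]
  cases Nat.testBit x k <;> cases Nat.testBit y k <;> decide

theorem bits_inj : ∀ x < 512, (∀ k, bits x k = 0) → x = 0 := by decide +kernel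

/-- code of a coordinate vector -/
def ofBits (c : Fin 9 → ZMod 2) : ℕ := ∑ k, (c k).val * 2 ^ (k : ℕ)

theorem ofBits_spec : ∀ c : Fin 9 → ZMod 2, bits (ofBits c) = c ∧ ofBits c < 512 := by decide +kernel

theorem bits_zero : bits 0 = 0 := by decide +kernel

theorem pairSum_inj : ∀ P Q : Fin 21, bits (cP P) = bits (cP Q) → P = Q := by
  have h : ∀ P Q : Fin 21, cP P = cP Q → P = Q := by decide +kernel
  intro P Q e
  have e' : bits (Nat.xor (cP P) (cP Q)) = 0 := by
    rw [bits_xor, e]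
    funext k
    exact CharTwo.add_self_eq_zero _
  have := bits_inj _ (Nat.xor_lt_two_pow (n := 9) (cP_lt P) (cP_lt Q)) (congrFun e')
  exact h P Q (Nat.xor_eq_zero_iff.1 this)

/-- the witnesses: one, two or three points -/
def witL : List ℕ := [0, 0, 463, 1, 926, 2, 464, 1390, 1389, 3, 465, 928, 927, 466, 4, 1852, 2315, 5, 467, 26, 929, 47, 488, 1412, 1391, 68, 509, 971, 950, 530, 89, 1853, 2778, 6, 468, 27, 930, 48, 489, 1413, 1392, 69, 510, 972, 951, 531, 90, 1854, 2316, 3242, 552, 596, 993, 1037, 5094, 4168, 1434, 1478, 8336, 7873, 6022, 6483, 1919, 1875, 3241, 7, 469, 28, 931, 49, 490, 1414, 1393, 70, 511, 973, 952, 532, 91, 1855, 2317, 2780, 553, 575, 994, 1016, 6946, 6020, 1435, 1457, 4632, 4169, 7874, 8335, 1898, 1876, 2779, 2318, 574, 554, 1015, 995, 7872, 8798, 1456, 1436, 6021, 6484, 4631, 4170, 1877, 1897, 8, 3704, 29, 470, 50, 932, 1415, 491, 71, 1394, 974, 512, 533, 953, 1856, 92, 4167, 9, 471, 30, 933, 51, 492, 1416, 1395, 72, 513, 975, 954, 534, 93, 1857,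 2319, 114, 6023, 1018, 996, 7411, 136, 2782, 1437, 6488, 158, 3245, 3708, 180, 6948, 1878, 2781, 135, 576, 6486, 6950, 556, 115, 2320, 1458, 6025, 3707, 179, 159, 3246, 7409, 1899, 2340, 3264, 52, 934, 31, 472, 10, 4630, 1858, 94, 535, 955, 976, 514, 73, 1396, 3243, 156, 597, 6949, 1038, 6485, 3706, 178, 7410, 1942, 116, 2321, 138, 2784, 6026, 1920, 2361, 2823, 74, 1397, 1859, 95, 2383, 2803, 32, 473, 11, 5093, 1418, 494, 53, 935, 2802, 2382, 1860, 96, 75, 1398, 2824, 2362, 54, 936, 3266, 2342, 12, 5556, 33, 474, 177, 3705, 7412, 618, 6024, 1059, 157, 3244, 6947, 1500, 137, 2783, 117, 2322, 6487, 1480, 6019, 13, 475, 34, 937, 55, 496, 1420, 1399, 76, 517, 979, 958, 538, 97, 1861, 2323, 118, 4175, 1043, 1000, 5102, 161, 3248, 1441, 5562, 183, 3711, 2788, 142, 4639, 1882, 2785, 139, 580, 5564, 1021, 4637, 3710, 182, 1462, 4177, 3249, 162, 2326, 121, 1505, 5100, 2344, 3268, 100, 1864, 1402, 79, 5116, 4192, 940, 58, 4235, 4655, 7408, 16, 478, 37, 3247, 160, 601, 4638, 5563,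 560, 119, 2324, 1483, 5099, 2787, 141, 184, 3712, 4178, 1924, 2365, 2827, 56, 938, 35, 476, 14, 6482, 1862, 98, 4675, 4213, 980, 518, 77, 1400, 2806, 2386, 1401, 78, 99, 1863, 3269, 2345, 477, 36, 6945, 15, 4654, 4234, 939, 57, 181, 3709, 5101, 622, 4176, 1063, 140, 2786, 1904, 4640, 2325, 120, 3250, 163, 1945, 5561, 4171, 202, 2327, 2009, 1084, 3714, 267, 5559, 1525, 2791, 226, 4636, 5096, 245, 3254, 1966, 479, 3752, 7871, 17, 500, 1424, 941, 2869, 521, 983, 1403, 3331, 3793, 1865, 962, 542, 2848, 1405, 2348, 3272, 5120, 4196, 1867, 2428, 19, 8797, 3772, 481, 2891, 943, 6086, 6506, 246, 5097, 2789, 1105, 3252, 664, 223, 4633, 1987, 2329, 5558, 266, 4174, 205, 1148, 3716, 3289, 1868, 2369, 2831, 6968, 6044, 1406, 2408, 4679, 4217, 944, 2449, 482, 2911, 9260, 20, 268, 5560, 3251, 1567, 2790, 644, 203, 4172, 3715, 685, 244, 5095, 225, 4635, 2330, 1126, 4634, 224, 2029, 3713, 2328, 1588, 247, 5098, 1547, 3253, 4173, 204, 265, 5557, 2792, 706, 942, 3730, 2810, 2390, 8334,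 18, 480, 3310, 6065, 6527, 3353, 1866, 1404, 2470, 4658, 4238]

/-- three points of a code -/
def wit3 (x : ℕ) : Fin 21 × Fin 21 × Fin 21 :=
  (Fin.ofNat 21 (witL[x]! % 21), Fin.ofNat 21 (witL[x]! / 21 % 21), Fin.ofNat 21 (witL[x]! / 441))

/-- the check of a witness -/
def witB (x : ℕ) : Bool :=
  let a := (wit3 x).1
  let b := (wit3 x).2.1
  let c := (wit3 x).2.2
  (cP a == x) || (a != b && (Nat.xor (cP a) (cP b) == x)) ||
    (a != b && a != c && b != c && (Nat.xor (Nat.xor (cP a) (cP b)) (cP c) == x))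

theorem wit_check : ∀ x < 512, x ≠ 0 → witB x = true := by decide +kernel

/-- all sums of two different points -/
def pairsN : ℕ := 1276908918005740268808325636131585662042076376256298824525274889621505282899477634744730128878099354979905863316271114800919862548820461592678786739371752

theorem pairs_check : ∀ P Q : Fin 21, P ≠ Q → Nat.testBit pairsN (Nat.xor (cP P) (cP Q)) = true := by
  decide +kernel

/-- a fourth point keeping away from the pairs -/
def outB (a b c : Fin 21) : Bool :=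
  (a == b) || (a == c) || (b == c) || (List.finRange 21).any fun y =>
    !Nat.testBit pairsN (Nat.xor (Nat.xor (Nat.xor (cP a) (cP b)) (cP c)) (cP y))

theorem out_check : ∀ a b c : Fin 21, outB a b c = true := by decide +kernel

/-- five points on a line -/
theorem rel_check : (bits (cP 0) + (bits (cP 1) + (bits (cP 2) + (bits (cP 3) + bits (cP 4))))) = 0 := by
  decide +kernel

end CfsgLib.U62Cent.Fr
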