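import Cfsg.Agent.Lib.U62Cent.FrameSec
import Cfsg.Agent.Lib.U62Cent.FrameFin2

/-!
The twenty-one members over the base line generate an elementary abelian group of order `2 ^ 9` with
the coordinates of the hermitian forms on the plane.
-/

set_option autoImplicit false
set_option linter.unusedSectionVars false
set_option linter.style.haveILetI false
set_option maxHeartbeats 300000

namespace CfsgLib.U62Cent.Fr

open Matrix
open CfsgLib.Spor.U62 (kOf kCode kOf_code kCode_lt)

universe u

variable {G : Type u} [Group G] [Finite G] {z : G} {P : Hyp z} {M : Nat4 P} {F : Fused M}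

theorem hf_zero_left' (u : V4) : hf 0 u = 0 := by simp [hf, Cfsg.hermForm]

theorem hf_zero_right' (u : V4) : hf u 0 = 0 := by simp [hf, Cfsg.hermForm]

/-- the vector with given values at the two base points -/
def uV (a b : K4) : V4 := ![a, 0, b, 0]

theorem hf_uV_x₀ (a b : K4) : hf (uV a b) x₀ = a := by
  simp [uV, hf, Cfsg.hermForm, Fin.sum_univ_four, x₀]

theorem hf_uV_bV (a b : K4) : hf (uV a b) bV = b := by
  simp [uV, hf, Cfsg.hermForm, Fin.sum_univ_four, bV]

theorem hf_uV_rV (a b : K4) (i : Fin 5) : hf (uV a b) (rV i) = rA i ^ 2 * a + rB i ^ 2 * b := by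
  rw [hf_rV, hf_uV_x₀, hf_uV_bV]

/-- a vector with a given value at one point -/
def tV (i : Fin 5) (d : K4) : V4 := if i = 1 then uV 0 d else uV d 0

theorem hf_tV (i : Fin 5) (d : K4) : hf (tV i d) (rV i) = d := by
  have h : ∀ j : Fin 5, (if j = 1 then rB j ^ 2 else rA j ^ 2) = 1 := by decide +kernel
  have := h i
  unfold tV
  split_ifs with hi <;> simp only [hi, if_true, if_false] at this <;>
    rw [hf_uV_rV] <;> simp [this, hi]

/-- an element of `J` over a vector -/
noncomputable def jAt (M : Nat4 P) (v : V4) : P.J := Function.surjInv M.vec_surj v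

theorem vec_jAt (v : V4) : M.vec (jAt M v) = v := Function.surjInv_eq M.vec_surj v

variable (S : Sec M F)

/-- the twenty-one points -/
noncomputable def pt (p : Fin 21) : Cz z :=
  if p = 0 then zC z
  else (jAt M (tV (iOf p) (kOf (dOf p))) : Cz z) * S.w (iOf p) * (jAt M (tV (iOf p) (kOf (dOf p))) : Cz z)⁻¹

/-- their isotropic vectors -/
def xP (p : Fin 21) : V4 := if p = 0 then 0 else rV (iOf p)

theorem xP_perp (p q : Fin 21) : hf (xP p) (xP q) = 0 := by
  unfold xP
  split_ifs <;> simp only [hf_zero_left', hf_zero_right', Fr.rV_perp]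

variable (hH : P.H₁ = ⊤)
include hH

theorem pt_mem {p : Fin 21} (hp : p ≠ 0) : Mem M (pt S p) (rV (iOf p)) := by
  rw [pt, if_neg hp]
  exact (S.mem _).translate hH F _

theorem pt_act (p : Fin 21) (v : V4) : M.act (pt S p) v = tv (xP p) v := by
  by_cases hp : p = 0
  · rw [pt, if_pos hp, act_J P.xc.mem, xP, if_pos hp, tv, smul_zero, add_zero]
  · rw [xP, if_neg hp]
    exact (pt_mem S hH hp).act v

theorem pt_comm (p q : Fin 21) : pt S p * pt S q = pt S q * pt S p := by
  by_cases hp : p = 0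
  · rw [hp, show pt S 0 = zC z from if_pos rfl]; exact (zC_comm _).symm
  by_cases hq : q = 0
  · rw [hq, show pt S 0 = zC z from if_pos rfl]; exact zC_comm _
  exact (orth_comm hH F (pt_mem S hH hp) (pt_mem S hH hq) (Fr.rV_perp _ _)).eq

theorem pt_sq (p : Fin 21) : pt S p * pt S p = 1 := by
  by_cases hp : p = 0
  · rw [hp, show pt S 0 = zC z from if_pos rfl]; exact z_sq P
  · exact (pt_mem S hH hp).sq hH F

theorem pt_conj (p : Fin 21) : IsConj z (pt S p : G) := by
  by_cases hp : p = 0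
  · rw [hp, show pt S 0 = zC z from if_pos rfl]; exact IsConj.refl z
  · exact (pt_mem S hH hp).conj

theorem pt_mkP (i : Fin 5) {d : ℕ} (hd : d < 4) (j : P.J) (hj : hf (M.vec j) (rV i) = kOf d) :
    (j : Cz z) * S.w i * (j : Cz z)⁻¹ = pt S (mkP i d) := by
  obtain ⟨h0, hi, hd'⟩ := Fr.mkP_spec i d hd
  rw [pt, if_neg h0, hi, hd', (S.mem i).trans_eq hH F, hj, vec_jAt, hf_tV]

theorem pt_inj {p q : Fin 21} (h : pt S p = pt S q) : p = q := by
  by_cases hp : p = 0
  · by_contra hq
    refine (pt_mem S hH (p := q) (fun e => hq (hp.trans e.symm))).ne_z ?_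
    rw [← h, hp, show pt S 0 = zC z from if_pos rfl]
    rfl
  by_cases hq : q = 0
  · refine absurd ?_ (pt_mem S hH hp).ne_z
    rw [h, hq, show pt S 0 = zC z from if_pos rfl]
    rfl
  have hi : iOf p = iOf q := Mem.idx_eq (pt_mem S hH hp) (h ▸ pt_mem S hH hq)
  rw [pt, pt, if_neg hp, if_neg hq, hi, (S.mem _).trans_eq hH F, vec_jAt, vec_jAt, hf_tV, hf_tV] at h
  rw [← Fr.mkP_eta p hp, ← Fr.mkP_eta q hq, hi,
    Spor.U62.kOf_inj _ (Fr.dOf_lt p) _ (Fr.dOf_lt q) h]

theorem pt_fibre {y : Cz z} {i : Fin 5} (hy : Mem M y (rV i)) : ∃ p, p ≠ 0 ∧ iOf p = i ∧ pt S p = y := by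
  obtain ⟨j, rfl⟩ := (S.mem i).fibre hH F hy
  have hd := kCode_lt (hf (M.vec j) (rV i))
  exact ⟨_, (Fr.mkP_spec i _ hd).1, (Fr.mkP_spec i _ hd).2.1,
    (pt_mkP S hH i hd j (kOf_code _).symm).symm⟩

omit hH in
/-- the group of the points -/
noncomputable def AC : Subgroup (Cz z) := Subgroup.closure (Set.range (pt S))

theorem AC_comm {a b : Cz z} (ha : a ∈ AC S) (hb : b ∈ AC S) : a * b = b * a := by
  have h : AC S ≤ Subgroup.centralizer (AC S : Set (Cz z)) := by
    rw [AC, Subgroup.closure_le]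
    rintro _ ⟨p, rfl⟩
    rw [SetLike.mem_coe, Subgroup.centralizer_closure, Subgroup.mem_centralizer_iff]
    rintro _ ⟨q, rfl⟩
    exact pt_comm S hH q p
  exact Subgroup.mem_centralizer_iff.1 (h hb) a ha

omit hH in
/-- the group as a commutative group -/
@[reducible] noncomputable def acInst (hH : P.H₁ = ⊤) : CommGroup (AC S) :=
  { (AC S).toGroup with mul_comm := fun a b => Subtype.ext (AC_comm S hH a.2 b.2) }

omit hH in
/-- a point in the group -/
noncomputable def ap' (p : Fin 21) : AC S := ⟨pt S p, Subgroup.subset_closure ⟨p, rfl⟩⟩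

omit hH in
/-- the element with given multiplicities -/
noncomputable def eN (hH : P.H₁ = ⊤) (n : Fin 21 → ZMod 2) : AC S :=
  letI := acInst S hH; ∏ p, ap' S p ^ (n p).val

theorem eN_add (m n : Fin 21 → ZMod 2) : eN S hH (m + n) = eN S hH m * eN S hH n := by
  letI := acInst S hH
  show ∏ p, ap' S p ^ ((m + n) p).val = (∏ p, ap' S p ^ (m p).val) * ∏ p, ap' S p ^ (n p).val
  rw [← Finset.prod_mul_distrib]
  refine Finset.prod_congr rfl fun p _ => ?_
  have h : ap' S p * ap' S p = 1 := Subtype.ext (pt_sq S hH p)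
  have hz : ∀ a : ZMod 2, a = 0 ∨ a = 1 := by decide
  rw [Pi.add_apply, ← pow_add]
  rcases hz (m p) with e | e <;> rcases hz (n p) with e' | e' <;> rw [e, e']
  · rfl
  · rfl
  · rfl
  · show ap' S p ^ 0 = ap' S p ^ 2
    rw [pow_two, h, pow_zero]

theorem eN_zero : eN S hH 0 = 1 := by
  letI := acInst S hH
  exact Finset.prod_eq_one fun p _ => pow_zero _

theorem eN_single (p : Fin 21) : eN S hH (Pi.single p 1) = ap' S p := by
  letI := acInst S hH
  show ∏ q, ap' S q ^ ((Pi.single p 1 : Fin 21 → ZMod 2) q).val = ap' S p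
  rw [Finset.prod_eq_single p]
  · rw [Pi.single_eq_same]; exact pow_one _
  · intro q _ hq; rw [Pi.single_eq_of_ne hq]; exact pow_zero _
  · intro h; exact absurd (Finset.mem_univ p) h

theorem eN_surj (a : AC S) : ∃ n, eN S hH n = a := by
  obtain ⟨a, ha⟩ := a
  induction ha using Subgroup.closure_induction with
  | mem y hy => obtain ⟨p, rfl⟩ := hy; exact ⟨_, eN_single S hH p⟩
  | one => exact ⟨0, eN_zero S hH⟩
  | mul a b _ _ iha ihb =>
    obtain ⟨m, hm⟩ := iha
    obtain ⟨n, hn⟩ := ihb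
    exact ⟨m + n, by rw [eN_add, hm, hn]; rfl⟩
  | inv a _ iha =>
    obtain ⟨m, hm⟩ := iha
    refine ⟨m, eq_inv_of_mul_eq_one_left ?_ |>.trans (congrArg Inv.inv hm)⟩
    rw [← eN_add]
    convert eN_zero S hH
    funext p
    exact CharTwo.add_self_eq_zero _

/-- the action of a product -/
theorem eN_act (φ : AC S →* Cz z) (x : Fin 21 → V4) (hx : ∀ p v, M.act (φ (ap' S p)) v = tv (x p) v)
    (ho : ∀ p q, hf (x p) (x q) = 0) (n : Fin 21 → ZMod 2) (v : V4) :
    M.act (φ (eN S hH n)) v = v + ∑ p, n p • (hf v (x p) • x p) := by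
  classical
  letI := acInst S hH
  suffices ∀ s : Finset (Fin 21), M.act (φ (∏ p ∈ s, ap' S p ^ (n p).val)) v
      = v + ∑ p ∈ s, n p • (hf v (x p) • x p) from this Finset.univ
  intro s
  induction s using Finset.induction with
  | empty => rw [Finset.prod_empty, map_one, act_one, Finset.sum_empty, add_zero]
  | insert p s hp ih =>
    rw [Finset.prod_insert hp, map_mul, act_mul, ih, Finset.sum_insert hp]
    have hz : ∀ a : ZMod 2, a = 0 ∨ a = 1 := by decide
    rcases hz (n p) with e | e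
    · rw [e, zero_smul, zero_add, show ap' S p ^ ((0 : ZMod 2)).val = 1 from pow_zero _, map_one, act_one]
    · rw [e, one_smul, show ap' S p ^ ((1 : ZMod 2)).val = ap' S p from pow_one _, hx]
      have h0 : hf (∑ q ∈ s, n q • (hf v (x q) • x q)) (x p) = 0 := by
        let L : V4 →+ K4 := AddMonoidHom.mk' (fun u => hf u (x p)) fun u u' => hf_add_left u u' (x p)
        show L _ = 0
        rw [map_sum]
        refine Finset.sum_eq_zero fun q _ => ?_
        show hf (n q • (hf v (x q) • x q)) (x p) = 0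
        rcases hz (n q) with e' | e' <;> rw [e']
        · rw [zero_smul, hf_zero_left']
        · rw [one_smul, hf_smul_left, ho, mul_zero]
      rw [tv, hf_add_left, h0, add_zero, add_right_comm, add_assoc]

omit hH in
/-- the parity over one class -/
def par (n : Fin 21 → ZMod 2) (ex : Fin 21) (cl : Fin 21 → Fin 5) (k : Fin 5) : ZMod 2 :=
  ∑ p, if p ≠ ex ∧ cl p = k then n p else 0

theorem par_of_rel (φ : AC S →* Cz z) (ex : Fin 21) (cl : Fin 21 → Fin 5) (σ : Fin 5 → Fin 5)
    (hσ : Function.Injective σ)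
    (hφ : ∀ p v, M.act (φ (ap' S p)) v = tv (if p = ex then 0 else rV (σ (cl p))) v)
    (n : Fin 21 → ZMod 2) (hn : eN S hH n = 1) (k : Fin 5) : par n ex cl k = par n ex cl 0 := by
  classical
  set e := Equiv.ofBijective σ ⟨hσ, Finite.surjective_of_injective hσ⟩
  have key : ∀ i, (fun i => par n ex cl (e.symm i)) i = (fun i => par n ex cl (e.symm i)) 0 := by
    refine indep_of_act (q := fun i => par n ex cl (e.symm i)) fun v => ?_
    have h := eN_act S hH φ (fun p => if p = ex then 0 else rV (σ (cl p))) hφ (fun p q => by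
      beta_reduce
      split_ifs <;> simp only [hf_zero_left', hf_zero_right', Fr.rV_perp]) n v
    rw [hn, map_one, act_one, left_eq_add] at h
    rw [← h]
    simp only [par, Finset.sum_smul]
    rw [Finset.sum_comm]
    refine Finset.sum_congr rfl fun p _ => ?_
    by_cases hp : p = ex
    · simp [hp]
    · rw [Finset.sum_eq_single (σ (cl p))]
      · rw [if_pos ⟨hp, (e.symm_apply_apply (cl p)).symm⟩, if_neg hp]
      · intro i _ hi
        rw [if_neg fun h => hi (by rw [h.2]; exact (e.apply_symm_apply i).symm), zero_smul]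
      · intro h; exact absurd (Finset.mem_univ _) h
  have h1 := key (σ k)
  have h2 := key (σ 0)
  simp only at h1 h2
  rw [show e.symm (σ k) = k from e.symm_apply_apply k] at h1
  rw [show e.symm (σ 0) = 0 from e.symm_apply_apply 0] at h2
  rw [h1, h2]

theorem par_z (n : Fin 21 → ZMod 2) (hn : eN S hH n = 1) (k : Fin 5) :
    par n 0 iOf k = par n 0 iOf 0 :=
  par_of_rel S hH (AC S).subtype 0 iOf id Function.injective_id (fun p v => pt_act S hH p v) n hn k

theorem w_eq : pt S (mkP 0 0) = F.w := by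
  rw [← pt_mkP S hH 0 (by norm_num) 1 (by
    rw [vec_one, hf_zero_left']; decide +kernel), S.w0]
  simp

theorem exists_transport : ∃ φ : AC S →* Cz z, ∃ σ : Fin 5 → Fin 5, Function.Injective σ ∧
    ∀ p v, M.act (φ (ap' S p)) v = tv (if p = mkP 0 0 then 0 else rV (σ (Fr.clsC p))) v := by
  classical
  have hwA : F.w ∈ AC S := Subgroup.subset_closure ⟨_, w_eq S hH⟩
  have hcom : ∀ a : AC S, Commute (S.g * ((a : Cz z) : G) * S.g⁻¹) z := fun a => by
    have h1 : Commute (((a : Cz z) : G)) (F.w : G) :=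
      (show Commute (a : Cz z) F.w from AC_comm S hH a.2 hwA).map (Subgroup.subtype _)
    have := (Commute.conj_iff S.g).2 h1
    rwa [S.gw] at this
  let φ : AC S →* Cz z :=
    { toFun := fun a => toCz S.g (a : Cz z) (hcom a)
      map_one' := Subtype.ext (by simp [toCz])
      map_mul' := fun a b => Subtype.ext (by simp [toCz, mul_assoc]) }
  have φinj : Function.Injective φ := fun a b h =>
    Subtype.ext (Subtype.ext (mul_left_cancel (mul_right_cancel (congrArg Subtype.val h))))
  have φw : φ (ap' S (mkP 0 0)) = zC z := Subtype.ext (by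
    show S.g * ((pt S (mkP 0 0) : Cz z) : G) * S.g⁻¹ = z
    rw [w_eq S hH, S.gw])
  have φne : ∀ p, p ≠ mkP 0 0 → (φ (ap' S p) : G) ≠ z := fun p hp e => hp (pt_inj S hH
    (congrArg Subtype.val (φinj ((Subtype.ext e : φ (ap' S p) = zC z).trans φw.symm))))
  obtain ⟨yz, x, hyz, hyzM, s, t, ht, rfl⟩ := S.gz
  have φz : φ (ap' S 0) = yz := Subtype.ext (by
    rw [hyz]
    show S.g * ((pt S 0 : Cz z) : G) * S.g⁻¹ = _
    rw [show pt S 0 = zC z from if_pos rfl]
    rfl)
  obtain ⟨yb, hyb, hybM⟩ := S.gi 1 (by decide)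
  have φb : ∃ p, φ (ap' S p) = yb := by
    refine ⟨mkP 1 0, Subtype.ext ?_⟩
    rw [hyb]
    show S.g * ((pt S (mkP 1 0) : Cz z) : G) * S.g⁻¹ = _
    rw [← pt_mkP S hH 1 (by norm_num) 1 (by rw [vec_one, hf_zero_left']; decide +kernel)]
    simp
  have φcomm : ∀ p q, Commute (φ (ap' S p)) (φ (ap' S q)) := fun p q =>
    (show Commute (ap' S p) (ap' S q) from Subtype.ext (pt_comm S hH p q)).map φ
  have himg : ∀ p, p ≠ mkP 0 0 → ∃ i, Mem M (φ (ap' S p)) (rV i) := by
    intro p hp
    obtain ⟨xp, hxp⟩ := exists_mem hH F ((pt_conj S hH p).trans (isConj_iff.2 ⟨S.g, rfl⟩) :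
      IsConj z (φ (ap' S p) : G)) (φne p hp)
    obtain ⟨q, hq⟩ := φb
    have o1 := orth_of_comm hH hxp hybM (hq ▸ φcomm p q)
    have o2 := orth_of_comm hH hxp hyzM (φz ▸ φcomm p 0)
    rw [hf_add_right, hf_smul_right, hf_smul_right, o1, mul_zero, zero_add, mul_eq_zero] at o2
    exact hxp.on_line hH o1 (o2.resolve_left (pow_ne_zero _ ht))
  have himg' : ∀ p, ∃ i, p ≠ mkP 0 0 → Mem M (φ (ap' S p)) (rV i) := fun p => by
    by_cases hp : p = mkP 0 0
    · exact ⟨0, fun h => absurd hp h⟩
    · obtain ⟨i, hi⟩ := himg p hp; exact ⟨i, fun _ => hi⟩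
  choose ι hι using himg'
  -- each line through the point goes into one fibre
  have hline : ∀ be < 4, ∃ k, ∀ i : Fin 5, i ≠ 0 → ι (mkP i (Fr.phiC 0 be i)) = k ∧
      mkP i (Fr.phiC 0 be i) ≠ mkP 0 0 := by
    intro be hbe
    let jb : P.J := jAt M (uV 0 (kOf be))
    have hjw : (jb : Cz z) * F.w = F.w * jb := (mem_w F).cent hH F (by rw [vec_jAt, hf_uV_x₀])
    have hk : Commute (S.g * ((jb : Cz z) : G) * S.g⁻¹) z := by
      have h1 : Commute ((jb : Cz z) : G) (F.w : G) :=
        (show Commute (jb : Cz z) F.w from hjw).map (Subgroup.subtype _)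
      have := (Commute.conj_iff S.g).2 h1
      rwa [S.gw] at this
    set k : Cz z := toCz S.g (jb : Cz z) hk with hk'
    have hpt : ∀ i : Fin 5, i ≠ 0 → ∃ y, Mem M y (M.act k x₀) ∧
        φ (ap' S (mkP i (Fr.phiC 0 be i))) = y := by
      intro i hi
      obtain ⟨y, hy, hyM⟩ := S.gi i hi
      refine ⟨k * y * k⁻¹, hyM.map hH k, Subtype.ext ?_⟩
      show S.g * ((pt S (mkP i (Fr.phiC 0 be i)) : Cz z) : G) * S.g⁻¹ = _
      rw [← pt_mkP S hH i ((Fr.phiC_spec 0 (by norm_num) be hbe i).1) jb (by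
        rw [vec_jAt, hf_uV_rV, (Fr.phiC_spec 0 (by norm_num) be hbe i).2,
          show kOf 0 = (0 : K4) by decide +kernel])]
      simp only [Subgroup.coe_mul, Subgroup.coe_inv, hk', toCz, hy]
      group
    have hne : ∀ i : Fin 5, i ≠ 0 → mkP i (Fr.phiC 0 be i) ≠ mkP 0 0 := fun i hi e => hi (by
      have := congrArg iOf e
      rwa [(Fr.mkP_spec i _ (Fr.phiC_spec 0 (by norm_num) be hbe i).1).2.1,
        (Fr.mkP_spec 0 0 (by norm_num)).2.1] at this)
    refine ⟨ι (mkP 1 (Fr.phiC 0 be 1)), fun i hi => ⟨?_, hne i hi⟩⟩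
    obtain ⟨y, hy, ey⟩ := hpt i hi
    obtain ⟨y', hy', ey'⟩ := hpt 1 (by decide)
    obtain ⟨c, hc, ec⟩ := (ey ▸ hι _ (hne i hi)).unique_x hy
    obtain ⟨c', hc', ec'⟩ := (ey' ▸ hι _ (hne 1 (by decide))).unique_x hy'
    refine Fr.rV_indep _ _ _ (kCode_lt (c * c'⁻¹)) ?_
    rw [kOf_code, ec, ec', smul_smul, inv_mul_cancel_right₀ hc']
  choose kk hkk using hline
  -- four points of a line fill a fibre
  have hfull : ∀ be (hbe : be < 4), ∀ p, p ≠ mkP 0 0 → ι p = kk be hbe →
      ∃ i : Fin 5, i ≠ 0 ∧ p = mkP i (Fr.phiC 0 be i) := by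
    intro be hbe p hp hip
    by_contra hno
    push Not at hno
    let f : Option {i : Fin 5 // i ≠ 0} → Fin 21 := fun o =>
      o.elim p fun i => mkP i.1 (Fr.phiC 0 be i.1)
    have hf5 : Function.Injective f := by
      rintro (_ | i) (_ | j) h <;> simp only [f, Option.elim] at h
      · rfl
      · exact absurd h (hno _ j.2)
      · exact absurd h.symm (hno _ i.2)
      · have := congrArg iOf h
        rw [(Fr.mkP_spec _ _ (Fr.phiC_spec 0 (by norm_num) be hbe _).1).2.1,
          (Fr.mkP_spec _ _ (Fr.phiC_spec 0 (by norm_num) be hbe _).1).2.1] at this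
        exact congrArg some (Subtype.ext this)
    have hfm : ∀ o, Mem M (φ (ap' S (f o))) (rV (kk be hbe)) := by
      rintro (_ | i)
      · exact hip ▸ hι p hp
      · exact (hkk be hbe i.1 i.2).1 ▸ hι _ (hkk be hbe i.1 i.2).2
    choose q hq0 hqi hq using fun o => pt_fibre S hH (hfm o)
    let d : Option {i : Fin 5 // i ≠ 0} → Fin 4 := fun o => ⟨dOf (q o), Fr.dOf_lt _⟩
    have hd : Function.Injective d := fun a b h => by
      refine hf5 (pt_inj S hH (congrArg Subtype.val (φinj ?_ : ap' S (f a) = ap' S (f b))))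
      rw [← hq a, ← hq b, ← Fr.mkP_eta _ (hq0 a), ← Fr.mkP_eta _ (hq0 b), hqi, hqi,
        show dOf (q a) = dOf (q b) from congrArg Fin.val h]
    have := Fintype.card_le_of_injective d hd
    simp at this
  let b (k : Fin 5) : ℕ := k.val - 1
  have hb : ∀ k : Fin 5, b k < 4 := fun k => by show k.val - 1 < 4; omega
  let σ : Fin 5 → Fin 5 := fun k => if k = 0 then ι 0 else kk (b k) (hb k)
  have h0ne : (0 : Fin 21) ≠ mkP 0 0 := by decide +kernel
  have hcls1 : ∀ p : Fin 21, p ≠ 0 → iOf p ≠ 0 → Fr.clsC p ≠ 0 ∧ p ≠ mkP 0 0 ∧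
      ι p = kk (b (Fr.clsC p)) (hb _) := by
    intro p hp hi
    obtain ⟨h1, h2⟩ := Fr.clsC_spec p hp hi
    have e : mkP (iOf p) (Fr.phiC 0 (b (Fr.clsC p)) (iOf p)) = p := by
      show mkP (iOf p) (Fr.phiC 0 ((Fr.clsC p).val - 1) (iOf p)) = p
      rw [h2, Fr.mkP_eta p hp]
    have := hkk _ (hb (Fr.clsC p)) (iOf p) hi
    rw [e] at this
    exact ⟨fun e' => by rw [e'] at h1; simp at h1, this.2, this.1⟩
  have hdist : ∀ a (ha : a < 4) c (hc : c < 4), kk a ha = kk c hc → a = c := by
    intro a ha c hc e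
    have hne := (hkk a ha 1 (by decide)).2
    obtain ⟨i, hi, ei⟩ := hfull c hc _ hne ((hkk a ha 1 (by decide)).1.trans e)
    have h1 := congrArg (fun p => (Fr.clsC p).val) ei
    simp only [Fr.clsC_line 1 (by decide) a ha, Fr.clsC_line i hi c hc] at h1
    omega
  have h0new : ∀ p, p ≠ mkP 0 0 → Fr.clsC p = 0 → ∀ a (ha : a < 4), ι p ≠ kk a ha := by
    intro p hp hc a ha e
    obtain ⟨i, hi, ei⟩ := hfull a ha p hp e
    have h1 := Fr.clsC_line i hi a ha
    rw [← ei, hc] at h1
    have h2 : (0 : ℕ) = 1 + a := h1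
    omega
  have hσ : Function.Injective σ := by
    intro k l h
    simp only [σ] at h
    split_ifs at h with hk hl hl
    · rw [hk, hl]
    · exact absurd h (h0new 0 h0ne (by decide +kernel) _ _)
    · exact absurd h.symm (h0new 0 h0ne (by decide +kernel) _ _)
    · have h2 : k.val - 1 = l.val - 1 := hdist _ _ _ _ h
      have h3 : k.val ≠ 0 := fun e => hk (Fin.ext e)
      have h4 : l.val ≠ 0 := fun e => hl (Fin.ext e)
      exact Fin.ext (by omega)
  refine ⟨φ, σ, hσ, fun p v => ?_⟩
  by_cases hp : p = mkP 0 0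
  · rw [if_pos hp, hp, φw, act_J P.xc.mem, tv, smul_zero, add_zero]
  · rw [if_neg hp, (hι p hp).act]
    congr 2
    by_cases hc : Fr.clsC p = 0
    · rw [show σ (Fr.clsC p) = ι 0 by simp [σ, hc]]
      obtain ⟨k, hk⟩ := Finite.surjective_of_injective hσ (ι p)
      by_cases hk0 : k = 0
      · rw [← hk, hk0]; simp [σ]
      · exact absurd (hk.symm.trans (by simp [σ, hk0])) (h0new p hp hc _ (hb k))
    · have h' : p ≠ 0 ∧ iOf p ≠ 0 := by
        by_contra h
        push Not at h
        exact hc (Fr.clsC_zero p hp (or_iff_not_imp_left.2 h))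
      rw [show σ (Fr.clsC p) = kk (b (Fr.clsC p)) (hb _) by simp [σ, hc], (hcls1 p h'.1 h'.2).2.2]

theorem eN_tau (n : Fin 21 → ZMod 2) (al : ℕ) (hal : al < 4) (hn : eN S hH n = 1) :
    eN S hH (fun p => n (Fr.tauC al 0 p)) = 1 := by
  letI := acInst S hH
  let τ : Equiv.Perm (Fin 21) := Function.Involutive.toPerm _ (Fr.tauC_invol al hal)
  let j : P.J := jAt M (uV (kOf al) 0)
  have hpt : ∀ p, (j : Cz z) * pt S p * (j : Cz z)⁻¹ = pt S (Fr.tauC al 0 p) := by
    intro p
    by_cases hp : p = 0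
    · rw [hp, show Fr.tauC al 0 0 = 0 from if_pos rfl, show pt S 0 = zC z from if_pos rfl,
        zC_comm (j : Cz z), mul_inv_cancel_right]
    · obtain ⟨hlt, hphi⟩ := Fr.phiC_spec al hal 0 (by norm_num) (iOf p)
      rw [Fr.tauC, if_neg hp, pt, if_neg hp]
      set i := iOf p
      set j' := jAt M (tV i (kOf (dOf p)))
      rw [← pt_mkP S hH i (Spor.U62.xor_lt (Fr.dOf_lt p) hlt) (j * j') (by
        rw [M.vec_mul, vec_jAt, vec_jAt, hf_add_left, hf_tV, Spor.U62.kOf_add _ (Fr.dOf_lt p) _ hlt,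
          hphi, hf_uV_rV, show kOf 0 = (0 : K4) by decide +kernel]
        exact add_comm _ _)]
      simp only [Subgroup.coe_mul]
      group
  let cj : AC S →* Cz z := (MulAut.conj (j : Cz z)).toMonoidHom.comp (AC S).subtype
  have h1 : cj (∏ p, ap' S p ^ (n p).val) = 1 := by
    rw [show (∏ p, ap' S p ^ (n p).val) = eN S hH n from rfl, hn, map_one]
  refine Subtype.ext ?_
  show (AC S).subtype (∏ p, ap' S p ^ (n (τ p)).val) = 1
  rw [← Equiv.prod_comp τ]
  simp only [show ∀ p, τ (τ p) = p from Fr.tauC_invol al hal]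
  rw [← h1]
  have key : ∀ s : Finset (Fin 21), (AC S).subtype (∏ p ∈ s, ap' S (τ p) ^ (n p).val)
      = cj (∏ p ∈ s, ap' S p ^ (n p).val) := by
    intro s
    classical
    induction s using Finset.induction with
    | empty => simp
    | insert p s hp ih =>
      rw [Finset.prod_insert hp, Finset.prod_insert hp, map_mul, map_mul, ih, map_pow, map_pow]
      congr 2
      exact (hpt p).symm
  exact key Finset.univ

theorem coord_zero (n : Fin 21 → ZMod 2) (hn : eN S hH n = 1) (k : Fin 9) :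
    ∑ p, n p * hv p k = 0 := by
  classical
  obtain ⟨φ, σ, hσ, hφ⟩ := exists_transport S hH
  have hfun : ∀ idx : Fin 20, ∑ p, (if Fr.funB idx p then n p else 0) = 0 := by
    intro idx
    have hz0 : ∀ (m : Fin 5), m ≠ 0 → ∀ x : Fin 5,
        (x.val == 0 || x.val == m.val) = true ↔ (x = 0 ∨ x = m) := by decide +kernel
    have hm : (idx.val % 4 + 1) < 5 := by omega
    set m : Fin 5 := ⟨idx.val % 4 + 1, hm⟩ with hmdef
    have hm0 : m ≠ 0 := fun e => by simpa [hmdef] using congrArg Fin.val e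
    have combine : ∀ (n' : Fin 21 → ZMod 2) (ex : Fin 21) (cl : Fin 21 → Fin 5),
        par n' ex cl m = par n' ex cl 0 →
        ∑ p, (if p ≠ ex ∧ (cl p = 0 ∨ cl p = m) then n' p else 0) = 0 := by
      intro n' ex cl e
      have : ∑ p, (if p ≠ ex ∧ (cl p = 0 ∨ cl p = m) then n' p else 0) = par n' ex cl 0 + par n' ex cl m := by
        rw [par, par, ← Finset.sum_add_distrib]
        refine Finset.sum_congr rfl fun p _ => ?_
        by_cases h1 : p = ex
        · simp [h1]
        · by_cases h2 : cl p = 0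
          · simp [h1, h2, Ne.symm hm0]
          · simp [h1, h2]
      rw [this, e]
      exact CharTwo.add_self_eq_zero _
    by_cases hidx : idx.val < 4
    · have h := combine n 0 iOf (par_z S hH n hn m)
      refine Eq.trans (Finset.sum_congr rfl fun p _ => ?_) h
      have hiff : Fr.funB idx p = true ↔ p ≠ 0 ∧ (iOf p = 0 ∨ iOf p = m) := by
        rw [Fr.funB, if_pos hidx, Bool.and_eq_true, bne_iff_ne, ← hz0 m hm0]
      simp only [hiff]
    · have hal : idx.val / 4 - 1 < 4 := by omega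
      set al := idx.val / 4 - 1 with haldef
      have h := combine (fun p => n (Fr.tauC al 0 p)) (mkP 0 0) Fr.clsC
        (par_of_rel S hH φ (mkP 0 0) Fr.clsC σ hσ hφ _ (eN_tau S hH n al hal hn) m)
      have hinv : Function.Involutive (Fr.tauC al 0) := Fr.tauC_invol al hal
      refine ((Equiv.sum_comp (Function.Involutive.toPerm (Fr.tauC al 0) hinv)
        fun q => if Fr.funB idx q then n q else 0).symm.trans (Finset.sum_congr rfl fun p _ => ?_)).trans h
      have hiff : Fr.funB idx (Fr.tauC al 0 p) = true ↔ p ≠ mkP 0 0 ∧ (Fr.clsC p = 0 ∨ Fr.clsC p = m) := by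
        rw [Fr.funB, if_neg hidx, ← haldef, Fr.tauC_invol al hal, Bool.and_eq_true, bne_iff_ne,
          ← hz0 m hm0]
      simp only [Function.Involutive.coe_toPerm, hiff]

  calc ∑ p, n p * hv p k
      = ∑ p, ∑ idx : Fin 20, (if Nat.testBit (Fr.selC k) idx && Fr.funB idx p then n p else 0) := by
        refine Finset.sum_congr rfl fun p _ => ?_
        rw [hv, Fr.coord_check k p, Finset.mul_sum]
        exact Finset.sum_congr rfl fun idx _ => by simp only [mul_ite, mul_one, mul_zero]
    _ = ∑ idx : Fin 20, ∑ p, (if Nat.testBit (Fr.selC k) idx && Fr.funB idx p then n p else 0) :=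
        Finset.sum_comm
    _ = 0 := Finset.sum_eq_zero fun idx _ => by
        cases hb : Nat.testBit (Fr.selC k) idx
        · simp
        · simpa using hfun idx

omit hH in
/-- the element with given coordinates -/
noncomputable def fB (hH : P.H₁ = ⊤) (c : Fin 9 → ZMod 2) : AC S :=
  eN S hH (∑ j, c j • Pi.single (basisP j) 1)

theorem fB_add (c c' : Fin 9 → ZMod 2) : fB S hH (c + c') = fB S hH c * fB S hH c' := by
  rw [fB, fB, fB, ← eN_add, ← Finset.sum_add_distrib]
  simp only [Pi.add_apply, add_smul]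

omit hH in
theorem fB_coord (c : Fin 9 → ZMod 2) (p₀ : Fin 21 → ZMod 2) (k : Fin 9) :
    ∑ p, ((∑ j, c j • Pi.single (basisP j) 1 : Fin 21 → ZMod 2) + p₀) p * hv p k
      = ∑ j, c j * hv (basisP j) k + ∑ p, p₀ p * hv p k := by
  simp only [Pi.add_apply, add_mul, Finset.sum_add_distrib, Finset.sum_apply, Pi.smul_apply, smul_eq_mul,
    Finset.sum_mul]
  refine congrArg (fun u => u + ∑ p, p₀ p * hv p k) ?_
  rw [Finset.sum_comm]
  refine Finset.sum_congr rfl fun j _ => ?_
  simp only [Pi.single_apply, mul_ite, mul_one, mul_zero, ite_mul, zero_mul, Finset.sum_ite_eq',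
    Finset.mem_univ, if_true]

theorem fB_inj : Function.Injective (fB S hH) := by
  intro c c' h
  have h1 : eN S hH ((∑ j, (c + c') j • Pi.single (basisP j) 1) + 0) = 1 := by
    rw [add_zero]
    show fB S hH (c + c') = 1
    rw [fB_add, h, ← fB_add, show c' + c' = 0 from funext fun k => CharTwo.add_self_eq_zero _]
    show eN S hH _ = 1
    rw [show (∑ j, (0 : Fin 9 → ZMod 2) j • Pi.single (basisP j) 1 : Fin 21 → ZMod 2) = 0 by simp,
      eN_zero]
  have h2 := Fr.basis_indep (c + c') fun k => by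
    have h3 := coord_zero S hH _ h1 k
    rw [fB_coord] at h3
    simpa using h3
  funext k
  exact CharTwo.add_eq_zero.1 (congrFun h2 k)

theorem card_AC : Nat.card (AC S) ≤ 512 := by
  classical
  let θ : AC S →* (AddMonoid.End V4)ˣ := (M.act.comp (AC S).subtype).toHomUnits
  have hθ : ∀ a : AC S, ((θ a : (AddMonoid.End V4)ˣ) : AddMonoid.End V4) = M.act (a : Cz z) := fun a => rfl
  have hfive : ∀ c < 256, ∑ i, hf (vo4 c) (rV i) • rV i = 0 := by decide +kernel
  have hrange : Nat.card θ.range ≤ 16 := by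
    let ψ : θ.range → (Fin 4 → ZMod 2) := fun u =>
      let n := (eN_surj S hH u.2.choose).choose
      fun i => par n 0 iOf i.succ + par n 0 iOf 0
    refine le_trans (Nat.card_le_card_of_injective ψ fun u u' h => ?_) (by simp)
    obtain ⟨hn, hn'⟩ := And.intro (eN_surj S hH u.2.choose).choose_spec (eN_surj S hH u'.2.choose).choose_spec
    set n := (eN_surj S hH u.2.choose).choose
    set n' := (eN_surj S hH u'.2.choose).choose
    have hu : ∀ (w : θ.range) (m : Fin 21 → ZMod 2), eN S hH m = w.2.choose → ∀ v,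
        (w.1 : AddMonoid.End V4) v = v + ∑ i, (par m 0 iOf i + par m 0 iOf 0) • (hf v (rV i) • rV i) := by
      intro w m hm v
      rw [← w.2.choose_spec, hθ, ← hm]
      refine (eN_act S hH (AC S).subtype xP (fun p v => pt_act S hH p v) xP_perp m v).trans ?_
      refine congrArg (fun u => v + u) ?_
      have h5 : ∑ i, par m 0 iOf 0 • (hf v (rV i) • rV i) = 0 := by
        have := hfive _ (vc4_lt v)
        rw [vo4_vc4] at this
        rw [← Finset.smul_sum, this, smul_zero]
      rw [Finset.sum_congr rfl fun i _ => add_smul _ _ _, Finset.sum_add_distrib, h5, add_zero]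
      simp only [par, Finset.sum_smul]
      rw [Finset.sum_comm]
      refine Finset.sum_congr rfl fun p _ => ?_
      by_cases hp : p = 0
      · simp [hp, xP]
      · rw [Finset.sum_eq_single (iOf p)]
        · simp [hp, xP]
        · intro i _ hi; simp [Ne.symm hi]
        · intro h; exact absurd (Finset.mem_univ _) h
    refine Subtype.ext (Units.ext (DFunLike.ext _ _ fun v => ?_))
    rw [hu u n hn v, hu u' n' hn' v]
    refine congrArg (fun u => v + u) ?_
    refine Finset.sum_congr rfl fun i _ => ?_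
    rcases Fin.eq_zero_or_eq_succ i with rfl | ⟨i', rfl⟩
    · rw [CharTwo.add_self_eq_zero, CharTwo.add_self_eq_zero]
    · rw [show par n 0 iOf i'.succ + par n 0 iOf 0 = par n' 0 iOf i'.succ + par n' 0 iOf 0 from congrFun h i']
  have hker : Nat.card θ.ker ≤ 32 := by
    have hJ : ∀ a : θ.ker, ((a : AC S) : Cz z) ∈ P.J := fun a => (M.ker_act _).1 (by
      have := congrArg Units.val (MonoidHom.mem_ker.1 a.2)
      rwa [hθ] at this)
    let jv : θ.ker → P.J := fun a => ⟨_, hJ a⟩
    have hperp : ∀ a (i : Fin 5), hf (M.vec (jv a)) (rV i) = 0 := fun a i => by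
      have hwi : S.w i ∈ AC S := by
        obtain ⟨p, -, -, hp⟩ := pt_fibre S hH (S.mem i)
        exact hp ▸ Subgroup.subset_closure ⟨p, rfl⟩
      obtain ⟨s, hs, hsv⟩ := (S.mem i).diff hH F (jv a)
      have he : (jv a : Cz z) * S.w i * (jv a : Cz z)⁻¹ = S.w i := by
        rw [show ((jv a : Cz z)) * S.w i = S.w i * (jv a : Cz z) from AC_comm S hH (a : AC S).2 hwi,
          mul_inv_cancel_right]
      rw [he, (S.mem i).sq hH F] at hs
      rw [show s = 1 from Subtype.ext hs, vec_one, eq_comm] at hsv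
      exact (smul_eq_zero.1 hsv).resolve_right (Fr.rV_ne i)
    have hspan : ∀ a, ∃ st : Fin 4 × Fin 4, M.vec (jv a) = kOf st.1 • x₀ + kOf st.2 • bV := fun a => by
      obtain ⟨s, t, e⟩ := Fr.perp_l (by simpa [Fr.rV_zero] using hperp a 0)
        (by simpa [Fr.rV_one] using hperp a 1)
      exact ⟨(⟨kCode s, kCode_lt s⟩, ⟨kCode t, kCode_lt t⟩), by rw [e, kOf_code, kOf_code]⟩
    choose st hst using hspan
    let ψ : θ.ker → (Fin 4 × Fin 4) × Prop := fun a =>
      (st a, jv a = jAt M (kOf (st a).1 • x₀ + kOf (st a).2 • bV))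
    refine le_trans (Nat.card_le_card_of_injective ψ fun a b h => ?_) (by simp)
    simp only [ψ, Prod.mk.injEq, eq_iff_iff] at h
    obtain ⟨h1, h2⟩ := h
    have key : ∀ c, jv c = jAt M (kOf (st c).1 • x₀ + kOf (st c).2 • bV) ∨
        jv c = jAt M (kOf (st c).1 • x₀ + kOf (st c).2 • bV) * ⟨zC z, P.xc.mem⟩ := fun c => by
      set r := jAt M (kOf (st c).1 • x₀ + kOf (st c).2 • bV)
      have hv0 : M.vec (r⁻¹ * jv c) = 0 := by
        rw [M.vec_mul, vec_inv, vec_jAt, hst]
        rw [← two_smul K4 (kOf (st c).1 • x₀ + kOf (st c).2 • bV), show (2 : K4) = 0 by decide +kernel,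
          zero_smul]
      rcases (M.vec_eq_zero _).1 hv0 with e | e
      · left; exact (inv_mul_eq_one.1 (Subtype.ext e)).symm
      · right; exact eq_mul_of_inv_mul_eq (Subtype.ext e)
    have hj : jv a = jv b := by
      by_cases hc : jv a = jAt M (kOf (st a).1 • x₀ + kOf (st a).2 • bV)
      · rw [hc, h2.1 hc, h1]
      · rw [(key a).resolve_left hc, (key b).resolve_left (mt h2.2 hc), h1]
    exact Subtype.ext (Subtype.ext (congrArg (fun j : P.J => (j : Cz z)) hj))
  calc Nat.card (AC S) = Nat.card θ.ker * θ.ker.index := (Subgroup.card_mul_index _).symm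
    _ = Nat.card θ.ker * Nat.card θ.range := by rw [Subgroup.index_ker]
    _ ≤ 32 * 16 := Nat.mul_le_mul hker hrange

theorem fB_surj : Function.Surjective (fB S hH) := by
  have hc : Nat.card (Fin 9 → ZMod 2) = 512 := by simp
  exact ((Nat.bijective_iff_injective_and_card _).2 ⟨fB_inj S hH,
    le_antisymm (Nat.card_le_card_of_injective _ (fB_inj S hH)) (hc ▸ card_AC S hH)⟩).2

theorem fB_point (p : Fin 21) : fB S hH (Fr.bits (Fr.cP p)) = ap' S p := by
  obtain ⟨c, hc⟩ := fB_surj S hH (ap' S p)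
  have h1 : eN S hH ((∑ j, c j • Pi.single (basisP j) 1) + Pi.single p 1) = 1 := by
    rw [eN_add, eN_single]
    show fB S hH c * ap' S p = 1
    rw [hc]
    exact Subtype.ext (pt_sq S hH p)
  have h2 := Fr.basis_indep (c + Fr.bits (Fr.cP p)) fun k => by
    have h3 := coord_zero S hH _ h1 k
    rw [fB_coord] at h3
    simp only [Pi.single_apply, ite_mul, one_mul, zero_mul, Finset.sum_ite_eq', Finset.mem_univ, if_true,
      ← Fr.cP_coord p k] at h3
    simpa [add_mul, Finset.sum_add_distrib] using h3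
  have h3 : c = Fr.bits (Fr.cP p) := funext fun k => CharTwo.add_eq_zero.1 (congrFun h2 k)
  rw [← h3, hc]

end CfsgLib.U62Cent.Fr
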