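import Cfsg.Agent.Lib.U62Cent.Code2

/-!
Finite facts for the frame: moves by transvections, the five points of the base line, coordinates of
the twenty-one points.
-/

set_option autoImplicit false
set_option maxRecDepth 100000

namespace CfsgLib.U62Cent.Fr

open Matrix
open CfsgLib.Spor.U62 (kOf kCode kOf_code kCode_lt mulN mulN_lt sqN)

/-- representatives of the isotropic points, and zero -/
def isoP : List ℕ := [0, 5, 6, 7, 17, 18, 19, 20, 24, 28, 65, 66, 67, 68, 72, 76, 80, 85, 86, 87, 89,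
  90, 91, 93, 94, 95, 96, 101, 102, 103, 105, 106, 107, 109, 110, 111, 112, 117, 118, 119, 121, 122,
  123, 125, 126, 127]

/-- those orthogonal to the base point, and zero -/
def isoQ : List ℕ := [0, 5, 80, 85, 90, 95, 96, 101, 106, 111, 112, 117, 122, 127]

/-- code of the second point of the base line -/
def bC : ℕ := 80

/-- the second point of the base line -/
def bV : V4 := ![0, 0, 1, 1]

theorem bV_code : vc4 bV = bC := by decide +kernel

/-- nonzero multiples -/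
def linB (p u : ℕ) : Bool := u == smC4 1 p || u == smC4 2 p || u == smC4 3 p

/-- members of the base line -/
def onL (u : ℕ) : Bool :=
  (List.range 4).any fun s => (List.range 4).any fun t => u == addC (smC4 s x₀C) (smC4 t bC)

theorem isoP_spec : ∀ x ∈ isoP, x < 256 ∧ hC4 x x = 0 := by decide +kernel

theorem isoQ_spec : ∀ x ∈ isoQ, x < 256 ∧ hC4 x x = 0 ∧ hC4 x x₀C = 0 := by decide +kernel

theorem t1_check : ∀ v < 256, hC4 v v = 0 → v ≠ 0 →
    (isoP.any fun x => isoP.any fun y => linB x₀C (tC4 x (tC4 y v))) = true := by decide +kernel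

theorem t2_check : ∀ v < 256, hC4 v v = 0 → hC4 v x₀C = 0 →
    (isoQ.any fun x => onL (tC4 x v)) = true := by decide +kernel

theorem t3_check : ∀ v < 256, hC4 v v = 0 → hC4 v x₀C = 0 → v ≠ 0 → linB x₀C v = false →
    (isoQ.any fun x => isoQ.any fun y => linB bC (tC4 x (tC4 y v))) = true := by decide +kernel

theorem smC4_kOf {k : ℕ} (hk : k < 4) (p : V4) : smC4 k (vc4 p) = vc4 (kOf k • p) := by
  have h : ∀ a < 4, kCode (kOf a) = a := by decide +kernel
  rw [vc4_smul, h k hk]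

theorem linB_spec {p v : V4} (h : linB (vc4 p) (vc4 v) = true) : ∃ c : K4, c ≠ 0 ∧ v = c • p := by
  have hne : ∀ k < 4, k ≠ 0 → kOf k ≠ 0 := by decide +kernel
  simp only [linB, Bool.or_eq_true, beq_iff_eq] at h
  rcases h with (h | h) | h
  all_goals
    rw [smC4_kOf (by norm_num)] at h
    exact ⟨_, hne _ (by norm_num) (by norm_num), vc4_inj h⟩

theorem linB_of_smul {p : V4} {c : K4} (hc : c ≠ 0) : linB (vc4 p) (vc4 (c • p)) = true := by
  have h : ∀ k < 4, kOf k ≠ 0 → (k = 1 ∨ k = 2) ∨ k = 3 := by decide +kernel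
  have hk := h _ (kCode_lt c) (by rwa [kOf_code])
  rw [linB, vc4_smul]
  rcases hk with (e | e) | e <;> simp [e]

theorem vc4_zero : vc4 0 = 0 := by decide +kernel

theorem move_x₀ {v : V4} (hv : hf v v = 0) (h0 : v ≠ 0) :
    ∃ x y : V4, hf x x = 0 ∧ hf y y = 0 ∧ ∃ c : K4, c ≠ 0 ∧ tv x (tv y v) = c • x₀ := by
  obtain ⟨x, hx, hh⟩ := List.any_eq_true.1
    (t1_check _ (vc4_lt v) (hf_zero_iff.1 hv) fun e => h0 (vc4_inj (e.trans vc4_zero.symm)))
  obtain ⟨y, hy, hh⟩ := List.any_eq_true.1 hh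
  obtain ⟨hx1, hx2⟩ := isoP_spec x hx
  obtain ⟨hy1, hy2⟩ := isoP_spec y hy
  rw [← vc4_vo4 x hx1] at hx2 hh
  rw [← vc4_vo4 y hy1] at hy2 hh
  rw [← vc4_tv, ← vc4_tv, ← x₀_code] at hh
  exact ⟨_, _, hf_zero_iff.2 hx2, hf_zero_iff.2 hy2, linB_spec hh⟩

theorem move_l {v : V4} (hv : hf v v = 0) (h0 : hf v x₀ = 0) :
    ∃ x : V4, hf x x = 0 ∧ hf x x₀ = 0 ∧ ∃ s t : K4, tv x v = s • x₀ + t • bV := by
  obtain ⟨x, hx, hh⟩ := List.any_eq_true.1
    (t2_check _ (vc4_lt v) (hf_zero_iff.1 hv) (by rw [← x₀_code]; exact hf_zero_iff.1 h0))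
  obtain ⟨hx1, hx2, hx3⟩ := isoQ_spec x hx
  rw [← vc4_vo4 x hx1] at hx2 hx3 hh
  rw [← x₀_code] at hx3
  obtain ⟨s, hs, hh⟩ := List.any_eq_true.1 hh
  obtain ⟨t, ht, hh⟩ := List.any_eq_true.1 hh
  rw [beq_iff_eq, ← vc4_tv, ← x₀_code, ← bV_code, smC4_kOf (List.mem_range.1 hs),
    smC4_kOf (List.mem_range.1 ht), ← vc4_add] at hh
  exact ⟨_, hf_zero_iff.2 hx2, hf_zero_iff.2 hx3, _, _, vc4_inj hh⟩

theorem move_b {v : V4} (hv : hf v v = 0) (h0 : hf v x₀ = 0) (hne : v ≠ 0)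
    (hl : ∀ c : K4, v ≠ c • x₀) :
    ∃ x y : V4, hf x x = 0 ∧ hf x x₀ = 0 ∧ hf y y = 0 ∧ hf y x₀ = 0 ∧
      ∃ c : K4, c ≠ 0 ∧ tv x (tv y v) = c • bV := by
  have hlin : linB x₀C (vc4 v) = false := by
    rw [Bool.eq_false_iff, ← x₀_code]
    intro h
    obtain ⟨c, -, hc⟩ := linB_spec h
    exact hl c hc
  obtain ⟨x, hx, hh⟩ := List.any_eq_true.1 (t3_check _ (vc4_lt v) (hf_zero_iff.1 hv)
    (by rw [← x₀_code]; exact hf_zero_iff.1 h0) (fun e => hne (vc4_inj (e.trans vc4_zero.symm))) hlin)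
  obtain ⟨y, hy, hh⟩ := List.any_eq_true.1 hh
  obtain ⟨hx1, hx2, hx3⟩ := isoQ_spec x hx
  obtain ⟨hy1, hy2, hy3⟩ := isoQ_spec y hy
  rw [← vc4_vo4 x hx1] at hx2 hx3 hh
  rw [← vc4_vo4 y hy1] at hy2 hy3 hh
  rw [← x₀_code] at hx3 hy3
  rw [← vc4_tv, ← vc4_tv, ← bV_code] at hh
  exact ⟨_, _, hf_zero_iff.2 hx2, hf_zero_iff.2 hx3, hf_zero_iff.2 hy2, hf_zero_iff.2 hy3, linB_spec hh⟩

/-! The five points of the base line. -/

/-- codes of the representatives -/
def rC (i : Fin 5) : ℕ := [5, 80, addC 5 (smC4 1 80), addC 5 (smC4 2 80), addC 5 (smC4 3 80)][(i : ℕ)]!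

/-- representatives -/
def rV (i : Fin 5) : V4 := vo4 (rC i)

theorem rV_zero : rV 0 = x₀ := by decide +kernel

theorem rV_one : rV 1 = bV := by decide +kernel

theorem rV_ne (i : Fin 5) : rV i ≠ 0 := by revert i; decide +kernel

theorem rV_perp : ∀ i j : Fin 5, hf (rV i) (rV j) = 0 := by decide +kernel

/-- coefficients of the representatives -/
def rA (i : Fin 5) : K4 := kOf ([1, 0, 1, 1, 1][(i : ℕ)]!)

/-- coefficients of the representatives -/
def rB (i : Fin 5) : K4 := kOf ([0, 1, 1, 2, 3][(i : ℕ)]!)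

theorem rV_eq : ∀ i : Fin 5, rV i = rA i • x₀ + rB i • bV := by decide +kernel

/-- which point a combination is -/
theorem rV_of_comb : ∀ s t : Fin 4, (s ≠ 0 ∨ t ≠ 0) →
    ∃ i : Fin 5, ∃ c : Fin 4, c ≠ 0 ∧
      addC (smC4 s x₀C) (smC4 t bC) = smC4 c (rC i) := by decide +kernel

theorem rC_spec : ∀ i : Fin 5, vc4 (rV i) = rC i := by decide +kernel

theorem rV_span {v : V4} (hv : v ≠ 0) {s t : K4} (h : v = s • x₀ + t • bV) :
    ∃ i : Fin 5, ∃ c : K4, c ≠ 0 ∧ v = c • rV i := by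
  have hne : ∀ k : Fin 4, k ≠ 0 → kOf (k : ℕ) ≠ 0 := by decide +kernel
  have hz : kOf 0 = (0 : K4) := by decide +kernel
  have hst : (⟨kCode s, kCode_lt s⟩ : Fin 4) ≠ 0 ∨ (⟨kCode t, kCode_lt t⟩ : Fin 4) ≠ 0 := by
    by_contra hh
    push Not at hh
    obtain ⟨h1, h2⟩ := hh
    have e1 : kCode s = 0 := congrArg Fin.val h1
    have e2 : kCode t = 0 := congrArg Fin.val h2
    refine hv ?_
    rw [h, ← kOf_code s, ← kOf_code t, e1, e2, hz, zero_smul, zero_smul, add_zero]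
  obtain ⟨i, c, hc, e⟩ := rV_of_comb _ _ hst
  rw [← x₀_code, ← bV_code, ← vc4_smul, ← vc4_smul, ← vc4_add, ← rC_spec, smC4_kOf c.isLt, ← h] at e
  exact ⟨i, _, hne c hc, vc4_inj e⟩

theorem rV_indep : ∀ i j : Fin 5, ∀ c < 4, rV i = kOf c • rV j → i = j := by decide +kernel

theorem perp_check : ∀ v < 256, hC4 v x₀C = 0 → hC4 v bC = 0 → onL v = true := by decide +kernel

theorem perp_l {v : V4} (h1 : hf v x₀ = 0) (h2 : hf v bV = 0) :
    ∃ s t : K4, v = s • x₀ + t • bV := by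
  have h := perp_check _ (vc4_lt v) (by rw [← x₀_code]; exact hf_zero_iff.1 h1)
    (by rw [← bV_code]; exact hf_zero_iff.1 h2)
  obtain ⟨s, hs, hh⟩ := List.any_eq_true.1 h
  obtain ⟨t, ht, hh⟩ := List.any_eq_true.1 hh
  rw [beq_iff_eq, ← x₀_code, ← bV_code, smC4_kOf (List.mem_range.1 hs),
    smC4_kOf (List.mem_range.1 ht), ← vc4_add] at hh
  exact ⟨_, _, vc4_inj hh⟩

/-- only the sum of all five transvections is trivial -/
theorem indep_check : ∀ q : Fin 5 → ZMod 2,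
    (∑ i, q i • (hf (vo4 1) (rV i) • rV i) = 0) → (∑ i, q i • (hf (vo4 16) (rV i) • rV i) = 0) →
    ∀ i, q i = q 0 := by decide +kernel

/-- the diagonal torus element -/
def dgF (v : V4) : V4 := ![kOf 3 * v 0, kOf 3 * v 1, kOf 2 * v 2, kOf 2 * v 3]

/-- its matrix -/
def dgMat : Matrix (Fin 4) (Fin 4) K4 := Matrix.diagonal ![kOf 3, kOf 3, kOf 2, kOf 2]

theorem dgMat_mulVec (v : V4) : dgMat *ᵥ v = dgF v := by
  funext i
  rw [dgMat, Matrix.mulVec_diagonal]
  fin_cases i <;> rfl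

/-- as an element of `SU₄(2)` -/
def dgU : U4 :=
  ⟨⟨dgMat, by rw [dgMat, Matrix.det_diagonal, Fin.prod_univ_four]; decide +kernel⟩, fun u v => by
    show hf (dgMat *ᵥ u) (dgMat *ᵥ v) = hf u v
    have h3 : kOf 3 * kOf 3 ^ 2 = (1 : K4) := by decide +kernel
    have h2 : kOf 2 * kOf 2 ^ 2 = (1 : K4) := by decide +kernel
    rw [dgMat_mulVec, dgMat_mulVec]
    simp only [hf, Cfsg.hermForm, Fin.sum_univ_four, dgF, Matrix.cons_val_zero, Matrix.cons_val_one,
      Matrix.cons_val, mul_pow]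
    linear_combination (u 0 * v 0 ^ 2) * h3 + (u 1 * v 1 ^ 2) * h3 + (u 2 * v 2 ^ 2) * h2 +
      (u 3 * v 3 ^ 2) * h2⟩

theorem dgF_x₀ : dgF x₀ = kOf 3 • x₀ := by decide +kernel

theorem dgF_bV : dgF bV = kOf 2 • bV := by decide +kernel

/-! Twenty-one points: `0` and `1 + 4 * i + d`. -/

/-- the line of a point through the special point -/
def iOf (P : Fin 21) : Fin 5 := Fin.ofNat 5 ((P.val - 1) / 4)

/-- the position on that line -/
def dOf (P : Fin 21) : ℕ := (P.val - 1) % 4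

/-- a point -/
def mkP (i : Fin 5) (d : ℕ) : Fin 21 := Fin.ofNat 21 (1 + 4 * i.val + d % 4)

theorem mkP_spec : ∀ i : Fin 5, ∀ d < 4, mkP i d ≠ 0 ∧ iOf (mkP i d) = i ∧ dOf (mkP i d) = d := by
  decide +kernel

theorem mkP_eta : ∀ P : Fin 21, P ≠ 0 → mkP (iOf P) (dOf P) = P := by decide +kernel

theorem dOf_lt (P : Fin 21) : dOf P < 4 := Nat.mod_lt _ (by norm_num)

/-- the translation with values `al`, `be` at the base points, at each point -/
def phiC (al be : ℕ) (i : Fin 5) : ℕ :=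
  if i = 0 then al else if i = 1 then be else Nat.xor al (mulN (sqN (i.val - 1)) be)

theorem phiC_spec : ∀ al < 4, ∀ be < 4, ∀ i : Fin 5,
    phiC al be i < 4 ∧ kOf (phiC al be i) = rA i ^ 2 * kOf al + rB i ^ 2 * kOf be := by decide +kernel

/-- translation of points -/
def tauC (al be : ℕ) (P : Fin 21) : Fin 21 :=
  if P = 0 then 0 else mkP (iOf P) (Nat.xor (dOf P) (phiC al be (iOf P)))

theorem tauC_invol : ∀ al < 4, ∀ P : Fin 21, tauC al 0 (tauC al 0 P) = P := by decide +kernel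

/-- the line of a point through the point `(0, 0)` -/
def clsC (P : Fin 21) : Fin 5 :=
  if P = 0 then 0 else if iOf P = 0 then 0 else if iOf P = 1 then Fin.ofNat 5 (1 + dOf P)
  else Fin.ofNat 5 (1 + mulN (dOf P) ((iOf P).val - 1))

theorem clsC_spec : ∀ P : Fin 21, P ≠ 0 → iOf P ≠ 0 → 1 ≤ (clsC P).val ∧
    phiC 0 ((clsC P).val - 1) (iOf P) = dOf P := by decide +kernel

theorem clsC_line : ∀ i : Fin 5, i ≠ 0 → ∀ be < 4,
    (clsC (mkP i (phiC 0 be i))).val = 1 + be := by decide +kernel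

theorem clsC_zero : ∀ P : Fin 21, P ≠ mkP 0 0 → (P = 0 ∨ iOf P = 0) → clsC P = 0 := by decide +kernel

/-- hermitian coordinates of the points -/
def HP (P : Fin 21) : ℕ :=
  [4, 1, 37, 69, 101, 2, 134, 262, 390, 11, 175, 335, 495, 27, 319, 479, 255, 19, 439, 215, 375][P.val]!

/-- the twenty functionals: `0..3` at the special point, then four for each translation -/
def funB (idx : ℕ) (P : Fin 21) : Bool :=
  if idx < 4 then P != 0 && ((iOf P).val == 0 || (iOf P).val == idx % 4 + 1)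
  else tauC (idx / 4 - 1) 0 P != mkP 0 0 &&
    ((clsC (tauC (idx / 4 - 1) 0 P)).val == 0 || (clsC (tauC (idx / 4 - 1) 0 P)).val == idx % 4 + 1)

/-- how the coordinates come from the functionals -/
def selC (k : Fin 9) : ℕ := [14, 15, 31, 6, 12, 4126, 286, 95, 63][k.val]!

theorem coord_check : ∀ k : Fin 9, ∀ P : Fin 21,
    (if Nat.testBit (HP P) k then (1 : ZMod 2) else 0) =
      ∑ idx : Fin 20, (if Nat.testBit (selC k) idx && funB idx P then (1 : ZMod 2) else 0) := by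
  decide +kernel

/-- nine independent points -/
def basisP (k : Fin 9) : Fin 21 := [0, 1, 2, 3, 5, 6, 7, 9, 13][k.val]!

/-- coordinates of a point as a vector -/
def hv (P : Fin 21) : Fin 9 → ZMod 2 := fun k => if Nat.testBit (HP P) k then 1 else 0

theorem basis_indep : ∀ c : Fin 9 → ZMod 2, (∀ k, ∑ j, c j * hv (basisP j) k = 0) → c = 0 := by
  decide +kernel

end CfsgLib.U62Cent.Fr
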