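import Cfsg.Agent.Lib.U62Cent.Defs
import Cfsg.Agent.Lib.KnownB.TypeUSix.Defs
import Cfsg.Prelude.Def_Classical

/-!
The pieces of S3230 and S3231 (see tools/S3230_plan.md).
-/

set_option autoImplicit false

namespace CfsgLib.U62Cent

open CfsgLib.KnownB.TypeUSix

universe u

/-- piece A: the module -/
def SplitStmt : Prop := ∀ {G : Type u} [Group G] [Finite G] {z : G} (P : Hyp z),
  Nonempty (Nat4 P) ∨ Nonempty (Six P)

/-- piece A2: case B has an isolated involution -/
def SixStmt : Prop := ∀ {G : Type u} [Group G] [Finite G] {z : G} (P : Hyp z),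
  Six P → Cfsg.IsIsolatedInvolution z

/-- piece B: fusion in case A -/
def FusionStmt : Prop := ∀ {G : Type u} [Group G] [Finite G] {z : G} (P : Hyp z) (M : Nat4 P),
  ¬ Cfsg.IsIsolatedInvolution z → Nonempty (Fused M)

/-- piece C: neighbours and centraliser -/
def LocalStmt : Prop := ∀ {G : Type u} [Group G] [Finite G] {z : G} (P : Hyp z) (M : Nat4 P),
  Fused M → P.H₁ = ⊤ → Local (conjugatesOf z) z ∧ Cent (conjugatesOf z) z

/-- piece D: the frame -/
def FrameStmt : Prop := ∀ {G : Type u} [Group G] [Finite G] {z : G} (P : Hyp z) (M : Nat4 P),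
  Fused M → P.H₁ = ⊤ → ∃ A : Subgroup G, Frame (conjugatesOf z) z A

/-- piece E: the subgroup of index two -/
def OuterStmt : Prop := ∀ {G : Type u} [Group G] [Finite G] {z : G} (P : Hyp z) (M : Nat4 P),
  Fused M → P.H₁.index = 2 → ∃ G₀ : Subgroup G, G₀.index = 2 ∧
    Subgroup.centralizer ({z} : Set G) ⊓ G₀ =
      P.H₁.map (Subgroup.centralizer ({z} : Set G)).subtype

end CfsgLib.U62Cent
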