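import Cfsg.Agent.Lib.U62Cent.FrameCoord
import Cfsg.Agent.Lib.U62Cent.Targets

/-!
The frame of S3230: every involution of the centraliser is conjugate into the group of the twenty-one
points.
-/

set_option autoImplicit false
set_option linter.unusedSectionVars false
set_option maxHeartbeats 1000000

namespace CfsgLib.U62Cent.Fr

open Matrix
open CfsgLib.Spor.U62 (kOf kCode kOf_code kCode_lt)
open CfsgLib.ThreeTransp (nb)

universe u

variable {G : Type u} [Group G] [Finite G] {z : G} {P : Hyp z} {M : Nat4 P} {F : Fused M}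

theorem V4_add_self (v : V4) : v + v = 0 := by
  rw [← two_smul K4, show (2 : K4) = 0 by decide +kernel, zero_smul]

theorem hf_nondeg {x : V4} (h : ∀ v, hf x v = 0) : x = 0 := by
  funext i
  have := hf_symm_zero (h (Pi.single i 1))
  simp only [hf, Cfsg.hermForm, Pi.single_apply, ite_mul, one_mul, zero_mul, Finset.sum_ite_eq',
    Finset.mem_univ, if_true] at this
  exact pow_eq_zero_iff two_ne_zero |>.1 this

theorem split_vec (v : V4) : ∃ s t : K4, v = uV (hf v x₀) (hf v bV) + (s • x₀ + t • bV) := by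
  obtain ⟨s, t, e⟩ := perp_l (v := v + uV (hf v x₀) (hf v bV))
    (by rw [hf_add_left, hf_uV_x₀, ← two_mul, show (2 : K4) = 0 by decide +kernel, zero_mul])
    (by rw [hf_add_left, hf_uV_bV, ← two_mul, show (2 : K4) = 0 by decide +kernel, zero_mul])
  refine ⟨s, t, ?_⟩
  rw [← e, add_comm v, ← add_assoc, V4_add_self, zero_add]

theorem uV_split (a b : K4) : uV a b = a • uV 1 0 + b • uV 0 1 := by
  funext i
  fin_cases i <;> simp [uV]

/-- maps between the two sides -/
theorem outer_check : ∀ s₁ t₁ s₂ t₂ : Fin 4,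
    hf (kOf s₁ • x₀ + kOf t₁ • bV) (uV 1 0) + hf (uV 1 0) (kOf s₁ • x₀ + kOf t₁ • bV) = 0 →
    hf (kOf s₂ • x₀ + kOf t₂ • bV) (uV 0 1) + hf (uV 0 1) (kOf s₂ • x₀ + kOf t₂ • bV) = 0 →
    hf (kOf s₁ • x₀ + kOf t₁ • bV) (uV 0 1) + hf (uV 1 0) (kOf s₂ • x₀ + kOf t₂ • bV) = 0 →
    ∃ q : Fin 5 → ZMod 2, ∑ i, q i • (hf (uV 1 0) (rV i) • rV i) = kOf s₁ • x₀ + kOf t₁ • bV ∧
      ∑ i, q i • (hf (uV 0 1) (rV i) • rV i) = kOf s₂ • x₀ + kOf t₂ • bV := by decide +kernel

theorem point_check : ∀ s₁ s₂ : Fin 4,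
    hf (kOf s₁ • x₀) (uV 1 0) + hf (uV 1 0) (kOf s₁ • x₀) = 0 →
    hf (kOf s₁ • x₀) (uV 0 1) + hf (uV 1 0) (kOf s₂ • x₀) = 0 →
    s₂ = 0 ∧ (s₁ = 0 ∨ s₁ = 1) := by decide +kernel

theorem rA_zero_vals : rA 0 = 1 ∧ rB 0 = 0 := by decide +kernel

variable (S : Sec M F) (hH : P.H₁ = ⊤)
include hH

theorem sw_mem (i : Fin 5) : S.w i ∈ AC S := by
  obtain ⟨p, -, -, hp⟩ := pt_fibre S hH (S.mem i)
  exact hp ▸ Subgroup.subset_closure ⟨p, rfl⟩

theorem z_mem : zC z ∈ AC S := Subgroup.subset_closure ⟨0, if_pos rfl⟩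

theorem mem_pts {y : Cz z} (hy : IsConj z (y : G)) (h0 : Commute y (S.w 0)) (h1 : Commute y (S.w 1)) :
    ∃ p, pt S p = y := by
  by_cases hne : (y : G) = z
  · exact ⟨0, (if_pos rfl : pt S 0 = zC z).trans (Subtype.ext hne.symm)⟩
  obtain ⟨x, hx⟩ := exists_mem hH F hy hne
  have e0 := orth_of_comm hH hx (S.mem 0) h0
  have e1 := orth_of_comm hH hx (S.mem 1) h1
  rw [rV_zero] at e0
  rw [rV_one] at e1
  obtain ⟨i, hi⟩ := hx.on_line hH e0 e1
  obtain ⟨p, -, -, hp⟩ := pt_fibre S hH hi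
  exact ⟨p, hp⟩

/-- the elements of `J` over the base line -/
theorem preL {j : P.J} {s t : K4} (hj : M.vec j = s • x₀ + t • bV) : (j : Cz z) ∈ AC S := by
  have key : ∀ (i : Fin 5) (d : K4), ∃ a : P.J, (a : Cz z) ∈ AC S ∧ M.vec a = d • rV i := by
    intro i d
    obtain ⟨a, ha, hav⟩ := (S.mem i).diff hH F (jAt M (tV i d))
    rw [vec_jAt, hf_tV] at hav
    refine ⟨a, ?_, hav⟩
    rw [ha, pt_mkP S hH i (kCode_lt d) _ (by rw [vec_jAt, hf_tV, kOf_code])]
    exact (AC S).mul_mem (Subgroup.subset_closure ⟨_, rfl⟩) (sw_mem S hH i)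
  obtain ⟨a, haA, hav⟩ := key 0 s
  obtain ⟨b, hbA, hbv⟩ := key 1 t
  rw [rV_zero] at hav
  rw [rV_one] at hbv
  have h0 : M.vec ((a * b)⁻¹ * j) = 0 := by
    rw [M.vec_mul, vec_inv, M.vec_mul, hav, hbv, hj]
    exact V4_add_self _
  have hab : ((a * b : P.J) : Cz z) ∈ AC S := (AC S).mul_mem haA hbA
  have hj' : (j : Cz z) = ((a * b : P.J) : Cz z) * (((a * b)⁻¹ * j : P.J) : Cz z) := by
    rw [← Subgroup.coe_mul, mul_inv_cancel_left]
  rw [hj']
  rcases (M.vec_eq_zero _).1 h0 with e | e <;> rw [e]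
  · exact (AC S).mul_mem hab (AC S).one_mem
  · exact (AC S).mul_mem hab (z_mem S hH)

omit hH in
/-- conjugate into the group -/
def Good (y : Cz z) : Prop := ∃ h : Cz z, h * y * h⁻¹ ∈ AC S

theorem good_conj {y : Cz z} (h : Cz z) (hy : Good S (h * y * h⁻¹)) : Good S y := by
  obtain ⟨k, hk⟩ := hy
  exact ⟨k * h, by rwa [show k * h * y * (k * h)⁻¹ = k * (h * y * h⁻¹) * k⁻¹ by group]⟩

theorem good_J {j : P.J} (hj : j * j = 1) : Good S (j : Cz z) := by
  by_cases h0 : M.vec j = 0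
  · exact ⟨1, by rw [one_mul, inv_one, mul_one]; exact preL S hH (s := 0) (t := 0) (by simp [h0])⟩
  obtain ⟨x, y, hx, hy, c, hc, e⟩ := move_x₀ ((M.vec_sq j).1 hj) h0
  obtain ⟨lx, hlx⟩ := lift_tv (M := M) hx
  obtain ⟨ly, hly⟩ := lift_tv (M := M) hy
  refine ⟨lx * ly, preL S hH (j := ⟨_, P.normJ.conj_mem _ j.2 (lx * ly)⟩) (s := c) (t := 0) ?_⟩
  rw [vec_conj', act_mul, hly, hlx, e, zero_smul, add_zero]

/-- moved vectors -/
theorem img_props {x : Cz z} (hx2 : x * x = 1) (u : V4) :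
    M.act x (M.act x u + u) = M.act x u + u ∧ (∀ f, M.act x f = f → hf f (M.act x u + u) = 0) := by
  have h1 : M.act x (M.act x u) = u := by rw [← act_mul, hx2, act_one]
  refine ⟨by rw [map_add, h1, add_comm], fun f hf' => ?_⟩
  rw [hf_add_right]
  have e : hf f (M.act x u) = hf f u := by
    calc hf f (M.act x u) = hf (M.act x f) (M.act x (M.act x u)) := (act_hf hH x _ _).symm
      _ = hf f u := by rw [hf', h1]
  rw [e, ← two_mul, show (2 : K4) = 0 by decide +kernel, zero_mul]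

theorem img_fix {x : Cz z} (hx2 : x * x = 1) {f : V4} (hf0 : ∀ u, hf f (M.act x u + u) = 0) :
    M.act x f = f := by
  have h1 : ∀ v, M.act x (M.act x v) = v := fun v => by rw [← act_mul, hx2, act_one]
  have h : M.act x f + f = 0 := hf_nondeg fun v => by
    calc hf (M.act x f + f) v = hf (M.act x f) v + hf f v := hf_add_left _ _ _
      _ = hf (M.act x f) (M.act x (M.act x v)) + hf f v := by rw [h1]
      _ = hf f (M.act x v) + hf f v := by rw [act_hf hH]
      _ = hf f (M.act x v + v) := (hf_add_right _ _ _).symm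
      _ = 0 := hf0 v
  calc M.act x f = M.act x f + (f + f) := by rw [V4_add_self, add_zero]
    _ = f := by rw [← add_assoc, h, zero_add]

theorem img_herm {x : Cz z} (hx2 : x * x = 1) (u u' : V4) :
    hf (M.act x u + u) u' + hf u (M.act x u' + u') = 0 := by
  have h1 : M.act x (M.act x u') = u' := by rw [← act_mul, hx2, act_one]
  have e : hf (M.act x u) u' = hf u (M.act x u') := by
    conv_lhs => rw [← h1]
    rw [act_hf hH]
  rw [hf_add_left, hf_add_right, e]
  generalize hf u (M.act x u') = a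
  generalize hf u u' = b
  have h2 : (2 : K4) = 0 := by decide +kernel
  linear_combination (a + b) * h2

/-- an involution moving vectors only into the base line -/
theorem good_line {x : Cz z} (hx2 : x * x = 1)
    (hl : ∀ u, ∃ s t : K4, M.act x u + u = s • x₀ + t • bV)
    (hrank : (∀ u, ∃ s : K4, M.act x u + u = s • x₀) ∨
      ∃ u u' : V4, ∃ c s t : K4, c ≠ 0 ∧ t ≠ 0 ∧ M.act x u + u = c • x₀ ∧
        M.act x u' + u' = s • x₀ + t • bV) :
    Good S x := by
  have hfix0 : M.act x x₀ = x₀ := img_fix hH hx2 fun u => by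
    obtain ⟨s, t, e⟩ := hl u
    rw [e, hf_add_right, hf_smul_right, hf_smul_right, show hf x₀ x₀ = 0 by decide +kernel,
      show hf x₀ bV = 0 by decide +kernel, mul_zero, mul_zero, add_zero]
  have hfixb : M.act x bV = bV := img_fix hH hx2 fun u => by
    obtain ⟨s, t, e⟩ := hl u
    rw [e, hf_add_right, hf_smul_right, hf_smul_right, show hf bV x₀ = 0 by decide +kernel,
      show hf bV bV = 0 by decide +kernel, mul_zero, mul_zero, add_zero]
  -- two semilinear maps agreeing on a complement and on the line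
  have ext : ∀ a : Cz z, M.act a x₀ = x₀ → M.act a bV = bV → M.act a (uV 1 0) = M.act x (uV 1 0) →
      M.act a (uV 0 1) = M.act x (uV 0 1) → ∀ v, M.act a v = M.act x v := by
    intro a h0 hb hu hu' v
    obtain ⟨s, t, e⟩ := split_vec v
    rw [e, uV_split]
    simp only [map_add, act_smul hH, h0, hb, hu, hu', hfix0, hfixb]
  have hadd : ∀ u d : V4, M.act x u + u = d → M.act x u = u + d := fun u d h => by
    rw [← h, add_comm (M.act x u) u, ← add_assoc, V4_add_self, zero_add]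
  rcases hrank with h1 | ⟨u, u', c, s, t, hc, ht, eu, eu'⟩
  · obtain ⟨s₁, e₁⟩ := h1 (uV 1 0)
    obtain ⟨s₂, e₂⟩ := h1 (uV 0 1)
    have c1 := img_herm (M := M) hH hx2 (uV 1 0) (uV 1 0)
    have c3 := img_herm (M := M) hH hx2 (uV 1 0) (uV 0 1)
    rw [e₁] at c1
    rw [e₁, e₂] at c3
    rw [← kOf_code s₁] at c1 c3
    rw [← kOf_code s₂] at c3
    obtain ⟨hz2, hz1⟩ := point_check ⟨_, kCode_lt s₁⟩ ⟨_, kCode_lt s₂⟩ c1 c3
    have hs2 : s₂ = 0 := by
      rw [← kOf_code s₂, show kCode s₂ = 0 from congrArg Fin.val hz2]; decide +kernel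
    rcases hz1 with hz1 | hz1
    · have hs1 : s₁ = 0 := by
        rw [← kOf_code s₁, show kCode s₁ = 0 from congrArg Fin.val hz1]; decide +kernel
      have hid : ∀ v, M.act x v = v := fun v => by
        rw [← ext 1 (act_one _) (act_one _)
          (by rw [act_one, hadd _ _ e₁, hs1, zero_smul, add_zero])
          (by rw [act_one, hadd _ _ e₂, hs2, zero_smul, add_zero]) v, act_one]
      have hxJ : x ∈ P.J := (M.ker_act x).1 (DFunLike.ext _ _ fun v => hid v)
      exact good_J S hH (j := ⟨x, hxJ⟩) (Subtype.ext hx2)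
    · have hs1 : s₁ = 1 := by
        rw [← kOf_code s₁, show kCode s₁ = 1 from congrArg Fin.val hz1]; decide +kernel
      have hw : ∀ v, M.act F.w v = M.act x v := ext F.w
        (by rw [F.w_act, tv_fix (by decide +kernel)]) (by rw [F.w_act, tv_fix (by decide +kernel)])
        (by rw [F.w_act, hadd _ _ e₁, hs1, tv, hf_uV_x₀])
        (by rw [F.w_act, hadd _ _ e₂, hs2, tv, hf_uV_x₀])
      have hjJ : x * F.w ∈ P.J := (M.ker_act _).1 (DFunLike.ext _ _ fun v => by
        show M.act (x * F.w) v = v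
        rw [act_mul, hw, ← act_mul, hx2, act_one])
      set j : P.J := ⟨x * F.w, hjJ⟩ with hjdef
      have hxw : x = (j : Cz z) * F.w := by
        show x = x * F.w * F.w
        rw [mul_assoc, F.w_sq, mul_one]
      have hv : M.act F.w (M.vec j) = M.vec j := by
        have h2 : ((F.w * (j : Cz z) * F.w⁻¹ : Cz z)) = (j : Cz z)⁻¹ := by
          rw [show F.w⁻¹ = F.w from inv_eq_of_mul_eq_one_right F.w_sq, eq_inv_iff_mul_eq_one]
          have h3 : F.w * (x * x) * F.w = 1 := by rw [hx2, mul_one, F.w_sq]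
          calc F.w * (j : Cz z) * F.w * (j : Cz z) = F.w * ((j : Cz z) * F.w * ((j : Cz z) * F.w)) * F.w := by
                simp only [mul_assoc, F.w_sq, mul_one]
            _ = 1 := by rw [← hxw, h3]
        rw [← vec_conj' F.w j]
        rw [← vec_inv j]
        exact congrArg M.vec (Subtype.ext h2)
      have hv0 : hf (M.vec j) x₀ = 0 := by
        rw [F.w_act, tv, add_eq_left, smul_eq_zero] at hv
        exact hv.resolve_right (by decide +kernel)
      have hjw : (j : Cz z) * F.w = F.w * (j : Cz z) := F.cent_R j hv0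
      have hjj : j * j = 1 := Subtype.ext (by
        show (j : Cz z) * (j : Cz z) = 1
        calc (j : Cz z) * (j : Cz z) = (j : Cz z) * (j : Cz z) * (F.w * F.w) := by rw [F.w_sq, mul_one]
          _ = (j : Cz z) * ((j : Cz z) * F.w) * F.w := by group
          _ = (j : Cz z) * (F.w * (j : Cz z)) * F.w := by rw [hjw]
          _ = x * x := by rw [hxw]; group
          _ = 1 := hx2)
      obtain ⟨a, ha, ha₀, s, t, e⟩ := move_l ((M.vec_sq j).1 hjj) hv0
      obtain ⟨la, hla⟩ := lift_tv (M := M) ha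
      obtain ⟨h, ew, ah⟩ := fix_w hH F la ⟨1, one_ne_zero, by
        rw [hla, tv_fix (hf_symm_zero ha₀), one_smul]⟩
      refine ⟨h, ?_⟩
      rw [hxw, show h * ((j : Cz z) * F.w) * h⁻¹ = (h * (j : Cz z) * h⁻¹) * (h * F.w * h⁻¹) by group, ew]
      refine (AC S).mul_mem (preL S hH (j := ⟨_, P.normJ.conj_mem _ j.2 h⟩) (s := s) (t := t) ?_) ?_
      · rw [vec_conj', ah, hla, e]
      · rw [← S.w0]; exact sw_mem S hH 0
  · obtain ⟨s₁, t₁, e₁⟩ := hl (uV 1 0)
    obtain ⟨s₂, t₂, e₂⟩ := hl (uV 0 1)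
    have c1 := img_herm (M := M) hH hx2 (uV 1 0) (uV 1 0)
    have c2 := img_herm (M := M) hH hx2 (uV 0 1) (uV 0 1)
    have c3 := img_herm (M := M) hH hx2 (uV 1 0) (uV 0 1)
    rw [e₁] at c1
    rw [e₂] at c2
    rw [e₁, e₂] at c3
    rw [← kOf_code s₁, ← kOf_code t₁] at c1 c3
    rw [← kOf_code s₂, ← kOf_code t₂] at c2 c3
    obtain ⟨q, hq1, hq2⟩ := outer_check ⟨_, kCode_lt s₁⟩ ⟨_, kCode_lt t₁⟩ ⟨_, kCode_lt s₂⟩ ⟨_, kCode_lt t₂⟩ c1 c2 c3
    simp only [kOf_code] at hq1 hq2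
    let n : Fin 21 → ZMod 2 := fun p => if p ≠ 0 ∧ dOf p = 0 then q (iOf p) else 0
    have hn : ∀ v, M.act ((eN S hH n : AC S) : Cz z) v = v + ∑ i, q i • (hf v (rV i) • rV i) := fun v => by
      refine (eN_act S hH (AC S).subtype xP (fun p v => pt_act S hH p v) xP_perp n v).trans ?_
      refine congrArg (fun u => v + u) ?_
      rw [← Finset.sum_subset (Finset.subset_univ (Finset.univ.image fun i : Fin 5 => mkP i 0))]
      · rw [Finset.sum_image fun i _ k _ h => by
          have := congrArg iOf h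
          rwa [(mkP_spec i 0 (by norm_num)).2.1, (mkP_spec k 0 (by norm_num)).2.1] at this]
        refine Finset.sum_congr rfl fun i _ => ?_
        obtain ⟨h0, hi, hd⟩ := mkP_spec i 0 (by norm_num)
        simp only [n, xP, if_neg h0, if_pos (And.intro h0 hd), hi]
      · intro p _ hp
        by_cases h : p ≠ 0 ∧ dOf p = 0
        · exact absurd (Finset.mem_image.2 ⟨iOf p, Finset.mem_univ _, by rw [← h.2, mkP_eta p h.1]⟩) hp
        · simp only [n, if_neg h, zero_smul]
    have hperp0 : ∀ i : Fin 5, hf x₀ (rV i) = 0 ∧ hf bV (rV i) = 0 := by decide +kernel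
    have ha : ∀ v, M.act ((eN S hH n : AC S) : Cz z) v = M.act x v := by
      refine ext _ ?_ ?_ ?_ ?_ <;> rw [hn]
      · rw [Finset.sum_eq_zero fun i _ => by rw [(hperp0 i).1, zero_smul, smul_zero], add_zero]
      · rw [Finset.sum_eq_zero fun i _ => by rw [(hperp0 i).2, zero_smul, smul_zero], add_zero]
      · rw [hq1, hadd _ _ e₁]
      · rw [hq2, hadd _ _ e₂]
    set a : Cz z := ((eN S hH n : AC S) : Cz z) with hadef
    have hjJ : x * a⁻¹ ∈ P.J := (M.ker_act _).1 (DFunLike.ext _ _ fun v => by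
      show M.act (x * a⁻¹) v = v
      rw [act_mul, ← ha, act_act_inv])
    set j : P.J := ⟨x * a⁻¹, hjJ⟩ with hjdef
    have hja : x = (j : Cz z) * a := by show x = x * a⁻¹ * a; group
    have ha2 : a * a = 1 := by
      have : (eN S hH n) * eN S hH n = 1 := by
        rw [← eN_add, show n + n = 0 from funext fun p => CharTwo.add_self_eq_zero _, eN_zero]
      exact congrArg Subtype.val this
    have hv : M.act x (M.vec j) = M.vec j := by
      have h2 : a * (j : Cz z) * a⁻¹ = (j : Cz z)⁻¹ := by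
        rw [eq_inv_iff_mul_eq_one, inv_eq_of_mul_eq_one_right ha2]
        calc a * (j : Cz z) * a * (j : Cz z)
            = a * ((j : Cz z) * a * ((j : Cz z) * a)) * a⁻¹ := by group
          _ = 1 := by rw [← hja, hx2]; group
      rw [← ha, ← vec_conj' a j, ← vec_inv j]
      exact congrArg M.vec (Subtype.ext h2)
    have o1 := (img_props (M := M) hH hx2 u).2 _ hv
    have o2 := (img_props (M := M) hH hx2 u').2 _ hv
    rw [eu, hf_smul_right, mul_eq_zero] at o1
    have o1' := o1.resolve_left (pow_ne_zero _ hc)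
    rw [eu', hf_add_right, hf_smul_right, hf_smul_right, o1', mul_zero, zero_add, mul_eq_zero] at o2
    obtain ⟨s', t', e'⟩ := perp_l o1' (o2.resolve_left (pow_ne_zero _ ht))
    refine ⟨1, ?_⟩
    rw [one_mul, inv_one, mul_one, hja]
    exact (AC S).mul_mem (preL S hH e') (eN S hH n).2

theorem good_invol {x : Cz z} (hx2 : x * x = 1) : Good S x := by
  by_cases hall : ∀ u, M.act x u + u = 0
  · exact good_line S hH hx2 (fun u => ⟨0, 0, by rw [hall u]; simp⟩) (Or.inl fun u => ⟨0, by rw [hall u]; simp⟩)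
  push Not at hall
  obtain ⟨u, hu⟩ := hall
  obtain ⟨a, b, ha, hb, c, hc, e⟩ := move_x₀ (v := M.act x u + u)
    ((img_props (M := M) hH hx2 u).2 _ (img_props (M := M) hH hx2 u).1) hu
  obtain ⟨la, hla⟩ := lift_tv (M := M) ha
  obtain ⟨lb, hlb⟩ := lift_tv (M := M) hb
  refine good_conj S hH (la * lb) ?_
  set y : Cz z := la * lb * x * (la * lb)⁻¹ with hy
  have hy2 : y * y = 1 := by
    rw [hy, show ∀ h : Cz z, h * x * h⁻¹ * (h * x * h⁻¹) = h * (x * x) * h⁻¹ from fun h => by group, hx2]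
    group
  have heq : ∀ w, M.act y (M.act (la * lb) w) = M.act (la * lb) (M.act x w) := fun w => by
    rw [hy, act_mul, act_mul, act_inv_act]
  have eu : M.act y (M.act (la * lb) u) + M.act (la * lb) u = c • x₀ := by
    rw [heq, ← map_add, act_mul, hlb, hla, e]
  set u₁ := M.act (la * lb) u
  by_cases hone : ∀ w, ∃ s : K4, M.act y w + w = s • x₀
  · exact good_line S hH hy2 (fun w => by
      obtain ⟨s, hs⟩ := hone w
      exact ⟨s, 0, by rw [hs, zero_smul, add_zero]⟩) (Or.inl hone)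
  push Not at hone
  obtain ⟨u₂, hu₂⟩ := hone
  have o : ∀ w w', hf (M.act y w + w) (M.act y w' + w') = 0 := fun w w' =>
    (img_props (M := M) hH hy2 w').2 _ (img_props (M := M) hH hy2 w).1
  have h0 : hf (M.act y u₂ + u₂) x₀ = 0 := by
    have := o u₂ u₁
    rw [eu, hf_smul_right, mul_eq_zero] at this
    exact this.resolve_left (pow_ne_zero _ hc)
  obtain ⟨d, hd, hd₀, s, t, ed⟩ := move_l (o u₂ u₂) h0
  obtain ⟨ld, hld⟩ := lift_tv (M := M) hd
  refine good_conj S hH ld ?_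
  set y' : Cz z := ld * y * ld⁻¹ with hy'
  have hy'2 : y' * y' = 1 := by
    rw [hy', show ∀ h : Cz z, h * y * h⁻¹ * (h * y * h⁻¹) = h * (y * y) * h⁻¹ from fun h => by group, hy2]
    group
  have heq' : ∀ w, M.act y' (M.act ld w) = M.act ld (M.act y w) := fun w => by
    rw [hy', act_mul, act_mul, act_inv_act]
  have hd0 : M.act ld x₀ = x₀ := by rw [hld, tv_fix (hf_symm_zero hd₀)]
  have eu1 : M.act y' (M.act ld u₁) + M.act ld u₁ = c • x₀ := by
    rw [heq', ← map_add, eu, act_smul hH, hd0]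
  have eu2 : M.act y' (M.act ld u₂) + M.act ld u₂ = s • x₀ + t • bV := by
    rw [heq', ← map_add, hld, ed]
  have ht : t ≠ 0 := fun e0 => hu₂ s (by
    rw [← act_inv_act (M := M) ld (M.act y u₂ + u₂), hld, ed, e0, zero_smul, add_zero, act_smul hH]
    congr 1
    rw [← hd0, act_inv_act, hd0])
  refine good_line S hH hy'2 (fun w => ?_) (Or.inr ⟨_, _, c, s, t, hc, ht, eu1, eu2⟩)
  have o' : ∀ w w', hf (M.act y' w + w) (M.act y' w' + w') = 0 := fun w w' =>
    (img_props (M := M) hH hy'2 w').2 _ (img_props (M := M) hH hy'2 w).1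
  have p1 := o' w (M.act ld u₁)
  have p2 := o' w (M.act ld u₂)
  rw [eu1, hf_smul_right, mul_eq_zero] at p1
  have p1' := p1.resolve_left (pow_ne_zero _ hc)
  rw [eu2, hf_add_right, hf_smul_right, hf_smul_right, p1', mul_zero, zero_add, mul_eq_zero] at p2
  exact perp_l p1' (p2.resolve_left (pow_ne_zero _ ht))

omit S in
theorem exists_frame (F : Fused M) : ∃ A : Subgroup G, CfsgLib.KnownB.TypeUSix.Frame (conjugatesOf z) z A := by
  classical
  obtain ⟨S⟩ := exists_sec hH F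
  set C : Subgroup G := Subgroup.centralizer ({z} : Set G)
  refine ⟨(AC S).map C.subtype, ?_⟩
  let gx : ℕ → G := fun x => ((fB S hH (bits x) : Cz z) : G)
  have gx_mem : ∀ x, gx x ∈ (AC S).map C.subtype := fun x => ⟨_, (fB S hH (bits x)).2, rfl⟩
  have gx_mul : ∀ x y, gx (Nat.xor x y) = gx x * gx y := fun x y => by
    show ((fB S hH (bits (Nat.xor x y)) : Cz z) : G) = _
    rw [bits_xor, fB_add]
    rfl
  have gx_pt : ∀ p, gx (cP p) = (pt S p : G) := fun p => by
    show ((fB S hH (bits (cP p)) : Cz z) : G) = _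
    rw [fB_point]
    rfl
  have gx_inj : ∀ x < 512, ∀ y < 512, gx x = gx y → x = y := fun x hx y hy h => by
    have e := fB_inj S hH (Subtype.ext (Subtype.ext h) : fB S hH (bits x) = fB S hH (bits y))
    have e' : bits (Nat.xor x y) = 0 := by
      rw [bits_xor, e]; funext k; exact CharTwo.add_self_eq_zero _
    exact Nat.xor_eq_zero_iff.1 (bits_inj _ (Nat.xor_lt_two_pow (n := 9) hx hy) (congrFun e'))
  have gx_zero : gx 0 = 1 := by
    have h1 := gx_mul 0 0
    rw [show Nat.xor 0 0 = 0 from rfl] at h1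
    exact left_eq_mul.1 h1
  have gx_surj : ∀ a ∈ (AC S).map C.subtype, ∃ x < 512, gx x = a := by
    rintro _ ⟨a, ha, rfl⟩
    obtain ⟨c, hc⟩ := fB_surj S hH ⟨a, ha⟩
    obtain ⟨h1, h2⟩ := ofBits_spec c
    exact ⟨ofBits c, h2, by show ((fB S hH (bits (ofBits c)) : Cz z) : G) = _; rw [h1, hc]; rfl⟩
  have memD : ∀ p, (pt S p : G) ∈ conjugatesOf z := pt_conj S hH
  have comA : ∀ x ∈ (AC S).map C.subtype, ∀ y ∈ (AC S).map C.subtype, Commute x y := by
    rintro _ ⟨a, ha, rfl⟩ _ ⟨b, hb, rfl⟩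
    exact (show Commute a b from AC_comm S hH ha hb).map _
  have ptA : ∀ p, (pt S p : G) ∈ (AC S).map C.subtype := fun p => ⟨_, Subgroup.subset_closure ⟨p, rfl⟩, rfl⟩
  have inA : ∀ y : G, y ∈ (AC S).map C.subtype → y ∈ conjugatesOf z → ∃ p, (pt S p : G) = y := by
    rintro _ ⟨a, ha, rfl⟩ hc
    obtain ⟨p, hp⟩ := mem_pts S hH hc (AC_comm S hH ha (sw_mem S hH 0)) (AC_comm S hH ha (sw_mem S hH 1))
    exact ⟨p, congrArg Subtype.val hp⟩
  have sum2 : ∀ p q, (pt S p : G) * (pt S q : G) = gx (Nat.xor (cP p) (cP q)) := fun p q => by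
    rw [gx_mul, gx_pt, gx_pt]
  have lt2 : ∀ {a b : ℕ}, a < 512 → b < 512 → Nat.xor a b < 512 := fun ha hb =>
    Nat.xor_lt_two_pow (n := 9) ha hb
  constructor
  · exact mem_conjugatesOf_self
  · exact ⟨zC z, z_mem S hH, rfl⟩
  · exact comA
  · rintro _ ⟨a, ha, rfl⟩
    obtain ⟨n, hn⟩ := eN_surj S hH ⟨a, ha⟩
    have : eN S hH n * eN S hH n = 1 := by
      rw [← eN_add, show n + n = 0 from funext fun p => CharTwo.add_self_eq_zero _, eN_zero]
    rw [hn] at this
    exact congrArg (fun y : AC S => ((y : Cz z) : G)) this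
  · intro x hx hx1
    obtain ⟨c, hc, rfl⟩ := gx_surj x hx
    have hc0 : c ≠ 0 := fun e => hx1 (e ▸ gx_zero)
    have h := wit_check c hc hc0
    simp only [witB, Bool.or_eq_true, Bool.and_eq_true, beq_iff_eq, bne_iff_ne] at h
    set a := (wit3 c).1
    set b := (wit3 c).2.1
    set d := (wit3 c).2.2
    have ne' : ∀ {p q : Fin 21}, p ≠ q → (pt S p : G) ≠ pt S q := fun h e =>
      h (pt_inj S hH (Subtype.ext e))
    rcases h with (h | ⟨hab, h⟩) | ⟨⟨⟨hab, had⟩, hbd⟩, h⟩
    · exact Or.inl (by rw [← h, gx_pt]; exact memD a)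
    · exact Or.inr (Or.inl ⟨_, ptA a, _, ptA b, memD a, memD b, ne' hab, by rw [sum2, h]⟩)
    · exact Or.inr (Or.inr ⟨_, ptA a, _, ptA b, _, ptA d, memD a, memD b, memD d, ne' hab, ne' had,
        ne' hbd, by rw [sum2, ← gx_pt d, ← gx_mul, h]⟩)
  · intro x hxz hx2
    obtain ⟨h, hh⟩ := good_invol S hH (x := ⟨x, Subgroup.mem_centralizer_singleton_iff.2 hxz.eq⟩)
      (Subtype.ext hx2)
    exact ⟨(h : G), Subgroup.mem_centralizer_singleton_iff.1 h.2, _, hh, rfl⟩
  · refine ⟨[(pt S 0 : G), (pt S 1 : G), (pt S 2 : G), (pt S 3 : G), (pt S 4 : G)], ?_,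
      (⟨2, rfl⟩ : Odd 5), ?_⟩
    · intro y hy
      simp only [List.mem_cons, List.not_mem_nil, or_false] at hy
      rcases hy with h | h | h | h | h <;> rw [h] <;> exact ⟨ptA _, memD _⟩
    · simp only [List.prod_cons, List.prod_nil, mul_one, ← gx_pt]
      rw [← gx_mul, ← gx_mul, ← gx_mul, ← gx_mul]
      show ((fB S hH (bits _) : Cz z) : G) = 1
      rw [bits_xor, bits_xor, bits_xor, bits_xor, rel_check, ← bits_zero]
      exact gx_zero
  · intro p hp hcomm
    have hpz : Commute p z := (hcomm z ⟨zC z, z_mem S hH, rfl⟩).symm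
    have hc : ∀ i, Commute (⟨p, Subgroup.mem_centralizer_singleton_iff.2 hpz.eq⟩ : Cz z) (S.w i) :=
      fun i => Subtype.ext (hcomm _ ⟨_, sw_mem S hH i, rfl⟩).symm.eq
    obtain ⟨q, hq⟩ := mem_pts S hH (y := ⟨p, Subgroup.mem_centralizer_singleton_iff.2 hpz.eq⟩) hp
      (hc 0) (hc 1)
    have := ptA q
    rwa [show (pt S q : G) = p from congrArg Subtype.val hq] at this
  · intro a ha b hb c hc haD hbD hcD hab hac hbc
    obtain ⟨A, rfl⟩ := inA a ha haD
    obtain ⟨B, rfl⟩ := inA b hb hbD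
    obtain ⟨C', rfl⟩ := inA c hc hcD
    have nA : A ≠ B := fun e => hab (by rw [e])
    have nB : A ≠ C' := fun e => hac (by rw [e])
    have nC : B ≠ C' := fun e => hbc (by rw [e])
    have h := out_check A B C'
    simp only [outB, Bool.or_eq_true, beq_iff_eq, nA, nB, nC, false_or, List.any_eq_true,
      Bool.not_eq_true'] at h
    obtain ⟨Y, -, hY⟩ := h
    refine ⟨_, ptA Y, memD Y, fun p hp q hq hpD hqD hne e => ?_⟩
    obtain ⟨p', rfl⟩ := inA p hp hpD
    obtain ⟨q', rfl⟩ := inA q hq hqD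
    rw [sum2, ← gx_pt C', ← gx_mul, ← gx_pt Y, ← gx_mul, sum2] at e
    have e' := gx_inj _ (lt2 (lt2 (lt2 (cP_lt _) (cP_lt _)) (cP_lt _)) (cP_lt _)) _
      (lt2 (cP_lt _) (cP_lt _)) e
    rw [e', pairs_check p' q' (fun h => hne (by rw [h]))] at hY
    exact Bool.noConfusion hY
  · exact ⟨_, ptA 1, memD 1, fun e => absurd (pt_inj S hH (p := 1) (q := 0)
      ((Subtype.ext e).trans (if_pos rfl : pt S 0 = zC z).symm)) (by decide)⟩

end CfsgLib.U62Cent.Fr

namespace CfsgLib.U62Cent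

universe u

/-- piece D -/
theorem frameStmt : FrameStmt.{u} := fun _ _ F hH => Fr.exists_frame hH F

end CfsgLib.U62Cent
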