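import Cfsg.Agent.Lib.U62Cent.FrameFin

/-!
Members of the class inside the centraliser: fibres over isotropic points, their translations by `J`,
and the fact that members over orthogonal points commute.
-/

set_option autoImplicit false
set_option linter.unusedSectionVars false

namespace CfsgLib.U62Cent.Fr

open Matrix
open CfsgLib.Spor.U62 (kOf kCode)

universe u

variable {G : Type u} [Group G] [Finite G] {z : G} {P : Hyp z} {M : Nat4 P}

/-- the centraliser as a type -/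
abbrev Cz (z : G) : Type u := ↥(Subgroup.centralizer ({z} : Set G))

/-- a member of the class in the centraliser, over the isotropic point of `x` -/
structure Mem (M : Nat4 P) (y : Subgroup.centralizer ({z} : Set G)) (x : V4) : Prop where
  conj : IsConj z (y : G)
  iso : hf x x = 0
  ne : x ≠ 0
  act : ∀ v, M.act y v = tv x v

theorem zC_comm (h : Cz z) : h * zC z = zC z * h :=
  Subtype.ext (Subgroup.mem_centralizer_singleton_iff.1 h.2)

theorem z_sq (P : Hyp z) : zC z * zC z = (1 : Cz z) := P.xc.inv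

theorem act_mul (h k : Cz z) (v : V4) : M.act (h * k) v = M.act h (M.act k v) := by
  rw [map_mul]; rfl

theorem act_one (v : V4) : M.act 1 v = v := by rw [map_one]; rfl

theorem act_inv_act (h : Cz z) (v : V4) : M.act h⁻¹ (M.act h v) = v := by
  rw [← act_mul, inv_mul_cancel, act_one]

theorem act_act_inv (h : Cz z) (v : V4) : M.act h (M.act h⁻¹ v) = v := by
  rw [← act_mul, mul_inv_cancel, act_one]

theorem act_J {j : Cz z} (hj : j ∈ P.J) (v : V4) : M.act j v = v := by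
  rw [(M.ker_act j).2 hj]; rfl

variable (hH : P.H₁ = ⊤)
include hH

theorem act_smul (h : Cz z) (c : K4) (v : V4) : M.act h (c • v) = c • M.act h v := by
  obtain ⟨g, -, hg⟩ := M.lin h (hH ▸ Subgroup.mem_top h)
  rw [hg, hg, Matrix.mulVec_smul]

theorem act_hf (h : Cz z) (u v : V4) : hf (M.act h u) (M.act h v) = hf u v := by
  obtain ⟨g, hg', hg⟩ := M.lin h (hH ▸ Subgroup.mem_top h)
  rw [hg, hg]
  exact hg' u v

theorem act_tv (h : Cz z) (x v : V4) : M.act h (tv x v) = tv (M.act h x) (M.act h v) := by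
  simp only [tv, map_add, act_smul hH, act_hf hH]

omit hH in
theorem lift_U4 (g : U4) : ∃ h : Cz z, ∀ v, M.act h v = mat4 g *ᵥ v := by
  obtain ⟨h, -, e⟩ := M.lift g.1 g.2
  exact ⟨h, e⟩

omit hH in
theorem lift_tv {x : V4} (hx : hf x x = 0) : ∃ h : Cz z, ∀ v, M.act h v = tv x v := by
  obtain ⟨h, e⟩ := lift_U4 (M := M) (tvU x hx)
  exact ⟨h, fun v => by rw [e, mat4_tvU]⟩

omit hH in
theorem tv_smul {c : K4} (hc : c ≠ 0) (x v : V4) : tv (c • x) v = tv x v := by
  have h3 : ∀ k < 4, kOf k ≠ 0 → kOf k ^ 3 = (1 : K4) := by decide +kernel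
  have hc3 : c ^ 3 = 1 := by
    have := h3 _ (CfsgLib.Spor.U62.kCode_lt c) (by rwa [CfsgLib.Spor.U62.kOf_code])
    rwa [CfsgLib.Spor.U62.kOf_code] at this
  rw [tv, tv, hf_smul_right, smul_smul, mul_right_comm, ← pow_succ, hc3, one_mul]

omit hH in
theorem tv_fix {x v : V4} (h : hf v x = 0) : tv x v = v := by rw [tv, h, zero_smul, add_zero]

omit hH in
theorem hf_symm_zero {u v : V4} (h : hf u v = 0) : hf v u = 0 := by
  rw [hf_swap, h, zero_pow two_ne_zero]

variable (F : Fused M)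

omit hH in
theorem mem_w : Mem M F.w x₀ :=
  ⟨F.w_conj, by decide +kernel, by decide +kernel, F.w_act⟩

theorem Mem.map {y : Cz z} {x : V4} (hy : Mem M y x) (h : Cz z) : Mem M (h * y * h⁻¹) (M.act h x) where
  conj := hy.conj.trans (isConj_iff.2 ⟨(h : G), by simp⟩)
  iso := by rw [act_hf hH, hy.iso]
  ne e := hy.ne (by rw [← act_inv_act (M := M) h x, e, map_zero])
  act v := by rw [act_mul, act_mul, hy.act, act_tv hH, act_act_inv]

omit hH in
theorem Mem.smul {y : Cz z} {x : V4} (hy : Mem M y x) {c : K4} (hc : c ≠ 0) : Mem M y (c • x) where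
  conj := hy.conj
  iso := by rw [hf_smul_left, hf_smul_right, hy.iso, mul_zero, mul_zero]
  ne := smul_ne_zero hc hy.ne
  act v := by rw [hy.act, tv_smul hc]

include F in
theorem exists_mem {y : Cz z} (hy : IsConj z (y : G)) (hne : (y : G) ≠ z) : ∃ x, Mem M y x := by
  obtain ⟨h, -, rfl⟩ := F.one_class y hy hne
  exact ⟨_, (mem_w F).map hH h⟩

omit hH in
theorem Mem.ne_z {y : Cz z} {x : V4} (hy : Mem M y x) : (y : G) ≠ z := by
  intro e
  have hz : y = zC z := Subtype.ext e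
  obtain ⟨v, hv⟩ : ∃ v, hf v x ≠ 0 := by
    by_contra hh
    push Not at hh
    refine hy.ne (funext fun i => ?_)
    have := hh (Pi.single i 1)
    simp only [hf, Cfsg.hermForm, Pi.single_apply, ite_mul, one_mul, zero_mul, Finset.sum_ite_eq',
      Finset.mem_univ, if_true] at this
    exact pow_eq_zero_iff two_ne_zero |>.1 this
  have := hy.act v
  rw [hz, act_J P.xc.mem, tv] at this
  exact hv ((smul_eq_zero.1 (left_eq_add.1 this)).resolve_right hy.ne)

include F in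
theorem Mem.exists_conj {y : Cz z} {x : V4} (hy : Mem M y x) :
    ∃ h : Cz z, y = h * F.w * h⁻¹ ∧ ∃ c : K4, c ≠ 0 ∧ x = c • M.act h x₀ := by
  obtain ⟨h, -, rfl⟩ := F.one_class y hy.conj hy.ne_z
  refine ⟨h, rfl, ?_⟩
  have e : ∀ v, tv x v = tv (M.act h x₀) v := fun v => by
    rw [← hy.act, ((mem_w F).map hH h).act]
  obtain ⟨v, hv⟩ : ∃ v, hf v x ≠ 0 := by
    by_contra hh
    push Not at hh
    refine hy.ne (funext fun i => ?_)
    have := hh (Pi.single i 1)
    simp only [hf, Cfsg.hermForm, Pi.single_apply, ite_mul, one_mul, zero_mul, Finset.sum_ite_eq',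
      Finset.mem_univ, if_true] at this
    exact pow_eq_zero_iff two_ne_zero |>.1 this
  have e1 : hf v x • x = hf v (M.act h x₀) • M.act h x₀ := add_left_cancel (e v)
  refine ⟨(hf v x)⁻¹ * hf v (M.act h x₀), mul_ne_zero (inv_ne_zero hv) fun e0 => ?_, ?_⟩
  · rw [e0, zero_smul] at e1
    exact hv ((smul_eq_zero.1 e1).resolve_right hy.ne)
  · rw [mul_smul, ← e1, smul_smul, inv_mul_cancel₀ hv, one_smul]

include F in
theorem Mem.sq {y : Cz z} {x : V4} (hy : Mem M y x) : y * y = 1 := by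
  obtain ⟨h, rfl, -⟩ := hy.exists_conj hH F
  rw [show h * F.w * h⁻¹ * (h * F.w * h⁻¹) = h * (F.w * F.w) * h⁻¹ by group, F.w_sq, mul_one,
    mul_inv_cancel]

include F in
theorem Mem.inv_eq {y : Cz z} {x : V4} (hy : Mem M y x) : y⁻¹ = y :=
  inv_eq_of_mul_eq_one_right (hy.sq hH F)

omit hH in
theorem vec_conj' (h : Cz z) (j : P.J) :
    M.vec ⟨h * (j : Cz z) * h⁻¹, P.normJ.conj_mem _ j.2 h⟩ = M.act h (M.vec j) := M.vec_conj h j

omit hH in
theorem vec_one : M.vec 1 = 0 := (M.vec_eq_zero 1).2 (Or.inl rfl)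

omit hH in
theorem vec_inv (j : P.J) : M.vec j⁻¹ = M.vec j := by
  have h := M.vec_mul j⁻¹ j
  rw [inv_mul_cancel, vec_one] at h
  calc M.vec j⁻¹ = M.vec j⁻¹ + (M.vec j + M.vec j) := by
        have : M.vec j + M.vec j = 0 := by
          rw [← two_smul K4, show (2 : K4) = 0 by decide +kernel, zero_smul]
        rw [this, add_zero]
    _ = M.vec j := by rw [← add_assoc, ← h, zero_add]

include F in
/-- the centraliser in `J` of a member -/
theorem Mem.cent {y : Cz z} {x : V4} (hy : Mem M y x) {j : P.J} (hj : hf (M.vec j) x = 0) :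
    (j : Cz z) * y = y * j := by
  obtain ⟨h, rfl, c, hc, rfl⟩ := hy.exists_conj hH F
  rw [hf_smul_right, mul_eq_zero, pow_eq_zero_iff two_ne_zero] at hj
  have h1 : hf (M.act h⁻¹ (M.vec j)) x₀ = 0 := by
    rw [← act_hf hH h, act_act_inv]
    exact hj.resolve_left hc
  rw [← vec_conj'] at h1
  have h2 := F.cent_R _ h1
  simp only [inv_inv] at h2
  calc (j : Cz z) * (h * F.w * h⁻¹) = h * (h⁻¹ * j * h * F.w) * h⁻¹ := by group
    _ = h * (F.w * (h⁻¹ * j * h)) * h⁻¹ := by rw [h2]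
    _ = _ := by group

include F in
/-- the difference of a member and a translate -/
theorem Mem.diff {y : Cz z} {x : V4} (hy : Mem M y x) (j : P.J) :
    ∃ s : P.J, (s : Cz z) = (j : Cz z) * y * (j : Cz z)⁻¹ * y ∧ M.vec s = hf (M.vec j) x • x := by
  refine ⟨j * ⟨y * ((j⁻¹ : P.J) : Cz z) * y⁻¹, P.normJ.conj_mem _ (j⁻¹).2 y⟩, ?_, ?_⟩
  · simp only [Subgroup.coe_mul, Subgroup.coe_inv, hy.inv_eq hH F, mul_assoc]
  · rw [M.vec_mul, vec_conj', vec_inv, hy.act, tv, ← add_assoc, ← two_smul K4 (M.vec j),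
      show (2 : K4) = 0 by decide +kernel, zero_smul, zero_add]

include F in
theorem Mem.trans_eq {y : Cz z} {x : V4} (hy : Mem M y x) {j k : P.J} :
    (j : Cz z) * y * (j : Cz z)⁻¹ = (k : Cz z) * y * (k : Cz z)⁻¹ ↔ hf (M.vec j) x = hf (M.vec k) x := by
  constructor
  · intro e
    obtain ⟨s, hs, hsv⟩ := hy.diff hH F j
    obtain ⟨t, ht, htv⟩ := hy.diff hH F k
    have : s = t := Subtype.ext (by rw [hs, ht, e])
    rw [this, htv] at hsv
    exact (smul_left_injective K4 hy.ne hsv).symm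
  · intro e
    have h1 : hf (M.vec (k⁻¹ * j)) x = 0 := by
      rw [M.vec_mul, vec_inv, hf_add_left, e, ← two_mul, show (2 : K4) = 0 by decide +kernel, zero_mul]
    have h2 := hy.cent hH F h1
    simp only [Subgroup.coe_mul, Subgroup.coe_inv] at h2
    calc (j : Cz z) * y * (j : Cz z)⁻¹ = (k : Cz z) * (((k : Cz z)⁻¹ * j) * y) * (j : Cz z)⁻¹ := by group
      _ = (k : Cz z) * (y * ((k : Cz z)⁻¹ * j)) * (j : Cz z)⁻¹ := by rw [h2]
      _ = _ := by group

include F in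
theorem Mem.translate {y : Cz z} {x : V4} (hy : Mem M y x) (j : P.J) :
    Mem M ((j : Cz z) * y * (j : Cz z)⁻¹) x := by
  have := hy.map hH (j : Cz z)
  rwa [act_J j.2] at this

include F in
/-- one fibre is one orbit of `J` -/
theorem Mem.fibre {y y' : Cz z} {x : V4} (hy : Mem M y x) (hy' : Mem M y' x) :
    ∃ j : P.J, y' = (j : Cz z) * y * (j : Cz z)⁻¹ := by
  obtain ⟨h, rfl, -⟩ := hy.exists_conj hH F
  obtain ⟨k, rfl, -⟩ := hy'.exists_conj hH F
  set g : (Cz z) := h⁻¹ * k with hg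
  have hgw : ∀ v, M.act g (tv x₀ v) = tv x₀ (M.act g v) := fun v => by
    have e1 := hy.act (M.act k v)
    have e2 := hy'.act (M.act k v)
    rw [act_mul, act_mul, F.w_act] at e1 e2
    rw [← e1, act_inv_act] at e2
    rw [hg, act_mul, act_mul, e2, act_inv_act]
  obtain ⟨j, hj, hjw⟩ := F.stab g (hH ▸ Subgroup.mem_top g) hgw
  refine ⟨⟨k * j⁻¹ * k⁻¹, P.normJ.conj_mem _ (P.J.inv_mem hj) k⟩, ?_⟩
  have e : h = k * j * (g * j)⁻¹ := by rw [hg]; group
  have e2 : h * F.w * h⁻¹ = k * j * F.w * (k * j)⁻¹ := by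
    calc h * F.w * h⁻¹ = k * j * ((g * j)⁻¹ * F.w * (g * j)) * (k * j)⁻¹ := by rw [e]; group
      _ = k * j * ((g * j)⁻¹ * ((g * j) * F.w)) * (k * j)⁻¹ := by rw [hjw]; group
      _ = _ := by group
  show k * F.w * k⁻¹ = k * j⁻¹ * k⁻¹ * (h * F.w * h⁻¹) * (k * j⁻¹ * k⁻¹)⁻¹
  rw [e2]
  group

include F in
/-- the stabiliser of the point adjusted to the base member -/
theorem fix_w (g : Cz z) (hg : ∃ c : K4, c ≠ 0 ∧ M.act g x₀ = c • x₀) :
    ∃ h : Cz z, h * F.w * h⁻¹ = F.w ∧ ∀ v, M.act h v = M.act g v := by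
  obtain ⟨c, hc, e⟩ := hg
  obtain ⟨j, hj, hjw⟩ := F.stab g (hH ▸ Subgroup.mem_top g) fun v => by
    rw [act_tv hH, e, tv_smul hc]
  exact ⟨g * j, by rw [hjw, mul_inv_cancel_right], fun v => by rw [act_mul, act_J hj]⟩

include F in
/-- moving a member to the base member -/
theorem Mem.to_w {y : Cz z} {x : V4} (hy : Mem M y x) :
    ∃ h : Cz z, h * y * h⁻¹ = F.w ∧ ∃ c : K4, c ≠ 0 ∧ M.act h x = c • x₀ := by
  obtain ⟨h, rfl, c, hc, e⟩ := hy.exists_conj hH F
  refine ⟨h⁻¹, by group, c, hc, ?_⟩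
  rw [e, act_smul hH, act_inv_act]

include F in
theorem move_pair {y y' : Cz z} {x x' : V4} (hy : Mem M y x) (hy' : Mem M y' x') (ho : hf x x' = 0)
    (hne : ∀ c : K4, x' ≠ c • x) :
    ∃ h : Cz z, h * y * h⁻¹ = F.w ∧ Mem M (h * y' * h⁻¹) bV := by
  obtain ⟨h₁, e₁, c, hc, ec⟩ := hy.to_w hH F
  have hm := hy'.map hH h₁
  have ho' : hf (M.act h₁ x') x₀ = 0 := by
    have h0 : hf (M.act h₁ x') (M.act h₁ x) = 0 := by rw [act_hf hH, hf_symm_zero ho]
    rw [ec, hf_smul_right, mul_eq_zero] at h0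
    exact h0.resolve_left (pow_ne_zero _ hc)
  obtain ⟨a, b, ha, ha₀, hb, hb₀, d, hd, ed⟩ := Fr.move_b hm.iso ho' hm.ne fun c' e => by
    refine hne (c' * c⁻¹) ?_
    have ex : M.act h₁⁻¹ x₀ = c⁻¹ • x := by
      rw [eq_inv_smul_iff₀ hc, ← act_smul hH, ← ec, act_inv_act]
    rw [← act_inv_act (M := M) h₁ x', e, act_smul hH, ex, mul_smul]
  obtain ⟨la, hla⟩ := lift_tv (M := M) ha
  obtain ⟨lb, hlb⟩ := lift_tv (M := M) hb
  obtain ⟨h₂, e₂, a₂⟩ := fix_w hH F (la * lb) ⟨1, one_ne_zero, by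
    rw [act_mul, hlb, hla, tv_fix (hf_symm_zero hb₀), tv_fix (hf_symm_zero ha₀), one_smul]⟩
  refine ⟨h₂ * h₁, ?_, ?_⟩
  · calc h₂ * h₁ * y * (h₂ * h₁)⁻¹ = h₂ * (h₁ * y * h₁⁻¹) * h₂⁻¹ := by group
      _ = _ := by rw [e₁, e₂]
  · have hm2 := (hy'.map hH (h₂ * h₁)).smul (inv_ne_zero hd)
    rwa [act_mul, a₂, act_mul, hlb, hla, ed, smul_smul, inv_mul_cancel₀ hd, one_smul] at hm2

include F in
theorem comm_w_b {y : Cz z} (hy : Mem M y bV) : Commute F.w y := by
  obtain ⟨g, hg⟩ := lift_U4 (M := M) Fr.dgU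
  have hg' : ∀ v, M.act g v = Fr.dgF v := fun v => by rw [hg]; exact Fr.dgMat_mulVec v
  obtain ⟨k, hk, hka⟩ := fix_w hH F g ⟨kOf 3, by decide +kernel, by rw [hg', Fr.dgF_x₀]⟩
  have hkb : M.act k bV = kOf 2 • bV := by rw [hka, hg', Fr.dgF_bV]
  have hscale : ∀ u, hf (M.act k u) bV = kOf 2 * hf u bV := fun u => by
    have e : bV = kOf 3 • M.act k bV := by
      rw [hkb, smul_smul, show kOf 3 * kOf 2 = 1 by decide +kernel, one_smul]
    conv_lhs => rw [e]
    rw [hf_smul_right, act_hf hH, show kOf 3 ^ 2 = kOf 2 by decide +kernel]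
  obtain ⟨m, hm⟩ := hy.fibre hH F (show Mem M (k * y * k⁻¹) bV from by
    have := (hy.map hH k).smul (show kOf 3 ≠ 0 by decide +kernel)
    rwa [hkb, smul_smul, show kOf 3 * kOf 2 = 1 by decide +kernel, one_smul] at this)
  set d : K4 := kOf 2 * hf (M.vec m) bV with hd
  obtain ⟨j, hj⟩ := M.vec_surj ![0, 0, d, 0]
  have hjd : hf (M.vec j) bV = d := by
    simp [hj, hf, Cfsg.hermForm, Fin.sum_univ_four, Fr.bV]
  set y₂ := (j : Cz z) * y * (j : Cz z)⁻¹ with hy₂
  have hy₂m : Mem M y₂ bV := hy.translate hH F j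
  have hfix : k * y₂ * k⁻¹ = y₂ := by
    let j' : P.J := ⟨k * (j : Cz z) * k⁻¹, P.normJ.conj_mem _ j.2 k⟩ * m
    have e : k * y₂ * k⁻¹ = (j' : Cz z) * y * (j' : Cz z)⁻¹ := by
      calc k * y₂ * k⁻¹ = (k * (j : Cz z) * k⁻¹) * (k * y * k⁻¹) * (k * (j : Cz z) * k⁻¹)⁻¹ := by
            rw [hy₂]; group
        _ = _ := by rw [hm]; simp only [j', Subgroup.coe_mul]; group
    rw [e, hy₂, hy.trans_eq hH F, M.vec_mul, vec_conj', hf_add_left, hscale, hjd, hd]
    have hom : kOf 2 * kOf 2 + 1 = (kOf 2 : K4) := by decide +kernel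
    linear_combination (hf (M.vec m) bV) * hom
  obtain ⟨i, hi⟩ := hy₂m.fibre hH F (show Mem M (F.w * y₂ * F.w⁻¹) bV from by
    have := hy₂m.map hH F.w
    rwa [F.w_act, tv_fix (by decide +kernel : hf bV x₀ = 0)] at this)
  have hi0 : hf (M.vec i) bV = 0 := by
    have e : k * (F.w * y₂ * F.w⁻¹) * k⁻¹ = F.w * y₂ * F.w⁻¹ := by
      calc k * (F.w * y₂ * F.w⁻¹) * k⁻¹
          = (k * F.w * k⁻¹) * (k * y₂ * k⁻¹) * (k * F.w * k⁻¹)⁻¹ := by group
        _ = _ := by rw [hk, hfix]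
    rw [hi] at e
    let i' : P.J := ⟨k * (i : Cz z) * k⁻¹, P.normJ.conj_mem _ i.2 k⟩
    have e' : (i' : Cz z) * y₂ * (i' : Cz z)⁻¹ = (i : Cz z) * y₂ * (i : Cz z)⁻¹ := by
      calc (i' : Cz z) * y₂ * (i' : Cz z)⁻¹
          = k * ((i : Cz z) * (k⁻¹ * y₂ * k) * (i : Cz z)⁻¹) * k⁻¹ := by simp only [i']; group
        _ = k * ((i : Cz z) * (k⁻¹ * (k * y₂ * k⁻¹) * k) * (i : Cz z)⁻¹) * k⁻¹ := by rw [hfix]
        _ = k * ((i : Cz z) * y₂ * (i : Cz z)⁻¹) * k⁻¹ := by group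
        _ = _ := e
    rw [hy₂m.trans_eq hH F, vec_conj', hscale] at e'
    by_contra h0
    exact absurd ((mul_eq_right₀ h0).1 e') (by decide +kernel)
  rw [hy₂m.cent hH F hi0, mul_inv_cancel_right] at hi
  have hc2 : Commute F.w y₂ := mul_inv_eq_iff_eq_mul.1 hi
  obtain ⟨n, hn⟩ := hy₂m.fibre hH F hy
  rw [hn]
  let n' : P.J := ⟨F.w * (n : Cz z) * F.w⁻¹, P.normJ.conj_mem _ n.2 F.w⟩
  have e : (n' : Cz z) * y₂ * (n' : Cz z)⁻¹ = (n : Cz z) * y₂ * (n : Cz z)⁻¹ := by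
    rw [hy₂m.trans_eq hH F, vec_conj', F.w_act, tv, hf_add_left, hf_smul_left,
      show hf x₀ bV = 0 by decide +kernel, mul_zero, add_zero]
  refine mul_inv_eq_iff_eq_mul.1 ?_
  calc F.w * ((n : Cz z) * y₂ * (n : Cz z)⁻¹) * F.w⁻¹
      = (n' : Cz z) * (F.w * y₂ * F.w⁻¹) * (n' : Cz z)⁻¹ := by simp only [n']; group
    _ = (n' : Cz z) * y₂ * (n' : Cz z)⁻¹ := by rw [hc2.eq, mul_inv_cancel_right]
    _ = _ := e

include F in
/-- members over orthogonal points commute -/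
theorem orth_comm {y y' : Cz z} {x x' : V4} (hy : Mem M y x) (hy' : Mem M y' x') (ho : hf x x' = 0) :
    Commute y y' := by
  by_cases hne : ∀ c : K4, x' ≠ c • x
  · obtain ⟨h, e, hm⟩ := move_pair hH F hy hy' ho hne
    have := comm_w_b hH F hm
    rw [← e] at this
    exact (Commute.conj_iff h).1 this
  · push Not at hne
    obtain ⟨c, rfl⟩ := hne
    have hc : c ≠ 0 := fun e => hy'.ne (by rw [e, zero_smul])
    have hy'' : Mem M y' x := by
      have := hy'.smul (inv_ne_zero hc)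
      rwa [smul_smul, inv_mul_cancel₀ hc, one_smul] at this
    obtain ⟨j, rfl⟩ := hy.fibre hH F hy''
    obtain ⟨s, hs, hsv⟩ := hy.diff hH F j
    have h1 := hy.cent hH F (j := s) (by rw [hsv, hf_smul_left, hy.iso, mul_zero])
    rw [hs] at h1
    have h2 := hy.sq hH F
    have h3 : (j : Cz z) * y * (j : Cz z)⁻¹ = (j : Cz z) * y * (j : Cz z)⁻¹ * y * y := by
      rw [mul_assoc _ y y, h2, mul_one]
    exact h3 ▸ ((show Commute y ((j : Cz z) * y * (j : Cz z)⁻¹ * y) from h1.symm).mul_right (Commute.refl y))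

/-- orthogonality from commutation -/
theorem orth_of_comm {y y' : Cz z} {x x' : V4} (hy : Mem M y x) (hy' : Mem M y' x')
    (hc : Commute y y') : hf x x' = 0 := by
  by_contra hne
  have e : M.act (y * y') x' = M.act (y' * y) x' := by rw [hc.eq]
  rw [act_mul, act_mul, hy'.act, tv_fix hy'.iso, hy.act, hy'.act] at e
  have h2 : hf (tv x x') x' = 0 := by
    have e' : tv x x' = tv x x' + hf (tv x x') x' • x' := e
    exact (smul_eq_zero.1 (left_eq_add.1 e')).resolve_right hy'.ne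
  rw [tv, hf_add_left, hy'.iso, zero_add, hf_smul_left, mul_eq_zero, hf_swap x x',
    pow_eq_zero_iff two_ne_zero, or_self] at h2
  exact hne h2

include F in
/-- four translates of one member multiply to `z` -/
theorem Mem.fibre_prod {y : Cz z} {x : V4} (hy : Mem M y x) {j k : P.J} (hj : hf (M.vec j) x = 1)
    (hk : hf (M.vec k) x = kOf 2) :
    y * ((j : Cz z) * y * (j : Cz z)⁻¹) * ((k : Cz z) * y * (k : Cz z)⁻¹) *
      ((j * k : P.J) * y * ((j * k : P.J) : Cz z)⁻¹) = zC z := by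
  obtain ⟨s, hs, hsv⟩ := hy.diff hH F j
  have hys : y * ((j : Cz z) * y * (j : Cz z)⁻¹) = (s : Cz z) := by
    rw [hs]
    exact (orth_comm hH F hy (hy.translate hH F j) hy.iso).eq
  have hsv' : M.vec s = x := by rw [hsv, hj, one_smul]
  have hnc : ¬ k * s = s * k := by
    rw [M.vec_comm, hsv', hk]
    decide +kernel
  have hks : (k : Cz z) * s * (k : Cz z)⁻¹ = zC z * s :=
    (P.xc.commEl _ k.2 _ s.2).resolve_left fun e =>
      hnc (Subtype.ext (mul_inv_eq_iff_eq_mul.1 e))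
  have hkj : ((k * j : P.J) : Cz z) * y * ((k * j : P.J) : Cz z)⁻¹
      = ((j * k : P.J) : Cz z) * y * ((j * k : P.J) : Cz z)⁻¹ := by
    rw [hy.trans_eq hH F, M.vec_mul, M.vec_mul, add_comm]
  calc y * ((j : Cz z) * y * (j : Cz z)⁻¹) * ((k : Cz z) * y * (k : Cz z)⁻¹) *
        ((j * k : P.J) * y * ((j * k : P.J) : Cz z)⁻¹)
      = (s : Cz z) * (((k : Cz z) * (y * ((j : Cz z) * y * (j : Cz z)⁻¹)) * (k : Cz z)⁻¹)) := by
        rw [← hkj, hys, ← hys]
        simp only [Subgroup.coe_mul]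
        group
    _ = (s : Cz z) * (zC z * s) := by rw [hys, hks]
    _ = zC z := by
      rw [← mul_assoc, zC_comm, mul_assoc]
      have : (s : Cz z) * s = 1 := congrArg Subtype.val
        ((M.vec_sq s).2 (by rw [hsv', hy.iso]))
      rw [this, mul_one]

end CfsgLib.U62Cent.Fr
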