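import Cfsg.Agent.Lib.U62Cent.FramePts

/-!
A section of the fibres over the base line which an element sends to one fibre.
-/

set_option autoImplicit false
set_option linter.unusedSectionVars false

namespace CfsgLib.U62Cent.Fr

open Matrix

universe u

variable {G : Type u} [Group G] [Finite G] {z : G} {P : Hyp z} {M : Nat4 P}

/-- conjugation of an element of the centraliser by an element moving it into the centraliser -/
def toCz (g : G) (y : Cz z) (h : Commute (g * (y : G) * g⁻¹) z) : Cz z :=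
  ⟨g * (y : G) * g⁻¹, Subgroup.mem_centralizer_singleton_iff.2 h.eq⟩

theorem Mem.unique_x {y : Cz z} {x x' : V4} (hy : Mem M y x) (hy' : Mem M y x') :
    ∃ c : K4, c ≠ 0 ∧ x = c • x' := by
  obtain ⟨v, hv⟩ : ∃ v, hf v x ≠ 0 := by
    by_contra hh
    push Not at hh
    refine hy.ne (funext fun i => ?_)
    have := hh (Pi.single i 1)
    simp only [hf, Cfsg.hermForm, Pi.single_apply, ite_mul, one_mul, zero_mul, Finset.sum_ite_eq',
      Finset.mem_univ, if_true] at this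
    exact pow_eq_zero_iff two_ne_zero |>.1 this
  have e1 : hf v x • x = hf v x' • x' := add_left_cancel ((hy.act v).symm.trans (hy'.act v))
  refine ⟨(hf v x)⁻¹ * hf v x', mul_ne_zero (inv_ne_zero hv) fun e0 => ?_, ?_⟩
  · rw [e0, zero_smul] at e1
    exact hv ((smul_eq_zero.1 e1).resolve_right hy.ne)
  · rw [mul_smul, ← e1, smul_smul, inv_mul_cancel₀ hv, one_smul]

theorem Mem.idx_eq {y : Cz z} {i j : Fin 5} (h : Mem M y (rV i)) (h' : Mem M y (rV j)) : i = j := by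
  obtain ⟨c, -, e⟩ := h.unique_x h'
  exact Fr.rV_indep i j _ (CfsgLib.Spor.U62.kCode_lt c) (by rw [CfsgLib.Spor.U62.kOf_code]; exact e)

theorem hf_rV {v : V4} (i : Fin 5) :
    hf v (rV i) = Fr.rA i ^ 2 * hf v x₀ + Fr.rB i ^ 2 * hf v bV := by
  rw [Fr.rV_eq, hf_add_right, hf_smul_right, hf_smul_right]

variable (hH : P.H₁ = ⊤) (F : Fused M)
include hH F

/-- an element conjugating a commuting pair into the centraliser -/
theorem exists_mem_conj {g : G} {y : Cz z} (hy : IsConj z (y : G)) (hc : Commute (g * (y : G) * g⁻¹) z)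
    (hne : g * (y : G) * g⁻¹ ≠ z) : ∃ x, Mem M (toCz g y hc) x :=
  exists_mem hH F (hy.trans (isConj_iff.2 ⟨g, rfl⟩)) hne

omit F in
/-- A member over a point orthogonal to both base points is over the base line. -/
theorem Mem.on_line {y : Cz z} {x : V4} (hy : Mem M y x) (h1 : hf x x₀ = 0) (h2 : hf x bV = 0) :
    ∃ i, Mem M y (rV i) := by
  obtain ⟨s, t, e⟩ := Fr.perp_l h1 h2
  obtain ⟨i, c, hc, ei⟩ := Fr.rV_span hy.ne e
  refine ⟨i, ?_⟩
  have := hy.smul (inv_ne_zero hc)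
  rwa [ei, smul_smul, inv_mul_cancel₀ hc, one_smul] at this

omit hH F in
theorem tv_add {x v u : V4} (h : hf u x = 0) : tv x (v + u) = tv x v + u := by
  rw [tv, tv, hf_add_left, h, add_zero, add_right_comm]

omit hH F in
theorem tv_term {x y : V4} (h : hf x y = 0) (v : V4) : hf (hf v x • x) y = 0 := by
  rw [hf_smul_left, h, mul_zero]

omit F in
/-- four members over the base line with product a kernel element -/
theorem four_rel {a b c d : Cz z} {i j k l : Fin 5} (ha : Mem M a (rV i)) (hb : Mem M b (rV j))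
    (hc : Mem M c (rV k)) (hd : Mem M d (rV l)) {v : V4} :
    M.act (a * (b * (c * d))) v = v + hf v (rV l) • rV l + hf v (rV k) • rV k
      + hf v (rV j) • rV j + hf v (rV i) • rV i := by
  have p := Fr.rV_perp
  rw [act_mul, act_mul, act_mul, hd.act, hc.act, hb.act, ha.act]
  simp only [tv, hf_add_left, hf_smul_left, p, mul_zero, add_zero]

/-- the data -/
structure Sec (M : Nat4 P) (F : Fused M) where
  /-- the element -/
  g : G
  /-- the section -/
  w : Fin 5 → Cz z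
  mem : ∀ i, Mem M (w i) (rV i)
  w0 : w 0 = F.w
  gw : g * (F.w : G) * g⁻¹ = z
  gi : ∀ i, i ≠ 0 → ∃ y : Cz z, (y : G) = g * (w i : G) * g⁻¹ ∧ Mem M y x₀
  gz : ∃ (y : Cz z) (x : V4), (y : G) = g * z * g⁻¹ ∧ Mem M y x ∧
    ∃ s t : K4, t ≠ 0 ∧ x = s • x₀ + t • bV

omit hH F in
theorem parity_four : ∀ k l : Fin 5, (∀ m : Fin 5,
    ((if m = 0 then 1 else 0) + (if m = 1 then 1 else 0) + (if m = k then 1 else 0)
      + (if m = l then 1 else 0) : ZMod 2) =
    (1 + (if 0 = k then 1 else 0) + (if 0 = l then 1 else 0) : ZMod 2)) →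
    (k = 0 ∧ l = 1) ∨ (k = 1 ∧ l = 0) := by decide +kernel

omit hH F in
theorem parity_five : ∀ j k l : Fin 5, (∀ m : Fin 5,
    ((if m = 0 then 1 else 0) + (if m = 1 then 1 else 0) + (if m = j then 1 else 0)
      + (if m = k then 1 else 0) + (if m = l then 1 else 0) : ZMod 2) =
    (1 + (if 0 = j then 1 else 0) + (if 0 = k then 1 else 0) + (if 0 = l then 1 else 0) : ZMod 2)) →
    ∀ m : Fin 5, m = 0 ∨ m = 1 ∨ m = j ∨ m = k ∨ m = l := by decide +kernel

omit hH F in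
theorem indep_of_act {q : Fin 5 → ZMod 2}
    (h : ∀ v, ∑ i, q i • (hf v (rV i) • rV i) = 0) (i : Fin 5) : q i = q 0 :=
  Fr.indep_check q (h _) (h _) i

omit hH F in
theorem ite_smul_sum (k : Fin 5) (f : Fin 5 → V4) :
    ∑ m, (if m = k then (1 : ZMod 2) else 0) • f m = f k := by
  simp [ite_smul]

theorem exists_sec : Nonempty (Sec M F) := by
  classical
  obtain ⟨c, hc⟩ := isConj_iff.1 F.w_conj
  set g₀ : G := c⁻¹ with hg₀
  have hg₀w : g₀ * (F.w : G) * g₀⁻¹ = z := by rw [← hc, hg₀]; group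
  -- a member over the second point
  obtain ⟨x, y, hx, hy, c₁, hc₁, e₁⟩ :=
    Fr.move_x₀ (v := bV) (by decide +kernel) (by decide +kernel)
  obtain ⟨lx, hlx⟩ := lift_tv (M := M) hx
  obtain ⟨ly, hly⟩ := lift_tv (M := M) hy
  set h₀ : Cz z := lx * ly
  have hh₀ : M.act h₀ bV = c₁ • x₀ := by rw [act_mul, hly, hlx, e₁]
  set b₀ : Cz z := h₀⁻¹ * F.w * h₀⁻¹⁻¹
  have hb₀ : Mem M b₀ bV := by
    have := ((mem_w F).map hH h₀⁻¹).smul hc₁
    rwa [← act_smul hH, ← hh₀, act_inv_act] at this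
  have hwb : Commute F.w b₀ := orth_comm hH F (mem_w F) hb₀ (by decide +kernel)
  have hwb' : Commute (F.w : G) (b₀ : G) := hwb.map (Subgroup.subtype _)
  have hwz : Commute (F.w : G) z := Subgroup.mem_centralizer_singleton_iff.1 F.w.2
  have hbz : Commute (b₀ : G) z := Subgroup.mem_centralizer_singleton_iff.1 b₀.2
  have hb_ne : b₀ ≠ F.w := fun e => by
    have h01 := Mem.idx_eq (M := M) (i := 0) (j := 1) (by rw [Fr.rV_zero]; exact mem_w F)
      (by rw [Fr.rV_one, ← e]; exact hb₀)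
    exact absurd h01 (by decide)
  have hcb : Commute (g₀ * (b₀ : G) * g₀⁻¹) z := by
    have := (Commute.conj_iff g₀).2 hwb'.symm
    rwa [hg₀w] at this
  obtain ⟨x', hx'⟩ := exists_mem_conj hH F hb₀.conj hcb fun e => hb_ne (Subtype.ext
    (mul_left_cancel (mul_right_cancel (e.trans hg₀w.symm))))
  obtain ⟨h₁, eh₁, -⟩ := hx'.to_w hH F
  set g₁ : G := (h₁ : G) * g₀ with hg₁
  have hh₁z : (h₁ : G) * z * (h₁ : G)⁻¹ = z := by
    rw [Subgroup.mem_centralizer_singleton_iff.1 h₁.2, mul_inv_cancel_right]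
  have g₁w : g₁ * (F.w : G) * g₁⁻¹ = z := by
    calc g₁ * (F.w : G) * g₁⁻¹ = (h₁ : G) * (g₀ * (F.w : G) * g₀⁻¹) * (h₁ : G)⁻¹ := by rw [hg₁]; group
      _ = _ := by rw [hg₀w, hh₁z]
  have g₁b : g₁ * (b₀ : G) * g₁⁻¹ = (F.w : G) := by
    rw [← eh₁, hg₁]
    simp only [Subgroup.coe_mul, Subgroup.coe_inv, toCz]
    group
  have hcz : Commute (g₁ * z * g₁⁻¹) z := by
    conv => arg 2; rw [← g₁w]
    exact (Commute.conj_iff g₁).2 hwz.symm
  have hzne : g₁ * z * g₁⁻¹ ≠ z := fun e => (mem_w F).ne_z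
    (mul_left_cancel (mul_right_cancel (g₁w.trans e.symm)))
  obtain ⟨xz, hxz⟩ := exists_mem hH F (y := ⟨g₁ * z * g₁⁻¹, Subgroup.mem_centralizer_singleton_iff.2 hcz.eq⟩)
    (isConj_iff.2 ⟨g₁, rfl⟩) hzne
  set yz : Cz z := ⟨g₁ * z * g₁⁻¹, Subgroup.mem_centralizer_singleton_iff.2 hcz.eq⟩
  have hyzw : Commute yz F.w := Subtype.ext (show g₁ * z * g₁⁻¹ * (F.w : G) = (F.w : G) * (g₁ * z * g₁⁻¹) by
    rw [← g₁b]; exact ((Commute.conj_iff g₁).2 hbz.symm).eq)
  have hoz : hf xz x₀ = 0 := orth_of_comm hH hxz (mem_w F) hyzw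
  -- pulling back members over the base point
  have pull : ∀ (g : G), g * (F.w : G) * g⁻¹ = z → g * (b₀ : G) * g⁻¹ = F.w →
      ∀ (u : Cz z), Mem M u x₀ → Commute (u : G) (g * z * g⁻¹) → (u : G) ≠ g * z * g⁻¹ →
      ∃ U : Cz z, (U : G) = g⁻¹ * u * g ∧ ∃ i, Mem M U (rV i) := by
    intro g gw gb u hu huz hune
    have hUz : Commute (g⁻¹ * (u : G) * g⁻¹⁻¹) z := (Commute.conj_iff g).1 (by
      rwa [show g * (g⁻¹ * (u : G) * g⁻¹⁻¹) * g⁻¹ = (u : G) by group])
    obtain ⟨xU, hU⟩ := exists_mem_conj hH F (g := g⁻¹) hu.conj hUz fun e => hune (by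
      conv_rhs => rw [← e]
      group)
    refine ⟨toCz g⁻¹ u hUz, by simp [toCz], ?_⟩
    have back : ∀ y : Cz z, Commute (u : G) (g * y * g⁻¹) → Commute (toCz g⁻¹ u hUz) y := fun y h => by
      refine Subtype.ext ((Commute.conj_iff g).1 ?_).eq
      show Commute (g * (g⁻¹ * (u : G) * g⁻¹⁻¹) * g⁻¹) (g * y * g⁻¹)
      rwa [show g * (g⁻¹ * (u : G) * g⁻¹⁻¹) * g⁻¹ = (u : G) by group]
    refine hU.on_line hH (orth_of_comm hH hU (mem_w F) (back _ ?_)) (orth_of_comm hH hU hb₀ (back _ ?_))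
    · rw [gw]; exact Subgroup.mem_centralizer_singleton_iff.1 u.2
    · rw [gb]
      exact (orth_comm hH F hu (mem_w F) (by decide +kernel)).map (Subgroup.subtype _)
  have hline : ∀ t : K4, xz ≠ t • x₀ := by
    intro t et
    have ht : t ≠ 0 := fun e => hxz.ne (by rw [et, e, zero_smul])
    have hyz0 : Mem M yz x₀ := by
      have := hxz.smul (inv_ne_zero ht)
      rwa [et, smul_smul, inv_mul_cancel₀ ht, one_smul] at this
    obtain ⟨j, hj⟩ := (mem_w F).fibre hH F hyz0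
    set d : K4 := hf (M.vec j) x₀ with hd
    have hyw : yz ≠ F.w := fun e => by
      have e2 : g₁ * z * g₁⁻¹ = g₁ * (b₀ : G) * g₁⁻¹ := by rw [g₁b, ← e]
      exact hb₀.ne_z (mul_left_cancel (mul_right_cancel e2)).symm
    have hd0 : d ≠ 0 := fun e => hyw (by
      rw [hj, (mem_w F).cent hH F e, mul_inv_cancel_right])
    have hwd : Mem M F.w (d • x₀) := (mem_w F).smul hd0
    have hd3 : d ^ 2 * d = 1 := by
      have h3 : ∀ k < 4, CfsgLib.Spor.U62.kOf k ≠ 0 →
          CfsgLib.Spor.U62.kOf k ^ 2 * CfsgLib.Spor.U62.kOf k = (1 : K4) := by decide +kernel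
      have := h3 _ (CfsgLib.Spor.U62.kCode_lt d) (by rwa [CfsgLib.Spor.U62.kOf_code])
      rwa [CfsgLib.Spor.U62.kOf_code] at this
    obtain ⟨k, hk⟩ := M.vec_surj ![CfsgLib.Spor.U62.kOf 2 * d, 0, 0, 0]
    have hk' : hf (M.vec k) (d • x₀) = CfsgLib.Spor.U62.kOf 2 := by
      rw [hf_smul_right]
      simp [hk, hf, Cfsg.hermForm, Fin.sum_univ_four, x₀]
      linear_combination (CfsgLib.Spor.U62.kOf 2) * hd3
    have hj' : hf (M.vec j) (d • x₀) = 1 := by rw [hf_smul_right, ← hd, hd3]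
    have hprod := hwd.fibre_prod hH F hj' hk'
    rw [← hj] at hprod
    set u₂ : Cz z := (k : Cz z) * F.w * (k : Cz z)⁻¹
    set u₃ : Cz z := (j * k : P.J) * F.w * ((j * k : P.J) : Cz z)⁻¹
    have hu₂ : Mem M u₂ x₀ := (mem_w F).translate hH F k
    have hu₃ : Mem M u₃ x₀ := (mem_w F).translate hH F (j * k)
    have hval : ∀ (i : P.J) (r : K4), hf (M.vec i) (d • x₀) = r → r ≠ 1 →
        (((i : Cz z) * F.w * (i : Cz z)⁻¹ : Cz z) : G) ≠ g₁ * z * g₁⁻¹ := fun i r hr hr1 e => by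
      have e' : (i : Cz z) * F.w * (i : Cz z)⁻¹ = yz := Subtype.ext e
      rw [hj, hwd.trans_eq hH F, hr, hj'] at e'
      exact hr1 e'
    have hcy : ∀ u : Cz z, Mem M u x₀ → Commute (u : G) (g₁ * z * g₁⁻¹) := fun u hu =>
      (orth_comm hH F hu hyz0 hu.iso).map (Subgroup.subtype _)
    obtain ⟨U, hU, iU, hiU⟩ := pull g₁ g₁w g₁b u₂ hu₂ (hcy _ hu₂) (hval k _ hk' (by decide +kernel))
    obtain ⟨U', hU', iU', hiU'⟩ := pull g₁ g₁w g₁b u₃ hu₃ (hcy _ hu₃) (hval (j * k) _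
      (by rw [M.vec_mul, hf_add_left, hj', hk']) (by decide +kernel))
    have hrel : b₀ * (zC z * (U * U')) = F.w := by
      refine Subtype.ext ?_
      have h := congrArg (fun y : Cz z => g₁⁻¹ * (y : G) * g₁) hprod
      simp only [Subgroup.coe_mul] at h ⊢
      rw [show ((zC z : Cz z) : G) = z from rfl] at h ⊢
      rw [show (yz : G) = g₁ * z * g₁⁻¹ from rfl] at h
      rw [hU, hU']
      calc (b₀ : G) * (z * (g₁⁻¹ * (u₂ : G) * g₁ * (g₁⁻¹ * (u₃ : G) * g₁)))
          = g₁⁻¹ * (g₁ * (b₀ : G) * g₁⁻¹ * (g₁ * z * g₁⁻¹) * u₂ * u₃) * g₁ := by group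
        _ = g₁⁻¹ * z * g₁ := by rw [g₁b]; exact h
        _ = _ := by
          have := congrArg (fun e => g₁⁻¹ * e * g₁) g₁w
          simpa [mul_assoc] using this.symm
    have hwsq := F.w_sq
    have hkey : F.w * (b₀ * (U * U')) = zC z := by
      have h1 : b₀ * (U * U') = zC z * F.w := by
        calc b₀ * (U * U') = zC z * zC z * (b₀ * (U * U')) := by rw [z_sq P, one_mul]
          _ = zC z * (zC z * b₀ * (U * U')) := by group
          _ = zC z * (b₀ * (zC z * (U * U'))) := by rw [← zC_comm b₀]; group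
          _ = _ := by rw [hrel]
      rw [h1, ← zC_comm F.w, ← mul_assoc, hwsq, one_mul]
    have hpar : (iU = 0 ∧ iU' = 1) ∨ (iU = 1 ∧ iU' = 0) := by
      refine parity_four iU iU' fun m => ?_
      have h := indep_of_act (q := fun m => ((if m = 0 then 1 else 0) + (if m = 1 then 1 else 0)
        + (if m = iU then 1 else 0) + (if m = iU' then 1 else 0) : ZMod 2)) (fun v => ?_) m
      · simpa using h
      · simp only [add_smul, Finset.sum_add_distrib, ite_smul_sum]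
        have e := four_rel hH (M := M) (i := 0) (j := 1) (by rw [Fr.rV_zero]; exact mem_w F)
          (by rw [Fr.rV_one]; exact hb₀) hiU hiU' (v := v)
        rw [hkey, act_J P.xc.mem] at e
        have e' : (0 : V4) = hf v (rV iU') • rV iU' + hf v (rV iU) • rV iU + hf v (rV 1) • rV 1
            + hf v (rV 0) • rV 0 := by
          apply add_left_cancel (a := v)
          rw [add_zero]
          simp only [← add_assoc]
          exact e
        rw [e']
        abel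
    -- the product of the two differences has nonzero vector
    have fin : ∀ (A B : Cz z), Mem M A x₀ → Mem M B bV → (A : G) ≠ F.w → F.w * A * (b₀ * B) ≠ zC z := by
      intro A B hA hB hAw e
      obtain ⟨a, rfl⟩ := (mem_w F).fibre hH F hA
      obtain ⟨b, rfl⟩ := hb₀.fibre hH F hB
      obtain ⟨s, hs, hsv⟩ := (mem_w F).diff hH F a
      obtain ⟨t, ht, htv⟩ := hb₀.diff hH F b
      have h1 : F.w * ((a : Cz z) * F.w * (a : Cz z)⁻¹) = (s : Cz z) := by
        rw [hs]; exact (orth_comm hH F (mem_w F) hA (mem_w F).iso).eq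
      have h2 : b₀ * ((b : Cz z) * b₀ * (b : Cz z)⁻¹) = (t : Cz z) := by
        rw [ht]; exact (orth_comm hH F hb₀ hB hb₀.iso).eq
      rw [h1, h2] at e
      have h3 : M.vec (s * t) = 0 := (M.vec_eq_zero _).2 (Or.inr e)
      rw [M.vec_mul, hsv, htv] at h3
      have h4 : hf (M.vec a) x₀ = 0 := by
        have := congrFun h3 0
        simpa [x₀, bV] using this
      exact hAw (congrArg Subtype.val (show (a : Cz z) * F.w * (a : Cz z)⁻¹ = F.w by
        rw [(mem_w F).cent hH F h4, mul_inv_cancel_right]))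
    have hUne : ∀ (V : Cz z) (u : Cz z), (V : G) = g₁⁻¹ * u * g₁ → (u : G) ≠ z → (V : G) ≠ F.w := by
      intro V u hV hu e
      have h1 := g₁w
      rw [← e, hV] at h1
      exact hu ((show (u : G) = g₁ * (g₁⁻¹ * u * g₁) * g₁⁻¹ by group).trans h1)
    rcases hpar with ⟨e0, e1⟩ | ⟨e1, e0⟩ <;> subst e0 <;> subst e1
    · rw [Fr.rV_zero] at hiU; rw [Fr.rV_one] at hiU'
      refine fin U U' hiU hiU' (hUne U u₂ hU hu₂.ne_z) ?_
      have hc := (orth_comm hH F hb₀ hiU (by decide +kernel)).eq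
      rw [← hkey, mul_assoc, ← mul_assoc U b₀ U', ← hc]
      group
    · rw [Fr.rV_one] at hiU; rw [Fr.rV_zero] at hiU'
      refine fin U' U hiU' hiU (hUne U' u₃ hU' hu₃.ne_z) ?_
      have hc := (orth_comm hH F hb₀ hiU' (by decide +kernel)).eq
      have hc2 := (orth_comm hH F hiU hiU' (by decide +kernel)).eq
      rw [← hkey, mul_assoc, ← mul_assoc U' b₀ U, ← hc, mul_assoc b₀ U' U, ← hc2]
  -- move the image of `z` onto the base line
  obtain ⟨a, ha, ha₀, s, t, est⟩ := Fr.move_l hxz.iso hoz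
  obtain ⟨la, hla⟩ := lift_tv (M := M) ha
  obtain ⟨h₂, eh₂, ah₂⟩ := fix_w hH F la ⟨1, one_ne_zero, by
    rw [hla, tv_fix (hf_symm_zero ha₀), one_smul]⟩
  have ht : t ≠ 0 := fun e => hline s (by
    rw [e, zero_smul, add_zero, ← hla, ← ah₂] at est
    have := congrArg (M.act h₂⁻¹) est
    rw [act_inv_act, act_smul hH] at this
    rw [this]
    congr 1
    have h0 : M.act h₂ x₀ = x₀ := by rw [ah₂, hla, tv_fix (hf_symm_zero ha₀)]
    rw [← h0]
    rw [act_inv_act, h0])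
  set g : G := (h₂ : G) * g₁ with hg
  have hh₂z : (h₂ : G) * z * (h₂ : G)⁻¹ = z := by
    rw [Subgroup.mem_centralizer_singleton_iff.1 h₂.2, mul_inv_cancel_right]
  have gw : g * (F.w : G) * g⁻¹ = z := by
    calc g * (F.w : G) * g⁻¹ = (h₂ : G) * (g₁ * (F.w : G) * g₁⁻¹) * (h₂ : G)⁻¹ := by rw [hg]; group
      _ = _ := by rw [g₁w, hh₂z]
  have gb : g * (b₀ : G) * g⁻¹ = F.w := by
    calc g * (b₀ : G) * g⁻¹ = (h₂ : G) * (g₁ * (b₀ : G) * g₁⁻¹) * (h₂ : G)⁻¹ := by rw [hg]; group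
      _ = ((h₂ * F.w * h₂⁻¹ : Cz z) : G) := by rw [g₁b]; simp
      _ = _ := by rw [eh₂]
  have hyzG : ((h₂ * yz * h₂⁻¹ : Cz z) : G) = g * z * g⁻¹ := by
    simp only [Subgroup.coe_mul, Subgroup.coe_inv, yz, hg]; group
  have hyzM : Mem M (h₂ * yz * h₂⁻¹) (s • x₀ + t • bV) := by
    have := hxz.map hH h₂
    rwa [ah₂, hla, est] at this
  obtain ⟨j, hj⟩ := M.vec_surj ![1, 0, 0, 0]
  obtain ⟨k, hk⟩ := M.vec_surj ![CfsgLib.Spor.U62.kOf 2, 0, 0, 0]
  have hj' : hf (M.vec j) x₀ = 1 := by simp [hj, hf, Cfsg.hermForm, Fin.sum_univ_four, x₀]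
  have hk' : hf (M.vec k) x₀ = CfsgLib.Spor.U62.kOf 2 := by
    simp [hk, hf, Cfsg.hermForm, Fin.sum_univ_four, x₀]
  have hprod := (mem_w F).fibre_prod hH F hj' hk'
  have hne : ∀ u : Cz z, Mem M u x₀ → (u : G) ≠ g * z * g⁻¹ := fun u hu e => by
    have e' : u = h₂ * yz * h₂⁻¹ := Subtype.ext (e.trans hyzG.symm)
    obtain ⟨c, -, ec⟩ := hyzM.unique_x (e' ▸ hu)
    have h2 := congrFun ec 2
    simp [x₀, bV] at h2
    exact ht h2
  have hcy : ∀ u : Cz z, Mem M u x₀ → Commute (u : G) (g * z * g⁻¹) := fun u hu => by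
    rw [← hyzG]
    refine (orth_comm hH F hu hyzM ?_).map (Subgroup.subtype _)
    rw [hf_add_right, hf_smul_right, hf_smul_right, hu.iso, show hf x₀ bV = 0 by decide +kernel,
      mul_zero, mul_zero, add_zero]
  have hu := fun i : P.J => (mem_w F).translate hH F i
  obtain ⟨U₁, eU₁, i₁, hU₁⟩ := pull g gw gb _ (hu j) (hcy _ (hu j)) (hne _ (hu j))
  obtain ⟨U₂, eU₂, i₂, hU₂⟩ := pull g gw gb _ (hu k) (hcy _ (hu k)) (hne _ (hu k))
  obtain ⟨U₃, eU₃, i₃, hU₃⟩ := pull g gw gb _ (hu (j * k)) (hcy _ (hu _)) (hne _ (hu _))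
  have hrel : b₀ * (U₁ * (U₂ * U₃)) = F.w := by
    have key : ∀ A B C U V W : Cz z, F.w * A * B * C = zC z → (U : G) = g⁻¹ * A * g →
        (V : G) = g⁻¹ * B * g → (W : G) = g⁻¹ * C * g → b₀ * (U * (V * W)) = F.w := by
      intro A B C U V W h hU hV hW
      have hz' : g⁻¹ * z * g = (F.w : G) := by
        have := congrArg (fun e => g⁻¹ * e * g) gw
        simpa [mul_assoc] using this.symm
      have h' : (F.w : G) * A * B * C = z := congrArg Subtype.val h
      refine Subtype.ext ?_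
      show (b₀ : G) * ((U : G) * ((V : G) * (W : G))) = (F.w : G)
      rw [hU, hV, hW]
      calc (b₀ : G) * (g⁻¹ * A * g * (g⁻¹ * B * g * (g⁻¹ * C * g)))
          = g⁻¹ * (g * (b₀ : G) * g⁻¹ * A * B * C) * g := by group
        _ = g⁻¹ * z * g := by rw [gb, h']
        _ = _ := hz'
    exact key _ _ _ _ _ _ hprod eU₁ eU₂ eU₃
  have hall : ∀ m : Fin 5, m = 0 ∨ m = 1 ∨ m = i₁ ∨ m = i₂ ∨ m = i₃ := by
    refine parity_five i₁ i₂ i₃ fun m => ?_
    have h := indep_of_act (q := fun m => ((if m = 0 then 1 else 0) + (if m = 1 then 1 else 0)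
      + (if m = i₁ then 1 else 0) + (if m = i₂ then 1 else 0) + (if m = i₃ then 1 else 0) : ZMod 2))
      (fun v => ?_) m
    · simpa using h
    · simp only [add_smul, Finset.sum_add_distrib, ite_smul_sum]
      have e := four_rel hH (M := M) (i := 1) (by rw [Fr.rV_one]; exact hb₀) hU₁ hU₂ hU₃ (v := v)
      rw [hrel, F.w_act, tv] at e
      have h2 : ∀ X : V4, X + X = 0 := fun X => by
        rw [← two_smul K4, show (2 : K4) = 0 by decide +kernel, zero_smul]
      have e' : hf v x₀ • x₀ = hf v (rV i₃) • rV i₃ + hf v (rV i₂) • rV i₂ + hf v (rV i₁) • rV i₁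
          + hf v (rV 1) • rV 1 := by
        apply add_left_cancel (a := v)
        simp only [← add_assoc]
        exact e
      have := h2 (hf v x₀ • x₀)
      conv_lhs at this => arg 2; rw [e']
      rw [Fr.rV_zero]
      rw [← this]
      abel
  have hex : ∀ m : Fin 5, ∃ W : Cz z, Mem M W (rV m) ∧ (m = 0 → W = F.w) ∧
      (m ≠ 0 → ∃ y : Cz z, (y : G) = g * (W : G) * g⁻¹ ∧ Mem M y x₀) := by
    intro m
    by_cases h0 : m = 0
    · exact ⟨F.w, by rw [h0, Fr.rV_zero]; exact mem_w F, fun _ => rfl, fun h => absurd h0 h⟩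
    rcases hall m with h | h | h | h | h
    · exact absurd h h0
    · exact ⟨b₀, by rw [h, Fr.rV_one]; exact hb₀, fun e => absurd e h0, fun _ => ⟨F.w, gb.symm, mem_w F⟩⟩
    all_goals subst h
    · exact ⟨U₁, hU₁, fun e => absurd e h0, fun _ => ⟨_, by rw [eU₁]; group, hu j⟩⟩
    · exact ⟨U₂, hU₂, fun e => absurd e h0, fun _ => ⟨_, by rw [eU₂]; group, hu k⟩⟩
    · exact ⟨U₃, hU₃, fun e => absurd e h0, fun _ => ⟨_, by rw [eU₃]; group, hu (j * k)⟩⟩
  choose W hW hW0 hWg using hex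
  exact ⟨⟨g, W, hW, hW0 0 rfl, gw, hWg, ⟨_, _, hyzG, hyzM, s, t, ht, rfl⟩⟩⟩

end CfsgLib.U62Cent.Fr
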