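import Cfsg.Agent.Lib.U62Cent.FrameFin
import Cfsg.Agent.Lib.U62Cent.Checks

/-!
Finite facts for the conjugates outside `J`.
-/

set_option autoImplicit false
set_option maxRecDepth 100000

namespace CfsgLib.U62Cent.FO

open Matrix
open Fr (bV dgF dgU)
open CfsgLib.Spor.U62 (kOf kCode kOf_code kCode_lt)

theorem x₀_iso : hf x₀ x₀ = 0 := by decide +kernel

theorem x₀_ne : x₀ ≠ 0 := by decide +kernel

theorem bV_iso : hf bV bV = 0 := by decide +kernel

theorem bV_x₀ : hf bV x₀ = 0 := by decide +kernel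

theorem vo4_80 : vo4 80 = bV := by decide +kernel

/-- the transvection at the base point -/
def tU : U4 := tvU x₀ x₀_iso

/-- the product of two orthogonal transvections -/
noncomputable def bU : U4 := tvU x₀ x₀_iso * tvI 80

theorem mat4_tU (v : V4) : mat4 tU *ᵥ v = tv x₀ v := mat4_tvU _ _ v

theorem mat4_bU (v : V4) : mat4 bU *ᵥ v = v + (hf v x₀ • x₀ + hf v bV • bV) := by
  have h : hf (vo4 80) (vo4 80) = 0 := by decide +kernel
  rw [bU, map_mul, ← Matrix.mulVec_mulVec, tvI_eq h, mat4_tvU, mat4_tvU, vo4_80]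
  simp only [tv, hf_add_left, hf_smul_left, bV_x₀, mul_zero, add_zero]
  abel

theorem add_self_K4 (a : K4) : a + a = 0 := by
  have h2 : (2 : K4) = 0 := by decide +kernel
  rw [← two_mul, h2, zero_mul]

theorem add_self_V4 (v : V4) : v + v = 0 := funext fun i => add_self_K4 (v i)

/-- transvection codes are those of the representatives -/
theorem tv_reps : ∀ x < 256, hC4 x x = 0 → ∃ r ∈ Fr.isoP, tM x = tM r := by
  have h : ((List.range 256).all fun x => !Nat.beq (hC4 x x) 0 ||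
      Fr.isoP.any fun r => Nat.beq (tM x) (tM r)) = true := by decide +kernel
  intro x hx hxx
  have h' := List.all_eq_true.1 h x (List.mem_range.2 hx)
  simp only [Bool.or_eq_true, Bool.not_eq_true', List.any_eq_true, Nat.beq_eq] at h'
  rcases h' with h' | h'
  · rw [hxx] at h'; exact absurd h' (by simp)
  · exact h'

theorem tv_product_check : (Fr.isoP.all fun x => Fr.isoP.all fun y =>
    Nat.beq x 0 || Nat.beq y 0 || !Nat.beq (mulM (tM x₀C) (tM x)) (tM y)) = true := by decide +kernel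

theorem conj_tU (k : U4) : ∃ x : V4, ∃ hx : hf x x = 0, x ≠ 0 ∧ k⁻¹ * tU * k = tvU x hx := by
  have hx : hf (mat4 k⁻¹ *ᵥ x₀) (mat4 k⁻¹ *ᵥ x₀) = 0 := by rw [hf_mat4, x₀_iso]
  refine ⟨_, hx, fun h => x₀_ne ?_, mat4_ext fun v => ?_⟩
  · have h' := congrArg (fun w => mat4 k *ᵥ w) h
    simp only [Matrix.mulVec_mulVec, ← map_mul, mul_inv_cancel, map_one, Matrix.one_mulVec,
      Matrix.mulVec_zero] at h'
    exact h'
  · have e : hf (mat4 k *ᵥ v) x₀ = hf v (mat4 k⁻¹ *ᵥ x₀) := by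
      rw [← hf_mat4 k⁻¹, Matrix.mulVec_mulVec, ← map_mul, inv_mul_cancel, map_one, Matrix.one_mulVec]
    rw [map_mul, map_mul, ← Matrix.mulVec_mulVec, ← Matrix.mulVec_mulVec, mat4_tU, mat4_tvU, tv, tv, e,
      Matrix.mulVec_add, Matrix.mulVec_smul, Matrix.mulVec_mulVec, ← map_mul, inv_mul_cancel,
      map_one, Matrix.one_mulVec]

attribute [local irreducible] mulM cd4 tM

/-- The product of two transvections is not a transvection. -/
theorem no_three (g₁ g₂ : U4) (h₁ : ∃ k : U4, k * g₁ * k⁻¹ = tU) (h₂ : ∃ k : U4, k * g₂ * k⁻¹ = tU)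
    (h₃ : ∃ k : U4, k * (g₁ * g₂) * k⁻¹ = tU) : False := by
  obtain ⟨k, hk⟩ := h₁
  obtain ⟨k₂, hk₂⟩ := h₂
  obtain ⟨k₃, hk₃⟩ := h₃
  obtain ⟨x, hx, hx0, ex⟩ := conj_tU (k₂ * k⁻¹)
  obtain ⟨w, hw, hw0, ew⟩ := conj_tU (k₃ * k⁻¹)
  have e : tU * tvU x hx = tvU w hw := by
    rw [← ex, ← ew]
    calc tU * ((k₂ * k⁻¹)⁻¹ * tU * (k₂ * k⁻¹))
        = (k * g₁ * k⁻¹) * ((k₂ * k⁻¹)⁻¹ * (k₂ * g₂ * k₂⁻¹) * (k₂ * k⁻¹)) := by rw [hk, hk₂]
      _ = (k₃ * k⁻¹)⁻¹ * (k₃ * (g₁ * g₂) * k₃⁻¹) * (k₃ * k⁻¹) := by group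
      _ = _ := by rw [hk₃]
  have ec := congrArg cd4 e
  rw [cd4_mul, tU, cd4_tvU, cd4_tvU, cd4_tvU, x₀_code] at ec
  obtain ⟨r, hr, er⟩ := tv_reps _ (vc4_lt x) (hf_zero_iff.1 hx)
  obtain ⟨s, hs, es⟩ := tv_reps _ (vc4_lt w) (hf_zero_iff.1 hw)
  rw [er, es] at ec
  have hne : ∀ (v : V4) (hv : hf v v = 0), v ≠ 0 → ∀ r, tM (vc4 v) = tM r → r ≠ 0 := by
    intro v hv hv0 r e0 h0
    subst h0
    have h1 : tvU v hv = 1 := cd4_injective (by
      rw [cd4_tvU, e0, cd4_one]; decide +kernel)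
    obtain ⟨u, hu⟩ : ∃ u, hf u v ≠ 0 := by
      have hchk : ∀ c < 256, (∀ d ∈ [1, 4, 16, 64], hC4 d c = 0) → c = 0 := by decide +kernel
      by_contra hh
      push Not at hh
      refine hv0 (vc4_inj ((hchk _ (vc4_lt v) fun d hd => ?_).trans Fr.vc4_zero.symm))
      have hd' : d < 256 := by
        simp only [List.mem_cons, List.not_mem_nil, or_false] at hd
        omega
      rw [← vc4_vo4 d hd']
      exact hf_zero_iff.1 (hh _)
    have h2 := mat4_tvU v hv u
    rw [h1, map_one, Matrix.one_mulVec, tv, left_eq_add] at h2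
    exact hv0 ((smul_eq_zero.1 h2).resolve_left hu)
  have hchk := List.all_eq_true.1 (List.all_eq_true.1 tv_product_check r hr) s hs
  simp only [Bool.or_eq_true, Bool.not_eq_true', Nat.beq_eq] at hchk
  rcases hchk with (h | h) | h
  · exact hne x hx hx0 r er h
  · exact hne w hw hw0 s es h
  · rw [ec, Nat.beq_refl] at h; exact absurd h (by simp)

/-- the swap of the two points -/
def swMat : Matrix (Fin 4) (Fin 4) K4 := !![0, 0, 1, 0; 0, 0, 0, 1; 1, 0, 0, 0; 0, 1, 0, 0]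

/-- as a map -/
def swF (v : V4) : V4 := ![v 2, v 3, v 0, v 1]

theorem swMat_mulVec (v : V4) : swMat *ᵥ v = swF v := by
  funext i
  fin_cases i <;> simp [swMat, swF, Matrix.mulVec, dotProduct, Fin.sum_univ_four]

theorem swMat_det : swMat.det = 1 := by
  have h : swMat = (1 : Matrix (Fin 4) (Fin 4) K4).submatrix
      (Equiv.swap (0 : Fin 4) 2 * Equiv.swap (1 : Fin 4) 3) id := by decide +kernel
  rw [h, Matrix.det_permute]
  simp [Equiv.Perm.sign_mul]

/-- as an element of `SU₄(2)` -/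
def swU : U4 :=
  ⟨⟨swMat, swMat_det⟩, fun u v => by
    show hf (swMat *ᵥ u) (swMat *ᵥ v) = hf u v
    rw [swMat_mulVec, swMat_mulVec]
    simp only [hf, Cfsg.hermForm, Fin.sum_univ_four, swF, Matrix.cons_val_zero, Matrix.cons_val_one,
      Matrix.cons_val]
    ring⟩

theorem swF_x₀ : swF x₀ = bV := by decide +kernel

theorem swF_bV : swF bV = x₀ := by decide +kernel

/-- preimages of the combinations -/
def pre (a b : K4) : V4 := ![a, 0, b, 0]

theorem pre_spec (a b : K4) :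
    hf (pre a b) x₀ = a ∧ hf (pre a b) bV = b := by
  have h1 : ∀ i < 4, ∀ j < 4, hf (pre (kOf i) (kOf j)) x₀ = kOf i ∧
      hf (pre (kOf i) (kOf j)) bV = kOf j := by decide +kernel
  have h := h1 _ (kCode_lt a) _ (kCode_lt b)
  rwa [kOf_code, kOf_code] at h

theorem im_dg : ∀ i < 4, ∀ j < 4, i ≠ 0 → j ≠ 0 →
    (hf (kOf i • x₀ + kOf j • bV) (pre (kOf 3 * kOf i) (kOf 2 * kOf j))).im = 0 := by decide +kernel

theorem comb_coord (a b : K4) : (a • x₀ + b • bV) 0 = a ∧ (a • x₀ + b • bV) 2 = b := by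
  constructor <;> simp [x₀, bV]

theorem comb_inj {a b a' b' : K4} (h : a • x₀ + b • bV = a' • x₀ + b' • bV) : a = a' ∧ b = b' :=
  ⟨by rw [← (comb_coord a b).1, h, (comb_coord a' b').1],
    by rw [← (comb_coord a b).2, h, (comb_coord a' b').2]⟩

/-- two functionals on the perp of the base point -/
theorem perp_dual : ∀ v < 256, hC4 v x₀C = 0 → (∀ u < 256, hC4 u x₀C = 0 → hC4 v u < 2) →
    ∃ s < 4, v = smC4 s x₀C := by
  have h : ((List.range 256).all fun v => !Nat.beq (hC4 v x₀C) 0 ||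
      ((List.range 256).any fun u => Nat.beq (hC4 u x₀C) 0 && !Nat.blt (hC4 v u) 2) ||
      ((List.range 4).any fun s => Nat.beq v (smC4 s x₀C))) = true := by decide +kernel
  intro v hv hv0 hu
  have h' := List.all_eq_true.1 h v (List.mem_range.2 hv)
  simp only [Bool.or_eq_true, Bool.not_eq_true', List.any_eq_true, Bool.and_eq_true, Nat.beq_eq] at h'
  rcases h' with (h' | ⟨u, hu', h1, h2⟩) | ⟨s, hs, h'⟩
  · rw [hv0] at h'; exact absurd h' (by simp)
  · have := hu u (List.mem_range.1 hu') h1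
    rw [← Nat.blt_eq] at this
    rw [this] at h2
    exact absurd h2 (by simp)
  · exact ⟨s, List.mem_range.1 hs, h'⟩

theorem im_zero_iff : ∀ i < 4, ((kOf i).im = 0 ↔ i < 2) := by decide +kernel

theorem nondeg : ∀ v < 256, (∀ u < 256, hC4 v u = 0) → v = 0 := by
  have h : ((List.range 256).all fun v => Nat.beq v 0 ||
      (List.range 256).any fun u => !Nat.beq (hC4 v u) 0) = true := by decide +kernel
  intro v hv hu
  have h' := List.all_eq_true.1 h v (List.mem_range.2 hv)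
  simp only [Bool.or_eq_true, Bool.not_eq_true', List.any_eq_true, Nat.beq_eq] at h'
  rcases h' with h' | ⟨u, hu', h'⟩
  · exact h'
  · rw [hu u (List.mem_range.1 hu')] at h'
    exact absurd h' (by simp)

end CfsgLib.U62Cent.FO
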