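import Cfsg.Agent.Lib.U62Cent.Sylow
import Cfsg.Agent.Lib.U62Cent.FusOutFin

/-!
The coset of a conjugate of `z` outside `J`: general facts.
-/

set_option autoImplicit false
set_option linter.unusedSectionVars false

namespace CfsgLib.U62Cent.FO

open Matrix

universe u

variable {G : Type u} [Group G] [Finite G] {z : G} {P : Hyp z}

/-- no further conjugate of `z` lies in `J` -/
def NoJ (P : Hyp z) : Prop := ∀ y : Cz z, IsConj z (y : G) → y ∈ P.J → y = zC z

/-- every inner conjugate other than `z` acts as a transvection -/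
def OnlyT (M : Nat4 P) : Prop :=
  ∀ (y : Cz z) (hy : y ∈ P.H₁), IsConj z (y : G) → y ≠ zC z →
    ∃ k : U4, k * M.rho ⟨y, hy⟩ * k⁻¹ = tU

/-- the centraliser in `J` -/
def R (P : Hyp z) (y : Cz z) : Subgroup (Cz z) := P.J ⊓ Subgroup.centralizer {y}

variable {y : Cz z}

theorem R_J (r : R P y) : (r : Cz z) ∈ P.J := r.2.1

theorem R_comm (r : R P y) : (r : Cz z) * y = y * r := Subgroup.mem_centralizer_singleton_iff.1 r.2.2

theorem mem_R {r : Cz z} (h1 : r ∈ P.J) (h2 : r * y = y * r) : r ∈ R P y :=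
  ⟨h1, Subgroup.mem_centralizer_singleton_iff.2 h2⟩

/-- an element of the centraliser in `J` as an element of `J` -/
def toJ (r : R P y) : P.J := ⟨r, R_J r⟩

/-- the other side -/
def phiH (Q : Pair y) : R P y →* Cz z :=
  MonoidHom.mk' (fun r => Q.phi r (R_comm r)) fun a b => Q.phi_mul (R_comm a) (R_comm b) (R_comm (a * b))

theorem phiH_apply (Q : Pair y) (r : R P y) : phiH Q r = Q.phi r (R_comm r) := rfl

theorem phiH_inj (Q : Pair y) : Function.Injective (phiH (P := P) Q) := fun _ _ h =>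
  Subtype.ext (Q.phi_inj (ha := R_comm _) (hb := R_comm _) h)

variable (M : Nat4 P)

/-- the action seen from the other side -/
def psi (Q : Pair y) : R P y →* Equiv.Perm V4 := M.pa.comp (phiH Q)

theorem psi_eq_one_iff (Q : Pair y) (r : R P y) : psi M Q r = 1 ↔ phiH Q r ∈ P.J :=
  M.pa_eq_one_iff _

theorem pa_zC : M.pa (zC z) = 1 := (M.pa_eq_one_iff _).2 P.zC_mem

theorem comm_zC' (h : Cz z) : zC z * h = h * zC z := (comm_zC h).symm

theorem y_sq (P : Hyp z) {y : Cz z} (hy : IsConj z (y : G)) : y * y = 1 := by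
  obtain ⟨g, hg⟩ := isConj_iff.1 hy
  have hzz : z * z = 1 := congrArg Subtype.val P.zC_sq
  refine Subtype.ext ?_
  show (y : G) * (y : G) = 1
  rw [← hg]
  calc g * z * g⁻¹ * (g * z * g⁻¹) = g * (z * z) * g⁻¹ := by group
    _ = 1 := by rw [hzz, mul_one, mul_inv_cancel]

/-- the standing data: a conjugate outside `J` -/
structure Pt (M : Nat4 P) (y : Cz z) : Prop where
  conj : IsConj z (y : G)
  ne : y ≠ zC z
  noJ : NoJ P

variable {M}

theorem Pt.notJ (h : Pt M y) : y ∉ P.J := fun hy => h.ne (h.noJ y h.conj hy)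

theorem Pt.sq (h : Pt M y) : y * y = 1 := y_sq P h.conj

theorem Pt.invol (h : Pt M y) (v : V4) : M.act y (M.act y v) = v := by
  rw [← M.act_mul, h.sq, map_one]; rfl

theorem Pt.y'_notJ (h : Pt M y) (Q : Pair y) : Q.y' ∉ P.J := fun hJ => by
  have e : Q.y' = zC z := h.noJ _ Q.y'_conj hJ
  rw [← Q.phi_zC] at e
  exact h.ne (Q.phi_inj (e.trans Q.phi_y.symm)).symm

/-- `z` as an element of the centraliser in `J` -/
def zR (P : Hyp z) (y : Cz z) : R P y := ⟨zC z, mem_R P.zC_mem (comm_zC y).symm⟩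

theorem Pt.psi_zR (h : Pt M y) (Q : Pair y) : psi M Q (zR P y) ≠ 1 := fun e => by
  rw [psi_eq_one_iff] at e
  exact h.y'_notJ Q (by rwa [← Q.phi_zC])

theorem Pt.conj_of_R (h : Pt M y) (Q : Pair y) {r : R P y} (hr : r ≠ 1)
    (hc : IsConj z ((y * r : Cz z) : G)) :
    IsConj z ((zC z * phiH Q r : Cz z) : G) ∧ zC z * phiH Q r ≠ zC z ∧ psi M Q r ≠ 1 := by
  have hcomm : (y * r : Cz z) * y = y * (y * r) := by rw [mul_assoc, R_comm r]
  have e : Q.phi (y * r) hcomm = zC z * phiH Q r := by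
    rw [Q.phi_mul rfl (R_comm r) hcomm, Q.phi_y]; rfl
  have hc' : IsConj z ((zC z * phiH Q r : Cz z) : G) := by
    rw [← e]; exact (Q.phi_isConj _ hcomm).2 hc
  have hne : zC z * phiH Q r ≠ zC z := fun e' => hr (phiH_inj Q (by
    rw [map_one]; exact mul_eq_left.1 e'))
  refine ⟨hc', hne, fun e' => ?_⟩
  rw [psi_eq_one_iff] at e'
  exact hne (h.noJ _ hc' (mul_mem P.zC_mem e'))

theorem s_mul_conj (h : Pt M y) (j : P.J) : IsConj z (((P.sOf y j : Cz z) * y : Cz z) : G) := by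
  rw [← P.conj_eq]
  exact h.conj.trans (isConj_iff.2 ⟨((j : Cz z) : G)⁻¹, by simp [mul_assoc]⟩)

theorem Pt.s_inv (h : Pt M y) (j : P.J) :
    y * (P.sOf y j : Cz z) * y⁻¹ = (P.sOf y j : Cz z)⁻¹ := by
  have hy : y⁻¹ = y := inv_eq_of_mul_eq_one_right h.sq
  rw [P.sOf_coe, _root_.mul_inv_rev, inv_inv, _root_.mul_inv_rev, _root_.mul_inv_rev, inv_inv, hy]
  calc y * ((j : Cz z)⁻¹ * (y * j * y)) * y = y * (j : Cz z)⁻¹ * y * j * (y * y) := by group
    _ = _ := by rw [h.sq, mul_one]; group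

/-- lifts of a vector of the image of `1 + a` -/
theorem lift_cases {r : P.J} {j : P.J} (h : M.vec r = M.vec j + M.act y (M.vec j)) :
    (r : Cz z) = P.sOf y j ∨ (r : Cz z) = zC z * P.sOf y j := by
  rw [← M.vec_sOf] at h
  exact (M.vec_eq_iff _ _).1 h.symm

theorem Pt.image_comm_iff (h : Pt M y) {r : P.J} {v : V4} (hv : M.vec r = v + M.act y v) :
    (r : Cz z) * y = y * r ↔ hf (M.vec r) (M.vec r) = 0 := by
  obtain ⟨j, rfl⟩ := M.vec_surj v
  rw [← M.vec_sq]
  have hs : (P.sOf y j : Cz z) * y = y * (P.sOf y j : Cz z) ↔ P.sOf y j * P.sOf y j = 1 := by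
    constructor
    · intro e
      have e' := h.s_inv j
      rw [← e, mul_inv_cancel_right] at e'
      refine Subtype.ext ?_
      rw [Subgroup.coe_mul, Subgroup.coe_one]
      conv_lhs => arg 1; rw [e']
      rw [inv_mul_cancel]
    · intro e
      have e' : (P.sOf y j : Cz z)⁻¹ = P.sOf y j :=
        inv_eq_of_mul_eq_one_right (congrArg Subtype.val e)
      have e'' := h.s_inv j
      rw [e'] at e''
      exact (mul_inv_eq_iff_eq_mul.1 e'').symm
  rcases lift_cases hv with e | e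
  · have e' : r = P.sOf y j := Subtype.ext e
    rw [e', hs]
  · have e' : r = ⟨zC z, P.zC_mem⟩ * P.sOf y j := Subtype.ext e
    rw [e']
    constructor
    · intro hc
      have hc' : (P.sOf y j : Cz z) * y = y * (P.sOf y j : Cz z) := by
        refine mul_left_cancel (a := zC z) ?_
        rw [← mul_assoc, ← mul_assoc, comm_zC' y, mul_assoc y]
        exact hc
      have hsq := hs.1 hc'
      refine Subtype.ext ?_
      show zC z * (P.sOf y j : Cz z) * (zC z * (P.sOf y j : Cz z)) = 1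
      rw [mul_assoc, ← mul_assoc (P.sOf y j : Cz z), ← comm_zC' (P.sOf y j : Cz z), mul_assoc,
        ← Subgroup.coe_mul, hsq, Subgroup.coe_one, mul_one, P.zC_sq]
    · intro hsq
      have hsq' : P.sOf y j * P.sOf y j = 1 := by
        refine Subtype.ext ?_
        have e0 : zC z * (P.sOf y j : Cz z) * (zC z * (P.sOf y j : Cz z)) = 1 :=
          congrArg Subtype.val hsq
        rw [mul_assoc, ← mul_assoc (P.sOf y j : Cz z), ← comm_zC' (P.sOf y j : Cz z), mul_assoc,
          ← mul_assoc, P.zC_sq, one_mul] at e0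
        exact e0
      show zC z * (P.sOf y j : Cz z) * y = y * (zC z * (P.sOf y j : Cz z))
      rw [mul_assoc, hs.2 hsq', ← mul_assoc, comm_zC' y, mul_assoc]

/-- the part of the centraliser in `J` over the image of `1 + a` -/
def Rimg (M : Nat4 P) (y : Cz z) : Subgroup (R P y) where
  carrier := {r | ∃ v, M.vec (toJ r) = v + M.act y v}
  one_mem' := ⟨0, by rw [show toJ (1 : R P y) = 1 from rfl, M.vec_one, map_zero, add_zero]⟩
  mul_mem' := by
    rintro a b ⟨u, hu⟩ ⟨v, hv⟩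
    refine ⟨u + v, ?_⟩
    rw [show toJ (a * b) = toJ a * toJ b from rfl, M.vec_mul, hu, hv, map_add]
    abel
  inv_mem' := by
    rintro a ⟨u, hu⟩
    exact ⟨u, by rw [show toJ a⁻¹ = (toJ a)⁻¹ from rfl, M.vec_inv, hu]⟩

theorem Pt.img_sq (h : Pt M y) {r : R P y} (hr : r ∈ Rimg M y) : r * r = 1 := by
  obtain ⟨v, hv⟩ := hr
  have e := (M.vec_sq (toJ r)).2 ((h.image_comm_iff hv).1 (R_comm r))
  exact Subtype.ext (congrArg Subtype.val e :)

theorem Pt.card_img (h : Pt M y) (W : Finset V4)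
    (hW : ∀ u ∈ W, (∃ v, u = v + M.act y v) ∧ hf u u = 0) :
    2 * W.card ≤ Nat.card (Rimg M y) := by
  classical
  have hex : ∀ u : W, ∀ b : Bool, ∃ r : Rimg M y, M.vec (toJ (r : R P y)) = u ∧
      ((r : R P y) : Cz z) = if b then zC z * ((Classical.choose (M.vec_surj (u : V4)) : P.J) : Cz z)
        else ((Classical.choose (M.vec_surj (u : V4)) : P.J) : Cz z) := by
    intro u b
    obtain ⟨⟨v, hv⟩, hq⟩ := hW u u.2
    set a : P.J := Classical.choose (M.vec_surj (u : V4))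
    have ha : M.vec a = u := Classical.choose_spec (M.vec_surj (u : V4))
    let r₀ : P.J := if b then ⟨zC z, P.zC_mem⟩ * a else a
    have hr₀ : M.vec r₀ = u := by
      cases b <;> simp [r₀, ha, M.vec_mul, M.vec_z]
    have hc := (h.image_comm_iff (hr₀.trans hv)).2 (by rw [hr₀]; exact hq)
    refine ⟨⟨⟨r₀, mem_R r₀.2 hc⟩, v, hr₀.trans hv⟩, hr₀, ?_⟩
    show (r₀ : Cz z) = _
    cases b <;> rfl
  choose f hf1 hf2 using hex
  have hinj : Function.Injective fun p : W × Bool => f p.1 p.2 := by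
    rintro ⟨u, b⟩ ⟨u', b'⟩ e
    have e' : f u b = f u' b' := e
    have hu : u = u' := Subtype.ext (by rw [← hf1 u b, ← hf1 u' b', e'])
    subst hu
    have e1 := congrArg (fun r : Rimg M y => ((r : R P y) : Cz z)) e'
    change ((f u b : R P y) : Cz z) = ((f u b' : R P y) : Cz z) at e1
    rw [hf2 u b, hf2 u b'] at e1
    cases b <;> cases b'
    · rfl
    · simp only [Bool.false_eq_true, if_false, if_true] at e1
      exact absurd (right_eq_mul.1 e1) P.zC_ne_one
    · simp only [Bool.false_eq_true, if_false, if_true] at e1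
      exact absurd (mul_eq_right.1 e1) P.zC_ne_one
    · rfl
  have := Nat.card_le_card_of_injective _ hinj
  rw [Nat.card_prod, Nat.card_eq_fintype_card (α := Bool), Fintype.card_bool,
    Nat.card_eq_fintype_card, Fintype.card_coe] at this
  omega

/-- If `z y` is conjugate, all of `Rimg` gives conjugates. -/
theorem Pt.img_conj (h : Pt M y) (hz : IsConj z ((zC z * y : Cz z) : G)) {r : R P y}
    (hr : r ∈ Rimg M y) : IsConj z ((y * r : Cz z) : G) := by
  obtain ⟨v, hv⟩ := hr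
  obtain ⟨j, rfl⟩ := M.vec_surj v
  rw [← R_comm r]
  rcases lift_cases hv with e | e
  · rw [show (r : Cz z) = P.sOf y j from e]
    exact s_mul_conj h j
  · rw [show (r : Cz z) = zC z * P.sOf y j from e, mul_assoc]
    have e2 : zC z * ((P.sOf y j : Cz z) * y) = (j : Cz z)⁻¹ * (zC z * y) * j := by
      rw [← P.conj_eq, ← mul_assoc, ← mul_assoc, comm_zC' (j : Cz z)⁻¹, mul_assoc (j : Cz z)⁻¹]
    rw [e2]
    exact hz.trans (isConj_iff.2 ⟨((j : Cz z) : G)⁻¹, by simp [mul_assoc]⟩)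

/-- If `z y` is not conjugate, the conjugates over the image are the `J`-conjugates. -/
theorem Pt.conj_of_image (hnz : ¬ IsConj z ((zC z * y : Cz z) : G)) {r : P.J} {v : V4}
    (hv : M.vec r = v + M.act y v) (hc : IsConj z (((r : Cz z) * y : Cz z) : G)) :
    ∃ j : P.J, (r : Cz z) * y = (j : Cz z)⁻¹ * y * j := by
  obtain ⟨j, rfl⟩ := M.vec_surj v
  rcases lift_cases hv with e | e
  · exact ⟨j, by rw [P.conj_eq, e]⟩
  · refine absurd ?_ hnz
    have e2 : (r : Cz z) * y = (j : Cz z)⁻¹ * (zC z * y) * j := by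
      rw [e, mul_assoc, ← P.conj_eq, ← mul_assoc, ← mul_assoc, comm_zC' (j : Cz z)⁻¹,
        mul_assoc (j : Cz z)⁻¹]
    rw [e2] at hc
    exact hc.trans (isConj_iff.2 ⟨((j : Cz z) : G), by simp [mul_assoc]⟩)

/-- no elementary group of order eight of conjugates, all acting as transvections or outer -/
theorem Pt.eight (h : Pt M y) (hT : OnlyT M) (h8 : 8 ≤ Nat.card (Rimg M y))
    (hz : IsConj z ((zC z * y : Cz z) : G)) : False := by
  classical
  obtain ⟨Q⟩ := exists_pair h.conj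
  set I : Subgroup (Rimg M y) := P.H₁.comap ((phiH Q).comp (Rimg M y).subtype) with hI
  have hidx : I.index ∣ 2 := by
    have e : I.index = P.H₁.relIndex ((phiH Q).comp (Rimg M y).subtype).range := Subgroup.index_comap _ _
    rw [e]
    refine (Subgroup.relIndex_dvd_index_of_normal P.H₁ _).trans ?_
    rcases P.index with i | i <;> rw [i]; norm_num
  have h4 : 4 ≤ Nat.card I := by
    have e := Subgroup.card_mul_index I
    have := Nat.le_of_dvd two_pos hidx
    nlinarith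
  let _ := Fintype.ofFinite I
  rw [Nat.card_eq_fintype_card] at h4
  obtain ⟨a, -, ha⟩ := Finset.exists_mem_notMem_of_card_lt_card
    (show ({1} : Finset I).card < (Finset.univ : Finset I).card by
      rw [Finset.card_singleton, Finset.card_univ]; omega)
  obtain ⟨b, -, hb⟩ := Finset.exists_mem_notMem_of_card_lt_card
    (show ({1, a⁻¹} : Finset I).card < (Finset.univ : Finset I).card by
      rw [Finset.card_univ]
      exact lt_of_le_of_lt Finset.card_le_two (by omega))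
  simp only [Finset.mem_singleton] at ha
  simp only [Finset.mem_insert, Finset.mem_singleton, not_or] at hb
  have hmem : ∀ c : I, phiH Q (((c : Rimg M y) : R P y)) ∈ P.H₁ := fun c => c.2
  have key : ∀ (c : I), c ≠ 1 → ∃ k : U4,
      k * M.rho ⟨phiH Q (((c : Rimg M y) : R P y)), hmem c⟩ * k⁻¹ = tU := by
    intro c hc
    have hc' : (((c : Rimg M y) : R P y)) ≠ 1 := fun e => hc (Subtype.ext (Subtype.ext e))
    obtain ⟨h1, h2, -⟩ := h.conj_of_R Q hc' (h.img_conj hz (c : Rimg M y).2)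
    obtain ⟨k, hk⟩ := hT _ (mul_mem (P.le P.zC_mem) (hmem c)) h1 h2
    refine ⟨k, ?_⟩
    have e : M.rho ⟨zC z * phiH Q (((c : Rimg M y) : R P y)), mul_mem (P.le P.zC_mem) (hmem c)⟩ =
        M.rho ⟨zC z, P.le P.zC_mem⟩ * M.rho ⟨phiH Q (((c : Rimg M y) : R P y)), hmem c⟩ := by
      rw [← map_mul]; rfl
    rw [e, (M.rho_eq_one_iff ⟨zC z, P.le P.zC_mem⟩).2 P.zC_mem, one_mul] at hk
    exact hk
  have hab : a * b ≠ 1 := fun e => hb.2 (eq_inv_of_mul_eq_one_right e)
  obtain ⟨k, hk⟩ := key _ hab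
  refine no_three _ _ (key a ha) (key b hb.1) ⟨k, ?_⟩
  rw [← map_mul, ← hk]
  congr 3
  exact Subtype.ext (map_mul (phiH Q) _ _).symm

/-- a nontrivial element killed by the other side, when there are at least 32 -/
theorem Pt.exists_ker (h : Pt M y) (Q : Pair y) (h32 : 32 ≤ Nat.card (Rimg M y)) :
    ∃ k ∈ Rimg M y, k ≠ 1 ∧ psi M Q k = 1 := by
  by_contra hno
  push Not at hno
  let f : Rimg M y →* Equiv.Perm V4 := (psi M Q).comp (Rimg M y).subtype
  have hinj : Function.Injective f := by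
    rw [injective_iff_map_eq_one]
    intro r hr
    by_contra hne
    exact hno _ r.2 (fun e => hne (Subtype.ext e)) hr
  have hle := M.rank_le (X := f.range) (fun x hx => by
      obtain ⟨r, rfl⟩ := hx
      exact ⟨_, rfl⟩) (fun x hx => by
      obtain ⟨r, rfl⟩ := hx
      rw [← map_mul, show r * r = 1 from Subtype.ext (h.img_sq r.2), map_one])
  have h1 : Nat.card (Rimg M y) ≤ Nat.card f.range :=
    Nat.card_le_card_of_injective f.rangeRestrict fun a b e => hinj (congrArg Subtype.val e)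
  exact absurd ((h32.trans h1).trans hle) (by norm_num)

/-- with at least 32 elements over the image, `z y` is not conjugate -/
theorem Pt.no_zy (h : Pt M y) (h32 : 32 ≤ Nat.card (Rimg M y)) :
    ¬ IsConj z ((zC z * y : Cz z) : G) := fun hz => by
  obtain ⟨Q⟩ := exists_pair h.conj
  obtain ⟨k, hk, hk1, hpsi⟩ := h.exists_ker Q h32
  exact (h.conj_of_R Q hk1 (h.img_conj hz hk)).2.2 hpsi

/-- a kernel element is the other lift -/
theorem Pt.ker_form (h : Pt M y) (Q : Pair y) {k : R P y} (hk1 : k ≠ 1) (hk : psi M Q k = 1)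
    {j : P.J} (hj : M.vec (toJ k) = M.vec j + M.act y (M.vec j)) :
    (k : Cz z) = zC z * P.sOf y j := by
  rcases lift_cases hj with e | e
  · refine absurd hk (h.conj_of_R Q hk1 ?_).2.2
    rw [← R_comm k, show (k : Cz z) = P.sOf y j from e]
    exact s_mul_conj h j
  · exact e

theorem Pt.ker_vec_ne (h : Pt M y) (Q : Pair y) {k : R P y} (hk1 : k ≠ 1) (hk : psi M Q k = 1) :
    M.vec (toJ k) ≠ 0 := fun e => by
  rcases (M.vec_eq_zero _).1 e with e' | e'
  · exact hk1 (Subtype.ext e')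
  · exact h.psi_zR Q (by rwa [show zR P y = k from Subtype.ext e'.symm])

/-- two kernel elements are joined -/
theorem Pt.beta_one (h : Pt M y) (Q : Pair y) {k₁ k₂ : R P y} (h1 : k₁ ≠ 1) (h2 : k₂ ≠ 1)
    (hne : k₁ ≠ k₂) (p1 : psi M Q k₁ = 1) (p2 : psi M Q k₂ = 1) (hk₁ : k₁ ∈ Rimg M y) {v₂ : V4}
    (hv : M.vec (toJ k₂) = v₂ + M.act y v₂) : (hf (M.vec (toJ k₁)) v₂).im ≠ 0 := by
  intro him
  obtain ⟨v₁, hv₁⟩ := hk₁
  obtain ⟨j₁, rfl⟩ := M.vec_surj v₁
  obtain ⟨j₂, rfl⟩ := M.vec_surj v₂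
  have e1 := h.ker_form Q h1 p1 hv₁
  have e2 := h.ker_form Q h2 p2 hv
  have h12 : k₁ * k₂ ≠ 1 := fun e => hne (by
    have e2' : k₂ * k₂ = 1 := h.img_sq ⟨_, hv⟩
    exact mul_right_cancel (e.trans e2'.symm))
  have e3 := h.ker_form Q h12 (by rw [map_mul, p1, p2, one_mul]) (j := j₁ * j₂) (by
    rw [show toJ (k₁ * k₂) = toJ k₁ * toJ k₂ from rfl, M.vec_mul, M.vec_mul, hv₁, hv, map_add]
    abel)
  have hvs : M.vec (P.sOf y j₁) = M.vec (toJ k₁) := by rw [M.vec_sOf, hv₁]
  have hcj := M.conj_J (P.sOf y j₁) j₂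
  rw [hvs, if_pos him, Subgroup.coe_inv] at hcj
  rw [Subgroup.coe_mul, e1, e2, P.sOf_mul, Subgroup.coe_mul, Subgroup.coe_mul, Subgroup.coe_mul,
    Subgroup.coe_inv, hcj] at e3
  have e4 : zC z * (P.sOf y j₁ : Cz z) * (zC z * (P.sOf y j₂ : Cz z)) =
      (P.sOf y j₁ : Cz z) * (P.sOf y j₂ : Cz z) := by
    rw [mul_assoc, ← mul_assoc (P.sOf y j₁ : Cz z), ← comm_zC' (P.sOf y j₁ : Cz z), mul_assoc,
      ← mul_assoc, P.zC_sq, one_mul]
  rw [e4] at e3
  exact P.zC_ne_one (right_eq_mul.1 e3)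

/-- the kernel is invariant under the centraliser of `y` -/
theorem ker_conj (Q : Pair y) {h : Cz z} (hh : h * y = y * h) {k : R P y} (hk : psi M Q k = 1) :
    ∃ k' : R P y, psi M Q k' = 1 ∧ (k' : Cz z) = h * k * h⁻¹ ∧
      M.vec (toJ k') = M.act h (M.vec (toJ k)) := by
  have hinv : h⁻¹ * y = y * h⁻¹ := by
    rw [inv_mul_eq_iff_eq_mul, ← mul_assoc, hh, mul_inv_cancel_right]
  have hhk : h * k * y = y * (h * k) := by rw [mul_assoc, R_comm k, ← mul_assoc, hh, mul_assoc]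
  have hc : h * k * h⁻¹ * y = y * (h * k * h⁻¹) := by
    rw [mul_assoc, hinv, ← mul_assoc, hhk, mul_assoc]
  refine ⟨⟨_, mem_R (P.conj_mem h (R_J k)) hc⟩, ?_, rfl, ?_⟩
  · rw [psi_eq_one_iff] at hk ⊢
    have e : Q.phi (h * k * h⁻¹) hc = Q.phi h hh * phiH Q k * (Q.phi h hh)⁻¹ := Subtype.ext (by
      simp only [Subgroup.coe_mul, Subgroup.coe_inv, phiH_apply, Pair.phi_coe]; group)
    rw [phiH_apply, e]
    exact P.conj_mem _ hk
  · rw [← M.vec_conj]
    exact congrArg M.vec (Subtype.ext (MulAut.conjNormal_apply h (toJ k)).symm)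

/-- the difference of two elements with one action -/
theorem Pt.same_act (h : Pt M y) {y₂ : Cz z} (hc : IsConj z (y₂ : G))
    (ha : ∀ v, M.act y₂ v = M.act y v) :
    ∃ r : P.J, y₂ = (r : Cz z) * y ∧ M.act y (M.vec r) = M.vec r := by
  have hy : y⁻¹ = y := inv_eq_of_mul_eq_one_right h.sq
  have hr : y₂ * y ∈ P.J := by
    rw [← M.ker_act]
    refine DFunLike.ext _ _ fun v => ?_
    show M.act (y₂ * y) v = v
    rw [M.act_mul, ha, h.invol]
  refine ⟨⟨y₂ * y, hr⟩, by rw [mul_assoc, h.sq, mul_one], ?_⟩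
  rw [← M.vec_conj]
  have e : MulAut.conjNormal y (⟨y₂ * y, hr⟩ : P.J) = (⟨y₂ * y, hr⟩ : P.J)⁻¹ := by
    refine Subtype.ext ?_
    rw [MulAut.conjNormal_apply, Subgroup.coe_inv, _root_.mul_inv_rev, hy,
      inv_eq_of_mul_eq_one_right (y_sq P hc)]
    show y * (y₂ * y) * y = y * y₂
    rw [mul_assoc, mul_assoc, h.sq, mul_one]
  rw [e, M.vec_inv]

/-- an element acting in the centraliser of the action can be adjusted to centralise `y` -/
theorem Pt.adjust (h : Pt M y) (hnz : ¬ IsConj z ((zC z * y : Cz z) : G))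
    (hfix : ∀ v, M.act y v = v → hf v v = 0 → ∃ u, v = u + M.act y u) (hq : ∀ v, M.act y v = v → hf v v = 0)
    {g : Cz z} (hg : ∀ v, M.act g (M.act y v) = M.act y (M.act g v)) :
    ∃ j : P.J, (j : Cz z) * g * y = y * ((j : Cz z) * g) := by
  have hc : IsConj z ((g * y * g⁻¹ : Cz z) : G) := h.conj.trans (isConj_iff.2 ⟨(g : G), by simp⟩)
  obtain ⟨r, hr, hfr⟩ := h.same_act hc fun v => by
    rw [M.act_mul, M.act_mul, hg, M.act_act_inv]
  obtain ⟨v, hv⟩ := hfix _ hfr (hq _ hfr)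
  obtain ⟨j, hj⟩ := Pt.conj_of_image hnz hv (hr ▸ hc)
  refine ⟨j, ?_⟩
  have e : g * y * g⁻¹ = (j : Cz z)⁻¹ * y * j := hr.trans hj
  calc (j : Cz z) * g * y = j * (g * y * g⁻¹) * g := by group
    _ = y * ((j : Cz z) * g) := by rw [e]; group

end CfsgLib.U62Cent.FO
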