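import Cfsg.Agent.Lib.U62Cent.FusOut

/-!
No conjugate acts as a product of two orthogonal transvections.
-/

set_option autoImplicit false
set_option linter.unusedSectionVars false

namespace CfsgLib.U62Cent.FO

open Matrix
open Fr (bV dgF dgU dgMat)
open CfsgLib.Spor.U62 (kOf kCode kOf_code kCode_lt kOf_inj)

universe u

variable {G : Type u} [Group G] [Finite G] {z : G} {P : Hyp z} {M : Nat4 P}

theorem Pt.map {y : Cz z} (h : Pt M y) (g : Cz z) : Pt M (g * y * g⁻¹) where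
  conj := h.conj.trans (isConj_iff.2 ⟨(g : G), by simp⟩)
  ne e := h.ne (by
    have e' : g * y * g⁻¹ = g * zC z * g⁻¹ := e.trans (by rw [comm_zC g, mul_inv_cancel_right])
    exact mul_left_cancel (mul_right_cancel e'))
  noJ := h.noJ

/-- an element with a given linear action -/
theorem exists_lift (M : Nat4 P) (g : U4) : ∃ h : Cz z, h ∈ P.H₁ ∧ ∀ v, M.act h v = mat4 g *ᵥ v := by
  obtain ⟨h, hh, e⟩ := M.lift g g.2
  exact ⟨h, hh, e⟩

theorem comb_add (a b a' b' : K4) :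
    (a • x₀ + b • bV) + (a' • x₀ + b' • bV) = (a + a') • x₀ + (b + b') • bV := by
  simp only [add_smul]; abel

theorem comb_zero {a b : K4} (h : a • x₀ + b • bV = 0) : a = 0 ∧ b = 0 :=
  comb_inj (h.trans (by simp))

theorem comb_iso (a b : K4) : hf (a • x₀ + b • bV) (a • x₀ + b • bV) = 0 := by
  have h : hf x₀ bV = 0 := by rw [hf_swap, bV_x₀, zero_pow two_ne_zero]
  simp only [hf_add_left, hf_add_right, hf_smul_left, hf_smul_right, x₀_iso, bV_iso, bV_x₀, h,
    mul_zero, add_zero]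

/-- No conjugate acts as the product of the two transvections. -/
theorem no_b_std {y : Cz z} (h : Pt M y)
    (hact : ∀ v, M.act y v = v + (hf v x₀ • x₀ + hf v bV • bV)) : False := by
  classical
  obtain ⟨Q⟩ := exists_pair h.conj
  have himg : ∀ a b : K4, a • x₀ + b • bV = pre a b + M.act y (pre a b) := fun a b => by
    obtain ⟨h1, h2⟩ := pre_spec a b
    rw [hact, h1, h2, ← add_assoc, add_self_V4, zero_add]
  have hfixed : ∀ v, M.act y v = v → ∃ a b : K4, v = a • x₀ + b • bV := by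
    intro v hv
    rw [hact, add_eq_left] at hv
    obtain ⟨h1, h2⟩ := comb_zero hv
    exact Fr.perp_l h1 h2
  have hfix : ∀ v, M.act y v = v → hf v v = 0 → ∃ u, v = u + M.act y u := by
    intro v hv _
    obtain ⟨a, b, rfl⟩ := hfixed v hv
    exact ⟨_, himg a b⟩
  have hq : ∀ v, M.act y v = v → hf v v = 0 := by
    intro v hv
    obtain ⟨a, b, rfl⟩ := hfixed v hv
    exact comb_iso a b
  have h32 : 32 ≤ Nat.card (Rimg M y) := by
    refine le_trans ?_ (h.card_img
      ((Finset.range 4 ×ˢ Finset.range 4).image fun p => kOf p.1 • x₀ + kOf p.2 • bV) ?_)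
    · rw [Finset.card_image_of_injOn]
      · simp
      · rintro ⟨i, j⟩ hij ⟨i', j'⟩ hij' e
        simp only [Finset.coe_product, Set.mem_prod, Finset.coe_range, Set.mem_Iio] at hij hij'
        obtain ⟨e1, e2⟩ := comb_inj e
        exact Prod.ext (kOf_inj i hij.1 i' hij'.1 e1) (kOf_inj j hij.2 j' hij'.2 e2)
    · intro u hu
      obtain ⟨p, -, rfl⟩ := Finset.mem_image.1 hu
      exact ⟨⟨_, himg _ _⟩, comb_iso _ _⟩
  have hnz := h.no_zy h32
  -- elements of the kernel are moved by the centraliser of the action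
  have move : ∀ g : U4, (∀ v, mat4 g *ᵥ (v + (hf v x₀ • x₀ + hf v bV • bV)) =
      mat4 g *ᵥ v + (hf (mat4 g *ᵥ v) x₀ • x₀ + hf (mat4 g *ᵥ v) bV • bV)) →
      ∀ k : R P y, psi M Q k = 1 → ∃ k' : R P y, psi M Q k' = 1 ∧
        M.vec (toJ k') = mat4 g *ᵥ M.vec (toJ k) := by
    intro g hg k hk
    obtain ⟨g', -, hg'⟩ := exists_lift M g
    obtain ⟨j, hj⟩ := h.adjust hnz hfix hq (g := g') fun v => by
      rw [hg', hact, hg, hact, hg']
    obtain ⟨k', hk', -, hv⟩ := ker_conj (M := M) Q hj hk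
    exact ⟨k', hk', by rw [hv, M.act_mul, M.act_J j.2, hg']⟩
  have hdg : ∀ v, mat4 dgU *ᵥ v = dgF v := Fr.dgMat_mulVec
  have hdgc : ∀ a b : K4, dgF (a • x₀ + b • bV) = (kOf 3 * a) • x₀ + (kOf 2 * b) • bV := fun a b => by
    funext i; fin_cases i <;> simp [dgF, x₀, bV]
  have both : ∀ (k : R P y), psi M Q k = 1 → ∀ a b : K4, M.vec (toJ k) = a • x₀ + b • bV →
      a ≠ 0 → b ≠ 0 → False := by
    intro k hk a b hv ha hb
    obtain ⟨k', hk', hv'⟩ := move dgU (fun v => by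
      have h3 : kOf 3 * kOf 3 ^ 2 = (1 : K4) := by decide +kernel
      have e1 : hf (dgF v) x₀ = kOf 3 * hf v x₀ := by
        simp [hf, Cfsg.hermForm, Fin.sum_univ_four, dgF, x₀]; ring
      have e2 : hf (dgF v) bV = kOf 2 * hf v bV := by
        simp [hf, Cfsg.hermForm, Fin.sum_univ_four, dgF, bV]; ring
      rw [hdg, hdg, e1, e2, ← hdgc]
      funext i; fin_cases i <;> simp [dgF] <;> ring) k hk
    rw [hv, hdg, hdgc] at hv'
    have hk1 : k ≠ 1 := fun e => by
      rw [e, show toJ (1 : R P y) = 1 from rfl, M.vec_one] at hv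
      exact ha (comb_zero hv.symm).1
    have hk'1 : k' ≠ 1 := fun e => by
      rw [e, show toJ (1 : R P y) = 1 from rfl, M.vec_one] at hv'
      exact ha ((mul_eq_zero.1 (comb_zero hv'.symm).1).resolve_left (by decide +kernel))
    have hne : k ≠ k' := fun e => by
      rw [← e, hv] at hv'
      have h1 := (comb_inj hv').1
      have h3 : kOf 3 ≠ (1 : K4) := by decide +kernel
      exact h3 ((mul_eq_right₀ ha).1 h1.symm)
    refine h.beta_one Q hk1 hk'1 hne hk hk' ⟨pre a b, by rw [hv, himg]⟩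
      (v₂ := pre (kOf 3 * a) (kOf 2 * b)) (by rw [hv', himg]) ?_
    have hne0 : ∀ c : K4, c ≠ 0 → kCode c ≠ 0 := fun c hc e => hc (by
      rw [← kOf_code c, e]; decide +kernel)
    have := im_dg _ (kCode_lt a) _ (kCode_lt b) (hne0 a ha) (hne0 b hb)
    rw [kOf_code, kOf_code] at this
    rw [hv]; exact this
  obtain ⟨k, hkimg, hk1, hk⟩ := h.exists_ker Q h32
  have hfx : M.act y (M.vec (toJ k)) = M.vec (toJ k) := by
    obtain ⟨v, hv⟩ := hkimg
    rw [hv, map_add, h.invol, add_comm]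
  obtain ⟨a, b, hv⟩ := hfixed _ hfx
  have hne := h.ker_vec_ne Q hk1 hk
  by_cases hab : a ≠ 0 ∧ b ≠ 0
  · exact both k hk a b hv hab.1 hab.2
  obtain ⟨k', hk', hv'⟩ := move swU (fun v => by
    have hsw : ∀ w, mat4 swU *ᵥ w = swF w := swMat_mulVec
    rw [hsw, hsw]
    funext i
    fin_cases i <;> simp [swF, hf, Cfsg.hermForm, Fin.sum_univ_four, x₀, bV]) k hk
  have hv'' : M.vec (toJ k') = b • x₀ + a • bV := by
    rw [hv', hv, show mat4 swU *ᵥ (a • x₀ + b • bV) = swF (a • x₀ + b • bV) from swMat_mulVec _]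
    funext i; fin_cases i <;> simp [swF, x₀, bV]
  refine both (k * k') (by rw [map_mul, hk, hk', one_mul]) (a + b) (b + a) ?_ ?_ ?_
  · rw [show toJ (k * k') = toJ k * toJ k' from rfl, M.vec_mul, hv, hv'', comb_add]
  all_goals
    intro e
    rcases not_and_or.1 hab with h0 | h0 <;> rw [not_not] at h0 <;>
      simp only [h0, zero_add, add_zero] at e <;>
      exact hne (by rw [hv, h0, e, zero_smul, zero_smul, add_zero])

/-- Inner conjugates act as transvections. -/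
theorem onlyT (hJ : NoJ P) : OnlyT M := by
  intro y hy hc hne
  have h : Pt M y := ⟨hc, hne, hJ⟩
  have hsq : M.rho ⟨y, hy⟩ * M.rho ⟨y, hy⟩ = 1 := by
    rw [← map_mul, show (⟨y, hy⟩ : P.H₁) * ⟨y, hy⟩ = 1 from Subtype.ext h.sq, map_one]
  obtain ⟨k, hk | hk⟩ := Fus.invol_cases hsq fun e => h.notJ ((M.rho_eq_one_iff ⟨y, hy⟩).1 e)
  · exact ⟨k, hk⟩
  obtain ⟨g, hgH, hg⟩ := exists_lift M k
  have hmem : g * y * g⁻¹ ∈ P.H₁ := P.normH.conj_mem y hy g
  refine (no_b_std (h.map g) fun v => ?_).elim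
  have e : M.rho ⟨g * y * g⁻¹, hmem⟩ = bU := by
    have hr : M.rho ⟨g, hgH⟩ = k := mat4_ext fun w => by rw [← M.act_rho]; exact hg w
    rw [show (⟨g * y * g⁻¹, hmem⟩ : P.H₁) = ⟨g, hgH⟩ * ⟨y, hy⟩ * ⟨g, hgH⟩⁻¹ from rfl, map_mul,
      map_mul, map_inv, hr]
    exact hk
  rw [show M.act (g * y * g⁻¹) v = mat4 (M.rho ⟨g * y * g⁻¹, hmem⟩) *ᵥ v from M.act_rho ⟨_, hmem⟩ v,
    e, mat4_bU]

end CfsgLib.U62Cent.FO
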