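import Cfsg.Agent.Lib.U62Cent.FusOutB

/-!
No conjugate lies outside the inner part.
-/

set_option autoImplicit false
set_option linter.unusedSectionVars false

namespace CfsgLib.U62Cent.FO

open Matrix
open CfsgLib.Spor.U62 (kOf kCode kOf_code kCode_lt card_K4)

universe u

variable {G : Type u} [Group G] [Finite G] {z : G} {P : Hyp z} {M : Nat4 P}

/-- `ω` -/
def om : K4 := kOf 2

theorem om_eq : om + om ^ 2 = 1 := by decide +kernel

theorem im_real : ∀ x : K4, ((om ^ 2 * x).im = 0 ↔ (om * x).im = 0) → x.im = 0 := by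
  have h : ∀ i < 4, ((om ^ 2 * kOf i).im = 0 ↔ (om * kOf i).im = 0) → (kOf i).im = 0 := by
    decide +kernel
  intro x
  have := h _ (kCode_lt x)
  rwa [kOf_code] at this

theorem real_sq : ∀ x : K4, x.im = 0 → x ^ 2 = x ∧ (x = 0 ∨ x = 1) := by
  have h : ∀ i < 4, (kOf i).im = 0 → kOf i ^ 2 = kOf i ∧ (kOf i = 0 ∨ kOf i = 1) := by
    decide +kernel
  intro x
  have := h _ (kCode_lt x)
  rwa [kOf_code] at this

/-- the action preserves commutation -/
theorem act_im (M : Nat4 P) (g : Cz z) (u v : V4) :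
    (hf (M.act g u) (M.act g v)).im = 0 ↔ (hf u v).im = 0 := by
  obtain ⟨a, rfl⟩ := M.vec_surj u
  obtain ⟨b, rfl⟩ := M.vec_surj v
  rw [← M.vec_conj, ← M.vec_conj, ← M.vec_comm, ← M.vec_comm, ← map_mul, ← map_mul]
  exact (MulAut.conjNormal g : MulAut P.J).injective.eq_iff

/-- No conjugate is outer. -/
theorem all_inner (M : Nat4 P) (hJ : NoJ P) {y : Cz z} (hc : IsConj z (y : G)) (hne : y ≠ zC z) : y ∈ P.H₁ := by
  by_contra hy
  classical
  have h : Pt M y := ⟨hc, hne, hJ⟩
  obtain ⟨Q⟩ := exists_pair hc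
  set a := M.act y with hadef
  have hsemi : ∀ (c : K4) v, a (c • v) = c ^ 2 • a v := M.semi y hy
  have hinv : ∀ v, a (a v) = v := h.invol
  -- decomposition into two fixed vectors
  have hdec : ∀ v, ∃ p q, a p = p ∧ a q = q ∧ v = p + om • q := by
    intro v
    have hq : a (v + a v) = v + a v := by rw [map_add, hinv, add_comm]
    refine ⟨v + om • (v + a v), v + a v, ?_, hq, ?_⟩
    · rw [map_add, hsemi, hq]
      have e : (om + om ^ 2) • (v + a v) = v + a v := by rw [om_eq, one_smul]
      rw [add_smul] at e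
      calc a v + om ^ 2 • (v + a v)
          = v + (v + a v) + om ^ 2 • (v + a v) := by rw [← add_assoc v, add_self_V4, zero_add]
        _ = v + (om • (v + a v) + om ^ 2 • (v + a v)) + om ^ 2 • (v + a v) := by rw [e]
        _ = v + om • (v + a v) := by
          rw [add_assoc, add_assoc (om • (v + a v)), add_self_V4, add_zero]
    · rw [add_assoc, add_self_V4, add_zero]
  have himg : ∀ u, a u = u → u = om • u + a (om • u) := by
    intro u hu
    rw [hsemi, hu, ← add_smul, om_eq, one_smul]
  have hreal : ∀ u v, a u = u → a v = v → (hf u v).im = 0 := by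
    intro u v hu hv
    refine im_real _ ?_
    have e := act_im M y (om • u) v
    rw [show M.act y (om • u) = om ^ 2 • u by rw [← hadef, hsemi, hu], show M.act y v = v from hv,
      hf_smul_left, hf_smul_left] at e
    exact e
  have hsym : ∀ u v, a u = u → a v = v → hf v u = hf u v := fun u v hu hv => by
    rw [hf_swap, (real_sq _ (hreal u v hu hv)).1]
  -- the fixed vectors
  let _ := Fintype.ofFinite V4
  set W : Finset V4 := Finset.univ.filter fun u => a u = u with hWdef
  have hW : ∀ u, u ∈ W ↔ a u = u := fun u => by simp [W]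
  have hW16 : 16 ≤ W.card := by
    choose p q hp hq hpq using hdec
    have hinj : Function.Injective fun v : V4 => ((⟨p v, (hW _).2 (hp v)⟩ : W), (⟨q v, (hW _).2 (hq v)⟩ : W)) := by
      intro v v' e
      simp only [Prod.mk.injEq, Subtype.mk.injEq] at e
      rw [hpq v, hpq v', e.1, e.2]
    have := Nat.card_le_card_of_injective _ hinj
    rw [Nat.card_prod, Nat.card_eq_fintype_card (α := W), Fintype.card_coe, Nat.card_fun, card_K4,
      Nat.card_fin] at this
    nlinarith
  set W₀ : Finset V4 := W.filter fun u => hf u u = 0 with hW₀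
  have hW₀img : ∀ u ∈ W₀, (∃ v, u = v + M.act y v) ∧ hf u u = 0 := fun u hu => by
    obtain ⟨h1, h2⟩ := Finset.mem_filter.1 hu
    exact ⟨⟨_, himg u ((hW u).1 h1)⟩, h2⟩
  by_cases hne0 : ∃ u, a u = u ∧ hf u u ≠ 0
  · obtain ⟨u₁, hu₁, hq₁⟩ := hne0
    have hq1 : hf u₁ u₁ = 1 := ((real_sq _ (hreal u₁ u₁ hu₁ hu₁)).2).resolve_left hq₁
    have hz : IsConj z ((zC z * y : Cz z) : G) := by
      obtain ⟨j, hj⟩ := M.vec_surj (om • u₁)
      set r := P.sOf y j with hr
      have hvr : M.vec r = u₁ := by rw [hr, M.vec_sOf, hj]; exact (himg u₁ hu₁).symm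
      have hnc : ¬ (y * (r : Cz z) = r * y) := fun e => hq₁ (by
        rw [← hvr]
        exact (h.image_comm_iff (v := M.vec j) (by rw [hr, M.vec_sOf])).1 e.symm)
      have h0 : M.vec (P.sOf y r) = 0 := by
        rw [M.vec_sOf, hvr, show M.act y u₁ = u₁ from hu₁, add_self_V4]
      rcases (M.vec_eq_zero _).1 h0 with e | e
      · exact absurd ((P.sOf_one_iff y r).1 (Subtype.ext e)) hnc
      · rw [← e]; exact s_mul_conj h r
    have h2 : W.card ≤ 2 * W₀.card := by
      have hle : (W.filter fun u => ¬ hf u u = 0).card ≤ W₀.card := by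
        refine Finset.card_le_card_of_injOn (fun u => u + u₁) ?_ fun x _ x' _ e => add_right_cancel e
        intro u hu
        obtain ⟨h1, hq⟩ := Finset.mem_filter.1 hu
        have hu' := (hW u).1 h1
        have hqu : hf u u = 1 := ((real_sq _ (hreal u u hu' hu')).2).resolve_left hq
        refine Finset.mem_filter.2 ⟨(hW _).2 (by rw [map_add, hu', hu₁]), ?_⟩
        rw [hf_add_left, hf_add_right, hf_add_right, hqu, hq1, hsym u u₁ hu' hu₁]
        rw [← add_assoc, add_assoc (1 : K4), add_self_K4, add_zero, add_self_K4]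
      have := Finset.card_filter_add_card_filter_not (s := W) (fun u : V4 => hf u u = 0)
      rw [← hW₀] at this
      omega
    exact h.eight (onlyT hJ) (le_trans (by omega) (h.card_img W₀ hW₀img)) hz
  push Not at hne0
  have h32 : 32 ≤ Nat.card (Rimg M y) := by
    have : W₀ = W := Finset.filter_true_of_mem fun u hu => hne0 u ((hW u).1 hu)
    have hcard : W₀.card = W.card := by rw [this]
    exact le_trans (by omega) (h.card_img W₀ hW₀img)
  have hnz := h.no_zy h32
  obtain ⟨k, hkimg, hk1, hk⟩ := h.exists_ker Q h32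
  set p := M.vec (toJ k) with hpdef
  have hp : a p = p := by
    obtain ⟨v, hv⟩ := hkimg
    rw [hpdef, hv, map_add, hinv, add_comm]
  have hp0 : p ≠ 0 := h.ker_vec_ne Q hk1 hk
  obtain ⟨u, hu, hpu⟩ : ∃ u, a u = u ∧ hf p u = 1 := by
    by_contra hno
    push Not at hno
    have hz0 : ∀ u, a u = u → hf p u = 0 := fun u hu =>
      ((real_sq _ (hreal p u hp hu)).2).resolve_right (hno u hu)
    refine hp0 (vc4_inj ((nondeg _ (vc4_lt p) fun c hc => ?_).trans Fr.vc4_zero.symm))
    obtain ⟨p', q', hp', hq', e⟩ := hdec (vo4 c)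
    rw [← vc4_vo4 c hc]
    refine hf_zero_iff.1 ?_
    rw [e, hf_add_right, hf_smul_right, hz0 p' hp', hz0 q' hq', mul_zero, add_zero]
  have hker : ∀ u, a u = u → hf p u = 1 →
      ∃ k' : R P y, psi M Q k' = 1 ∧ M.vec (toJ k') = u := by
    intro u hu hpu
    have huu : hf u u = 0 := hne0 u hu
    obtain ⟨g', -, hg'⟩ := exists_lift M (tvU u huu)
    obtain ⟨j, hj⟩ := h.adjust hnz (fun v hv _ => ⟨_, himg v hv⟩) (fun v hv => hne0 v hv) (g := g')
      fun v => by
        rw [hg', hg', mat4_tvU, mat4_tvU, tv, tv, ← hadef, map_add, hsemi, hu]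
        congr 2
        obtain ⟨p', q', hp', hq', e⟩ := hdec v
        have r1 := (real_sq _ (hreal p' u hp' hu)).1
        have r2 := (real_sq _ (hreal q' u hq' hu)).1
        rw [e, map_add, hsemi, hp', hq', hf_add_left, hf_add_left, hf_smul_left, hf_smul_left,
          sq_add_K4, mul_pow, r1, r2]
    obtain ⟨k', hk', -, hv⟩ := ker_conj (M := M) Q hj hk
    refine ⟨k * k', by rw [map_mul, hk, hk', one_mul], ?_⟩
    rw [show toJ (k * k') = toJ k * toJ k' from rfl, M.vec_mul, hv, M.act_mul, M.act_J j.2, hg',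
      mat4_tvU, tv, ← hpdef, hpu, one_smul, ← add_assoc, add_self_V4, zero_add]
  obtain ⟨w, hw, hwn⟩ := Finset.exists_mem_notMem_of_card_lt_card
    (show ({0, p, u, p + u} : Finset V4).card < W.card from
      lt_of_le_of_lt Finset.card_le_four (by omega))
  simp only [Finset.mem_insert, Finset.mem_singleton, not_or] at hwn
  obtain ⟨hw0, hwp, hwu, hwpu⟩ := hwn
  rw [hW] at hw
  set m := w + (hf w u • p + hf w p • u) with hmdef
  have cu := real_sq _ (hreal w u hw hu)
  have cp := real_sq _ (hreal w p hw hp)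
  have hm : a m = m := by rw [hmdef, map_add, map_add, hsemi, hsemi, hw, hp, hu, cu.1, cp.1]
  have hup : hf u p = 1 := by rw [hsym p u hp hu, hpu]
  have hpm : hf p m = 0 := by
    rw [hmdef, hf_add_right, hf_add_right, hf_smul_right, hf_smul_right, hne0 p hp, hpu, cp.1,
      hsym w p hw hp, mul_zero, mul_one, zero_add, add_self_K4]
  have hum : hf u m = 0 := by
    rw [hmdef, hf_add_right, hf_add_right, hf_smul_right, hf_smul_right, hne0 u hu, hup, cu.1,
      hsym w u hw hu, mul_zero, mul_one, add_zero, add_self_K4]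
  have hm0 : m ≠ 0 := by
    intro e
    have e' : w = hf w u • p + hf w p • u := by
      rw [hmdef] at e
      calc w = w + (hf w u • p + hf w p • u) + (hf w u • p + hf w p • u) := by
            rw [add_assoc, add_self_V4, add_zero]
        _ = _ := by rw [e, zero_add]
    rcases cu.2 with a1 | a1 <;> rcases cp.2 with a2 | a2 <;>
      rw [a1, a2] at e' <;> simp only [zero_smul, one_smul, zero_add, add_zero] at e'
    · exact hw0 e'
    · exact hwu e'
    · exact hwp e'
    · exact hwpu e'
  have hu' : a (u + m) = u + m := by rw [map_add, hu, hm]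
  have hpu' : hf p (u + m) = 1 := by rw [hf_add_right, hpu, hpm, add_zero]
  obtain ⟨k₁, hk₁, hv₁⟩ := hker u hu hpu
  obtain ⟨k₂, hk₂, hv₂⟩ := hker (u + m) hu' hpu'
  have hu0 : u ≠ 0 := fun e => by
    rw [e] at hpu; simp [hf, Cfsg.hermForm] at hpu
  have hu'0 : u + m ≠ 0 := fun e => by
    rw [e] at hpu'; simp [hf, Cfsg.hermForm] at hpu'
  refine h.beta_one Q (k₁ := k₁) (k₂ := k₂) (fun e => hu0 (by rw [← hv₁, e]; exact M.vec_one))
    (fun e => hu'0 (by rw [← hv₂, e]; exact M.vec_one))
    (fun e => hm0 (by rw [e, hv₂] at hv₁; exact add_eq_left.1 hv₁)) hk₁ hk₂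
    ⟨om • u, hv₁.trans (himg u hu)⟩ (v₂ := om • (u + m)) (hv₂.trans (himg _ hu')) ?_
  rw [hv₁, hf_smul_right, hf_add_right, hne0 u hu, hum, add_zero, mul_zero]
  rfl

end CfsgLib.U62Cent.FO
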