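import Cfsg.Agent.Lib.U62Cent.FusOutO

/-!
Piece B2: fusion when no further conjugate lies in `J`.
-/

set_option autoImplicit false
set_option linter.unusedSectionVars false

namespace CfsgLib.U62Cent

open Matrix
open CfsgLib.Spor.U62 (kOf kCode kOf_code kCode_lt kOf_inj)

universe u

variable {G : Type u} [Group G] [Finite G] {z : G} {P : Hyp z} {M : Nat4 P}

namespace FO

/-- after conjugation by an inner element a conjugate acts as the base transvection -/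
theorem exists_std (M : Nat4 P) (hJ : NoJ P) {y : Cz z} (hc : IsConj z (y : G)) (hne : y ≠ zC z) :
    ∃ g ∈ P.H₁, ∀ v, M.act (g * y * g⁻¹) v = tv x₀ v := by
  have hy := all_inner M hJ hc hne
  obtain ⟨k, hk⟩ := onlyT (M := M) hJ y hy hc hne
  obtain ⟨g, hgH, hg⟩ := exists_lift M k
  refine ⟨g, hgH, fun v => ?_⟩
  have hmem : g * y * g⁻¹ ∈ P.H₁ := P.normH.conj_mem y hy g
  have e : M.rho ⟨g * y * g⁻¹, hmem⟩ = tU := by
    have hr : M.rho ⟨g, hgH⟩ = k := mat4_ext fun w => by rw [← M.act_rho]; exact hg w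
    rw [show (⟨g * y * g⁻¹, hmem⟩ : P.H₁) = ⟨g, hgH⟩ * ⟨y, hy⟩ * ⟨g, hgH⟩⁻¹ from rfl, map_mul,
      map_mul, map_inv, hr]
    exact hk
  rw [show M.act (g * y * g⁻¹) v = mat4 (M.rho ⟨g * y * g⁻¹, hmem⟩) *ᵥ v from M.act_rho ⟨_, hmem⟩ v,
    e, mat4_tU]

section std

variable {y : Cz z} (h : Pt M y) (hact : ∀ v, M.act y v = tv x₀ v)

include hact in
theorem line_img (s : K4) : s • x₀ = pre s 0 + M.act y (pre s 0) := by
  rw [hact, tv, (pre_spec s 0).1, ← add_assoc, add_self_V4, zero_add]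

include h hact in
theorem no_zy_std : ¬ IsConj z ((zC z * y : Cz z) : G) := by
  classical
  intro hz
  have hl : ∀ s : K4, hf (s • x₀) (s • x₀) = 0 := fun s => by
    rw [hf_smul_left, hf_smul_right, x₀_iso, mul_zero, mul_zero]
  refine h.eight (onlyT h.noJ) (le_trans ?_ (h.card_img ((Finset.range 4).image fun i => kOf i • x₀) ?_)) hz
  · rw [Finset.card_image_of_injOn]
    · simp
    · intro i hi j hj e
      simp only [Finset.coe_range, Set.mem_Iio] at hi hj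
      exact kOf_inj i hi j hj (smul_left_injective K4 x₀_ne e)
  · intro u hu
    obtain ⟨i, -, rfl⟩ := Finset.mem_image.1 hu
    exact ⟨⟨_, line_img hact _⟩, hl _⟩

include h hact in
theorem cent_std (a : P.J) (ha : hf (M.vec a) x₀ = 0) : (a : Cz z) * y = y * a := by
  have h0 : M.vec (P.sOf y a) = 0 := by
    rw [M.vec_sOf, hact, tv, ha, zero_smul, add_zero, add_self_V4]
  rcases (M.vec_eq_zero _).1 h0 with e | e
  · exact ((P.sOf_one_iff y a).1 (Subtype.ext e)).symm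
  · refine absurd ?_ (no_zy_std h hact)
    rw [← e]
    exact s_mul_conj h a

end std

theorem same_std {y : Cz z} (h : Pt M y) (hact : ∀ v, M.act y v = tv x₀ v) {y₂ : Cz z}
    (h₂ : Pt M y₂) (hact₂ : ∀ v, M.act y₂ v = tv x₀ v) :
    ∃ j : P.J, y₂ = (j : Cz z)⁻¹ * y * j := by
  obtain ⟨r, hr, hfix⟩ := h.same_act h₂.conj fun v => by rw [hact₂, hact]
  rw [hact, tv, add_eq_left] at hfix
  have hv0 : hf (M.vec r) x₀ = 0 := (smul_eq_zero.1 hfix).resolve_right x₀_ne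
  have hcomm : ∀ a : P.J, hf (M.vec a) x₀ = 0 → (hf (M.vec r) (M.vec a)).im = 0 := by
    intro a ha
    rw [← M.vec_comm]
    refine Subtype.ext ?_
    have e1 := cent_std h hact a ha
    have e2 := cent_std h₂ hact₂ a ha
    rw [hr] at e2
    refine mul_right_cancel (b := y) ?_
    rw [Subgroup.coe_mul, Subgroup.coe_mul, mul_assoc, e1, ← mul_assoc, ← e2, mul_assoc]
  obtain ⟨s, hs4, hs⟩ := perp_dual _ (vc4_lt (M.vec r))
    (by rw [← x₀_code]; exact hf_zero_iff.1 hv0) (fun u hu hu0 => by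
      obtain ⟨a, ha⟩ := M.vec_surj (vo4 u)
      have h' := hcomm a (by rw [ha]; exact hf_zero_iff.2 (by rw [vc4_vo4 u hu, x₀_code]; exact hu0))
      rw [ha, ← kOf_hC4, vc4_vo4 u hu] at h'
      exact (im_zero_iff _ (hC4_lt _ _)).1 h')
  have hline : ∃ t : K4, M.vec r = t • x₀ := by
    refine ⟨kOf s, vc4_inj ?_⟩
    rw [hs, vc4_smul, x₀_code, show kCode (kOf s) = s from ?_]
    have : ∀ i < 4, kCode (kOf i) = i := by decide +kernel
    exact this s hs4
  obtain ⟨t, ht⟩ := hline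
  obtain ⟨j, hj⟩ := Pt.conj_of_image (no_zy_std h hact) (ht.trans (line_img hact t)) (hr ▸ h₂.conj)
  exact ⟨j, hr.trans hj⟩

end FO

/-- Piece B2. -/
theorem exists_fused_of_noJ {G : Type u} [Group G] [Finite G] {z : G} (P : Hyp z) (M : Nat4 P)
    (hni : ¬ Cfsg.IsIsolatedInvolution z)
    (hJ : ∀ y : Cz z, IsConj z (y : G) → y ∈ P.J → y = zC z) : Nonempty (Fused M) := by
  obtain ⟨g, hg, hgne⟩ : ∃ g : G, Commute z (g * z * g⁻¹) ∧ g * z * g⁻¹ ≠ z := by
    by_contra hh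
    push Not at hh
    exact hni ⟨P.ord, hh⟩
  have hy₀ : IsConj z ((⟨g * z * g⁻¹, Subgroup.mem_centralizer_singleton_iff.2 hg.eq.symm⟩ : Cz z) : G) :=
    isConj_iff.2 ⟨g, rfl⟩
  set y₀ : Cz z := ⟨g * z * g⁻¹, Subgroup.mem_centralizer_singleton_iff.2 hg.eq.symm⟩
  have hne₀ : y₀ ≠ zC z := fun e => hgne (congrArg Subtype.val e)
  obtain ⟨g₁, hg₁, hact⟩ := FO.exists_std M hJ hy₀ hne₀
  have hw : FO.Pt M (g₁ * y₀ * g₁⁻¹) := (⟨hy₀, hne₀, hJ⟩ : FO.Pt M y₀).map g₁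
  set w := g₁ * y₀ * g₁⁻¹ with hwdef
  refine ⟨⟨w, P.normH.conj_mem _ (FO.all_inner M hJ hy₀ hne₀) g₁, hw.conj, hact, hw.sq, ?_, ?_,
    FO.cent_std hw hact, ?_⟩⟩
  · intro y hy hne
    have hne' : y ≠ zC z := fun e => hne (congrArg Subtype.val e)
    obtain ⟨h, hh, hyact⟩ := FO.exists_std M hJ hy hne'
    obtain ⟨j, hj⟩ := FO.same_std hw hact ((⟨hy, hne', hJ⟩ : FO.Pt M y).map h) hyact
    refine ⟨h⁻¹ * (j : Cz z)⁻¹, mul_mem (inv_mem hh) (inv_mem (P.le j.2)), ?_⟩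
    calc y = h⁻¹ * (h * y * h⁻¹) * h := by group
      _ = _ := by rw [hj]; group
  · intro hz
    refine FO.no_zy_std hw hact ?_
    rw [← comm_zC w]
    exact hz
  · intro h _ hh
    obtain ⟨j, hj⟩ := FO.same_std hw hact (hw.map h) fun v => by
      rw [M.act_mul, M.act_mul, hact, hh, M.act_act_inv]
    refine ⟨h⁻¹ * j * h, P.conj_mem' h j.2, ?_⟩
    calc h * (h⁻¹ * j * h) * w = (j : Cz z) * (h * w * h⁻¹) * h := by group
      _ = w * (h * (h⁻¹ * j * h)) := by rw [hj]; group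

end CfsgLib.U62Cent
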