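import Cfsg.Agent.Lib.U62Cent.InJSpace

/-!
No conjugate of `z` other than `z` lies in the extraspecial group.
-/

set_option autoImplicit false
set_option maxRecDepth 100000

namespace CfsgLib.U62Cent

open Matrix
open CfsgLib.Spor.U62 (kOf kCode)

universe u

attribute [local irreducible] mulM cd4 tM

/-- the module is finite -/
noncomputable local instance fintypeV4InJ : Fintype V4 := Fintype.ofFinite _

theorem Bf_zero_right (v : V4) : Bf v 0 = 0 := by rw [Bf_symm]; exact Bf_zero_left v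

/-- a combination of three vectors -/
def comb (x n m : V4) (p : Bool × Bool × Bool) : V4 := cond p.1 x 0 + cond p.2.1 n 0 + cond p.2.2 m 0

/-- a closed set, half of a larger one, covers it with any outside translate -/
theorem covered {s R : Finset V4} (hs : ∀ a ∈ s, ∀ b ∈ s, a + b ∈ s) (hR : ∀ a ∈ R, ∀ b ∈ R, a + b ∈ R)
    (hsub : s ⊆ R) (hcard : R.card ≤ 2 * s.card) {w : V4} (hw : w ∈ R) (hws : w ∉ s) :
    ∀ v ∈ R, v ∈ s ∨ v + w ∈ s := by
  classical
  have hdis : Disjoint s (s.image (· + w)) := by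
    rw [Finset.disjoint_left]
    intro a ha hb
    obtain ⟨b, hb', rfl⟩ := Finset.mem_image.1 hb
    refine hws ?_
    have h := hs b hb' _ ha
    rwa [← add_assoc, Nat4.two_V4, zero_add] at h
  have hle : s ∪ s.image (· + w) ⊆ R := by
    refine Finset.union_subset hsub fun a ha => ?_
    obtain ⟨b, hb, rfl⟩ := Finset.mem_image.1 ha
    exact hR b (hsub hb) w hw
  have heq : s ∪ s.image (· + w) = R := Finset.eq_of_subset_of_card_le hle (by
    rw [Finset.card_union_of_disjoint hdis, Finset.card_image_of_injective _ (add_left_injective w)]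
    omega)
  intro v hv
  rw [← heq, Finset.mem_union, Finset.mem_image] at hv
  rcases hv with h | ⟨b, hb, rfl⟩
  · exact Or.inl h
  · exact Or.inr (by rwa [add_assoc, Nat4.two_V4, add_zero])

/-- a map with two values on a closed set vanishes on half of it -/
theorem half {s : Finset V4} (hs : ∀ a ∈ s, ∀ b ∈ s, a + b ∈ s) (f : V4 →+ V4) {x : V4}
    (hf : ∀ a ∈ s, f a = 0 ∨ f a = x) : s.card ≤ 2 * (s.filter fun a => f a = 0).card := by
  classical
  by_cases h : ∀ a ∈ s, f a = 0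
  · rw [Finset.filter_true_of_mem h]; omega
  push Not at h
  obtain ⟨e, he, hne⟩ := h
  have hsub : s ⊆ (s.filter fun a => f a = 0) ∪ (s.filter fun a => f a = 0).image (· + e) := by
    intro a ha
    by_cases h0 : f a = 0
    · exact Finset.mem_union_left _ (Finset.mem_filter.2 ⟨ha, h0⟩)
    · refine Finset.mem_union_right _ (Finset.mem_image.2 ⟨a + e, Finset.mem_filter.2 ⟨hs a ha e he, ?_⟩,
        by show a + e + e = a; rw [add_assoc, Nat4.two_V4, add_zero]⟩)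
      rw [map_add, (hf a ha).resolve_left h0, (hf e he).resolve_left hne, Nat4.two_V4]
  refine le_trans (Finset.card_le_card hsub) (le_trans (Finset.card_union_le _ _) ?_)
  have := Finset.card_image_le (s := s.filter fun a => f a = 0) (f := (· + e))
  omega

variable {G : Type u} [Group G] {z : G}

namespace Nat4

variable {P : Hyp z} (M : Nat4 P)

/-- the commutator with an element, on vectors -/
def Td (a : Cz z) : V4 →+ V4 :=
  AddMonoidHom.mk' (fun v => v + M.act a v) fun u v => by rw [map_add]; abel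

theorem Td_apply (a : Cz z) (v : V4) : M.Td a v = v + M.act a v := rfl

theorem Td_vec (a : Cz z) (j : P.J) : M.Td a (M.vec j) = M.vec (P.sOf a j) := (M.vec_sOf a j).symm

theorem Td_Td {a : Cz z} (ha : a * a = 1) (v : V4) : M.Td a (M.Td a v) = 0 := by
  have e : M.act a (M.act a v) = v := by rw [← M.act_mul, ha, map_one]; rfl
  rw [Td_apply, Td_apply, map_add, e, add_comm (M.act a v) v, two_V4]

theorem Bf_act (a : Cz z) (u v : V4) : Bf (M.act a u) (M.act a v) = Bf u v := by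
  obtain ⟨p, rfl⟩ := M.vec_surj u
  obtain ⟨q, rfl⟩ := M.vec_surj v
  have key : Bf (M.act a (M.vec p)) (M.act a (M.vec q)) = 0 ↔ Bf (M.vec p) (M.vec q) = 0 := by
    rw [← M.vec_conj, ← M.vec_conj, Bf, Bf, ← M.vec_comm, ← M.vec_comm, ← map_mul, ← map_mul]
    exact (MulAut.conjNormal a).injective.eq_iff
  have h2 : ∀ s t : ZMod 2, (s = 0 ↔ t = 0) → s = t := by decide
  exact h2 _ _ key

theorem Td_adj {a : Cz z} (ha : a * a = 1) (u v : V4) : Bf (M.Td a u) v = Bf u (M.Td a v) := by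
  have e : M.act a (M.act a v) = v := by rw [← M.act_mul, ha, map_one]; rfl
  rw [Td_apply, Td_apply, Bf_add_left, Bf_add_right]
  congr 1
  conv_lhs => rw [← e]
  exact M.Bf_act a u _

theorem eq_zero_of_perp {v : V4} (h : ∀ w, Bf v w = 0) : v = 0 := by
  have hc := List.all_eq_true.1 Fus.nondeg_check (vc4 v) (List.mem_range.2 (vc4_lt _))
  simp only [Bool.or_eq_true, Nat.beq_eq, List.any_eq_true, Bool.not_eq_true', List.mem_range] at hc
  rcases hc with hc | ⟨w, hw, hc⟩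
  · exact vc4_inj (hc.trans (by decide +kernel : (0 : ℕ) = vc4 0))
  · have := Bf_code.1 (h (vo4 w))
    rw [vc4_vo4 w hw] at this
    rw [Fus.orB, this] at hc
    exact absurd hc.symm Bool.false_ne_true

theorem card_Td (a : Cz z) : (Finset.univ.image (M.Td a)).card *
    (Finset.univ.filter fun v => M.Td a v = 0).card = 256 := by
  classical
  have h := AddSubgroup.card_mul_index (M.Td a).ker
  rw [AddSubgroup.index_ker] at h
  have e1 : Nat.card (M.Td a).ker = (Finset.univ.filter fun v => M.Td a v = 0).card := by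
    rw [← Nat.card_eq_finsetCard]
    exact Nat.card_congr (Equiv.subtypeEquivRight fun v => by simp [AddMonoidHom.mem_ker])
  have e2 : Nat.card (M.Td a).range = (Finset.univ.image (M.Td a)).card := by
    rw [← Nat.card_eq_finsetCard]
    exact Nat.card_congr (Equiv.subtypeEquivRight fun v => by simp [AddMonoidHom.mem_range])
  rw [e1, e2, Nat.card_fun, Nat.card_eq_fintype_card (α := Fin 4), Fintype.card_fin, Spor.U62.card_K4] at h
  rw [mul_comm, h]
  norm_num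

variable {y : P.J} (Q : Pair (y : Cz z))

/-- what is used of an element of the intersection: it is moved from `y` by a word in a compatible way -/
def Moved (a : Cz z) (r : P.J) : Prop :=
  (r : Cz z) ∈ Et P Q ∧ M.vec r ≠ 0 ∧ M.vec r ≠ x₀ ∧ ∃ h : Cz z, ∃ t ∈ Fus.moveAllL,
    t.1 = vc4 (M.vec r) ∧ (∀ v, vc4 (M.act h v) = ap (wM t.2) (vc4 v)) ∧
    h * y * h⁻¹ = r ∧ InJG P (h * Q.g) (a : G) ∧ h⁻¹ * y * h ∈ Et P Q

theorem Et_back {x : Cz z} (hx : x ∈ Et P Q.symm) :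
    ∃ e : P.J, (e : Cz z) ∈ Et P Q ∧ ((e : Cz z) : G) = Q.g * x * Q.g⁻¹ := by
  obtain ⟨hxJ, -, j, hj, ej⟩ := hx
  have ej' : (j : G) = Q.g * x * Q.g⁻¹ := by
    rw [ej]
    show (Q.g⁻¹)⁻¹ * (x : G) * Q.g⁻¹ = _
    rw [inv_inv]
  refine ⟨⟨j, hj⟩, ⟨hj, Subtype.ext ?_, x, hxJ, ?_⟩, ej'⟩
  · show (j : G) * (y : Cz z) = (y : Cz z) * j
    rw [ej', ← Q.hg]
    calc Q.g * (x : G) * Q.g⁻¹ * (Q.g * z * Q.g⁻¹) = Q.g * ((x : G) * z) * Q.g⁻¹ := by group
      _ = Q.g * (z * x) * Q.g⁻¹ := by rw [comm_z x]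
      _ = _ := by group
  · show (x : G) = Q.g⁻¹ * (j : G) * Q.g
    rw [ej']; group

variable [Finite G] (hy : M.vec y = x₀) (hQ : Q.y' ∈ P.J) (hy1 : M.vec ⟨Q.y', hQ⟩ = x₀)
variable {k : ℕ} (hk : k < 3) (hWC : ∀ c ∈ Fus.spL k, M.WC ⟨Q.y', hQ⟩ Q.symm c)
  (hin : ∀ a : P.J, vc4 (M.vec a) ∈ Fus.spL k → (a : Cz z) ∈ Et P Q.symm)

include hy hk hWC hin in
/-- commutators of the moved intersection with an outside element take two values, and both occur -/
theorem step {a : Cz z} (ha : a ∉ P.J) (h : Cz z) (r : P.J) (hr : h * y * h⁻¹ = r)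
    (hInJ : InJG P (h * Q.g) (a : G)) (hy' : h⁻¹ * y * h ∈ Et P Q) :
    (∀ e x : P.J, (e : Cz z) ∈ Et P Q → (x : Cz z) = h * e * h⁻¹ → P.sOf a x = 1 ∨ P.sOf a x = r) ∧
    ∃ e x : P.J, (e : Cz z) ∈ Et P Q ∧ (x : Cz z) = h * e * h⁻¹ ∧ P.sOf a x = r ∧
      (x : Cz z) * y = y * x ∧ (x : Cz z) * r = r * x := by
  obtain ⟨ah, hahJ, eah⟩ := hInJ
  have hcr : ∀ e : Cz z, e ∈ Et P Q → h * e * h⁻¹ * r = r * (h * e * h⁻¹) := fun e he => by
    rw [← hr]
    calc h * e * h⁻¹ * (h * y * h⁻¹) = h * (e * y) * h⁻¹ := by group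
      _ = h * (y * e) * h⁻¹ := by rw [he.2.1]
      _ = _ := by group
  have hrG : (h : G) * Q.g * z * ((h : G) * Q.g)⁻¹ = (r : Cz z) := by
    rw [← hr, Subgroup.coe_mul, Subgroup.coe_mul, Subgroup.coe_inv, ← Q.hg]; group
  have hval : ∀ e x : P.J, (e : Cz z) ∈ Et P Q → (x : Cz z) = h * e * h⁻¹ →
      ∀ e' : Cz z, (e' : G) = Q.g⁻¹ * (e : Cz z) * Q.g → e' ∈ P.J →
      (ah * e' = e' * ah → P.sOf a x = 1) ∧ (ah * e' * ah⁻¹ = zC z * e' → P.sOf a x = r) := by
    intro e x he hx e' ee' _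
    have hG : ((a * x * a⁻¹ : Cz z) : G) = ((h : G) * Q.g) * ((ah * e' * ah⁻¹ : Cz z) : G) * ((h : G) * Q.g)⁻¹ := by
      simp only [hx, Subgroup.coe_mul, Subgroup.coe_inv, eah, ee']
      group
    constructor
    · intro hc
      rw [P.sOf_one_iff]
      rw [show ah * e' * ah⁻¹ = e' from mul_inv_eq_iff_eq_mul.2 hc] at hG
      refine mul_inv_eq_iff_eq_mul.1 (Subtype.ext ?_)
      rw [hG, hx, ee', Subgroup.coe_mul, Subgroup.coe_mul, Subgroup.coe_inv]
      group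
    · intro hc
      rw [hc] at hG
      have e1 : a * x * a⁻¹ = (r : Cz z) * x := Subtype.ext (by
        rw [hG, Subgroup.coe_mul, Subgroup.coe_mul, ← hrG, hx, ee', Subgroup.coe_mul, Subgroup.coe_mul,
          Subgroup.coe_inv]
        show _ * (z * _) * _ = _
        group)
      refine Subtype.ext ?_
      rw [P.sOf_coe, e1, hx, ← hcr _ he]
      group
  refine ⟨fun e x he hx => ?_, ?_⟩
  · obtain ⟨e', he'J, ee'⟩ := he.2.2
    have := hval e x he hx e' ee' he'J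
    rcases P.xc.commEl ah hahJ e' he'J with hc | hc
    · exact Or.inl (this.1 (mul_inv_eq_iff_eq_mul.1 hc))
    · exact Or.inr (this.2 hc)
  by_contra hno
  refine ha ?_
  have hall : ∀ c ∈ Fus.spL k, Fus.orB (vc4 (M.vec ⟨ah, hahJ⟩)) c = true := by
    intro c hc
    obtain ⟨e', he', rfl⟩ := hWC c hc
    refine Bf_code.1 ((M.comm_iff ⟨ah, hahJ⟩ e').1 ?_)
    obtain ⟨e, he, ee⟩ := Et_back Q he'
    rcases P.xc.commEl ah hahJ e' e'.2 with hc' | hc'
    · exact mul_inv_eq_iff_eq_mul.1 hc'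
    exfalso
    refine hno ⟨e, ⟨h * e * h⁻¹, P.conj_mem h e.2⟩, he, rfl,
      (hval e _ he rfl e' (by rw [ee]; group) e'.2).2 hc', ?_, hcr _ he⟩
    have hc2 := M.Et_comm Q hy he hy'
    show h * e * h⁻¹ * y = y * (h * e * h⁻¹)
    calc h * (e : Cz z) * h⁻¹ * y = h * ((e : Cz z) * (h⁻¹ * y * h)) * h⁻¹ := by group
      _ = h * ((h⁻¹ * y * h) * e) * h⁻¹ := by rw [hc2]
      _ = _ := by group
  have hm := List.all_eq_true.1 (List.all_eq_true.1 Fus.maximal_check k (List.mem_range.2 hk))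
    (vc4 (M.vec ⟨ah, hahJ⟩)) (List.mem_range.2 (vc4_lt _))
  rw [Bool.or_eq_true, List.all_eq_true.2 hall] at hm
  have hmem : ah ∈ Et P Q.symm := hin ⟨ah, hahJ⟩ (Fus.memN_iff.1 (hm.resolve_right (by simp)))
  obtain ⟨e, -, ee⟩ := Et_back Q hmem
  have : a = h * e * h⁻¹ := Subtype.ext (by
    rw [Subgroup.coe_mul, Subgroup.coe_mul, Subgroup.coe_inv, ee, eah]; group)
  rw [this]
  exact P.conj_mem h e.2

include hy hy1 hk hin in
/-- an element of the other intersection gives a moved element -/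
theorem exists_moved {b : P.J} {u : ℕ} (hb : vc4 (M.vec b) = u) {a : Cz z}
    (hab : (a : G) = Q.g * (b : Cz z) * Q.g⁻¹) (r' : P.J) (hr' : vc4 (M.vec r') ∈ Fus.spL k)
    (h0 : vc4 (M.vec r') ≠ 0) (h5 : vc4 (M.vec r') ≠ x₀C)
    (hu : ∀ t ∈ Fus.moveAllL, t.1 = vc4 (M.vec r') → u ∈ Fus.imL t.2 k) :
    ∃ r : P.J, ((r : Cz z) : G) = Q.g * (r' : Cz z) * Q.g⁻¹ ∧ M.Moved Q a r := by
  have hr'E := hin r' hr'
  obtain ⟨r, hrE, er⟩ := Et_back Q hr'E
  have hr'G : ((r' : Cz z) : G) = Q.g⁻¹ * (r : Cz z) * Q.g := by rw [er]; group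
  have c0 : vc4 (0 : V4) = 0 := by decide +kernel
  have hr0 : M.vec r ≠ 0 := by
    intro e
    rcases (M.vec_eq_zero r).1 e with e | e
    · refine h0 ?_
      have e2 : r' = 1 := Subtype.ext (Subtype.ext (by rw [hr'G, e]; simp))
      rw [e2, M.vec_one, c0]
    · refine h5 ?_
      have e2 : r' = ⟨Q.y', hQ⟩ := Subtype.ext (Subtype.ext (by rw [hr'G, e]; rfl))
      rw [e2, hy1, x₀_code]
  have hr5 : M.vec r ≠ x₀ := by
    intro e
    have hgy : ((y : Cz z) : G) = Q.g * z * Q.g⁻¹ := Q.hg.symm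
    rcases (M.vec_eq_iff y r).1 (hy.trans e.symm) with e | e
    · refine h0 ?_
      have e2 : r' = ⟨zC z, P.zC_mem⟩ := Subtype.ext (Subtype.ext (by
        rw [hr'G, e, hgy]; show _ = z; group))
      rw [e2, M.vec_z, c0]
    · refine h5 ?_
      have e2 : r' = ⟨Q.y', hQ⟩ * ⟨zC z, P.zC_mem⟩ := Subtype.ext (Subtype.ext (by
        rw [hr'G, e, Subgroup.coe_mul, Subgroup.coe_mul, Subgroup.coe_mul, hgy]
        show Q.g⁻¹ * (z * (Q.g * z * Q.g⁻¹)) * Q.g = Q.g⁻¹ * z * Q.g * z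
        group))
      rw [e2, M.vec_mul, M.vec_z, add_zero, hy1, x₀_code]
  have word : ∀ p : P.J, (p : Cz z) * p = 1 → M.vec p ≠ 0 → ∃ t ∈ Fus.moveAllL,
      t.1 = vc4 (M.vec p) ∧ wB t.2 = true ∧ ap (wM t.2) x₀C = vc4 (M.vec p) := by
    intro p hp hp0
    have h := List.all_eq_true.1 Fus.move_all (vc4 (M.vec p)) (List.mem_range.2 (vc4_lt _))
    simp only [Bool.or_eq_true, Nat.beq_eq, Bool.not_eq_true', List.any_eq_true, Bool.and_eq_true,
      hf_zero_iff.1 (M.singular_of_sq hp), Nat.beq_refl, Bool.true_eq_false, or_false] at h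
    rcases h with h | ⟨t, ht, ⟨h1, h2⟩, h3⟩
    · exact absurd (vc4_inj (h.trans c0.symm)) hp0
    · exact ⟨t, ht, h1, h2, h3⟩
  obtain ⟨t', ht', e1', hw', e2'⟩ := word r' (M.Et_sq (y := ⟨Q.y', hQ⟩) Q.symm hy1 hr'E)
    (fun e => h0 (by rw [e, c0]))
  obtain ⟨t, ht, e1, hw, e2⟩ := word r (M.Et_sq Q hy hrE) hr0
  have hne : M.vec (⟨Q.y', hQ⟩ : P.J) ≠ 0 := by rw [hy1]; decide +kernel
  obtain ⟨h', -, hh', he'⟩ := M.exists_word_fix t'.2 hw' ⟨Q.y', hQ⟩ hne r' (by rw [hy1, x₀_code, e2'])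
  obtain ⟨h, -, hh, he⟩ := M.exists_word_fix t.2 hw y (by rw [hy]; decide +kernel) r (by rw [hy, x₀_code, e2])
  obtain ⟨c0', hc0', ec0⟩ := List.mem_map.1 (hu t' ht' e1')
  let e : P.J := ⟨h'⁻¹ * b * h', P.conj_mem' h' b.2⟩
  have hec : vc4 (M.vec e) = c0' := by
    have hlt : c0' < 256 := by
      have h := List.all_eq_true.1 Fus.spaces_basic k (List.mem_range.2 hk)
      simp only [Bool.and_eq_true] at h
      have := List.all_eq_true.1 h.2 c0' hc0'
      simp only [Bool.and_eq_true, Nat.blt_eq] at this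
      exact this.1
    have h1 : M.vec b = M.act h' (M.vec e) := M.vec_conj' h' e b (by simp only [e]; group)
    have h2 : M.act h' (vo4 c0') = M.act h' (M.vec e) := by
      rw [← h1]
      exact vc4_inj (by rw [he', vc4_vo4 _ hlt, ec0, hb])
    have h3 := congrArg (M.act h'⁻¹) h2
    rw [M.act_inv_act, M.act_inv_act] at h3
    rw [← h3, vc4_vo4 _ hlt]
  obtain ⟨e0, -, ee0⟩ := Et_back Q (hin e (hec ▸ hc0'))
  obtain ⟨gr, hgr⟩ : ∃ gr : G, gr = Q.g * h' * Q.g⁻¹ := ⟨_, rfl⟩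
  have hgz : gr * z * gr⁻¹ = ((r : Cz z) : G) := by
    rw [er, ← hh', hgr]
    simp only [Subgroup.coe_mul, Subgroup.coe_inv, Pair.y']
    group
  have hgy : gr⁻¹ * ((y : Cz z) : G) * gr = (y : Cz z) := by
    rw [hgr, ← Q.hg]
    calc (Q.g * h' * Q.g⁻¹)⁻¹ * (Q.g * z * Q.g⁻¹) * (Q.g * h' * Q.g⁻¹)
        = Q.g * (h' : G)⁻¹ * (z * h') * Q.g⁻¹ := by group
      _ = _ := by rw [← comm_z h']; group
  have hhz : (h : G) * Q.g * z * ((h : G) * Q.g)⁻¹ = ((r : Cz z) : G) := by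
    rw [← hh, Subgroup.coe_mul, Subgroup.coe_mul, Subgroup.coe_inv, ← Q.hg]; group
  let c : Cz z := ⟨((h : G) * Q.g)⁻¹ * gr, Subgroup.mem_centralizer_singleton_iff.2 (by
    calc ((h : G) * Q.g)⁻¹ * gr * z = ((h : G) * Q.g)⁻¹ * (gr * z * gr⁻¹) * gr := by group
      _ = ((h : G) * Q.g)⁻¹ * ((h : G) * Q.g * z * ((h : G) * Q.g)⁻¹) * gr := by rw [hgz, hhz]
      _ = _ := by group)⟩
  refine ⟨r, er, hrE, hr0, hr5, h, t, ht, e1, he, hh, ?_, ?_⟩
  · refine ⟨c * e0 * c⁻¹, P.conj_mem c e0.2, ?_⟩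
    simp only [c, e, Subgroup.coe_mul, Subgroup.coe_inv, ee0, hab, hgr]
    group
  · refine ⟨P.conj_mem' h y.2, ?_, c * y * c⁻¹, P.conj_mem c y.2, ?_⟩
    · have hc := M.Et_comm Q hy (y_mem_Et Q) hrE
      rw [← hh] at hc
      calc h⁻¹ * (y : Cz z) * h * y = h⁻¹ * ((y : Cz z) * (h * y * h⁻¹)) * h := by group
        _ = h⁻¹ * ((h * y * h⁻¹) * y) * h := by rw [hc]
        _ = _ := by group
    · simp only [c, Subgroup.coe_mul, Subgroup.coe_inv]
      have hgy' : gr * ((y : Cz z) : G) * gr⁻¹ = (y : Cz z) :=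
        (congrArg (fun x => gr * x * gr⁻¹) hgy).symm.trans (by group)
      calc ((h : G) * Q.g)⁻¹ * gr * ((y : Cz z) : G) * (((h : G) * Q.g)⁻¹ * gr)⁻¹
          = ((h : G) * Q.g)⁻¹ * (gr * ((y : Cz z) : G) * gr⁻¹) * ((h : G) * Q.g) := by group
        _ = _ := by rw [hgy']; group

theorem comb_add (x n m : V4) (p q : Bool × Bool × Bool) :
    comb x n m p + comb x n m q = comb x n m (xor p.1 q.1, xor p.2.1 q.2.1, xor p.2.2 q.2.2) := by
  have e : ∀ (v : V4) (s t : Bool), cond s v 0 + cond t v 0 = cond (xor s t) v 0 := by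
    intro v s t
    cases s <;> cases t <;> simp [two_V4]
  simp only [comb, ← e]
  abel

theorem comb_perp {j x n m : V4} (hx : Bf j x = 0) (hn : Bf j n = 0) (hm : Bf j m = 0)
    (p : Bool × Bool × Bool) : Bf j (comb x n m p) = 0 := by
  obtain ⟨s, t, w⟩ := p
  cases s <;> cases t <;> cases w <;> simp [comb, Bf_add_right, Bf_zero_right, hx, hn, hm]

theorem comb_inj {x n m : V4} (hx : x ≠ 0) (hn : n ≠ 0) (hnx : n ≠ x) (hm : m ≠ 0) (hmx : m ≠ x)
    (hnm : n + m ≠ 0) (hnmx : n + m ≠ x) : Function.Injective (comb x n m) := by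
  intro p q e
  have e0 : comb x n m p + comb x n m q = 0 := by rw [e, two_V4]
  rw [comb_add] at e0
  have key : ∀ s t w, comb x n m (s, t, w) = 0 → s = false ∧ t = false ∧ w = false := by
    intro s t w h
    have two : ∀ u v : V4, u + v = 0 → v = u := fun u v h =>
      add_left_cancel (h.trans (two_V4 u).symm)
    cases s <;> cases t <;> cases w <;>
      simp only [comb, cond, add_zero, zero_add, and_self, Bool.true_eq_false, and_false, false_and] at h ⊢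
    all_goals first
      | exact hn h
      | exact hm h
      | exact hx h
      | exact hnm h
      | exact hnx (two x n h)
      | exact hmx (two x m h)
      | exact hnmx (two x (n + m) (by rw [← add_assoc]; exact h))
  obtain ⟨h1, h2, h3⟩ := key _ _ _ e0
  have hb : ∀ s t : Bool, xor s t = false → s = t := by decide
  exact Prod.ext (hb _ _ h1) (Prod.ext (hb _ _ h2) (hb _ _ h3))

variable {i : ℕ} (hi : i < 3) (hWi : ∀ c ∈ Fus.spL i, M.WC y Q c)
  (hii : ∀ c, M.WC y Q c → c ∈ Fus.spL i)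

include hy hk hWC hin hi hWi hii in
/-- the contradiction from three moved elements -/
theorem core {b : P.J} {a : Cz z} (hab : (a : G) = Q.g * (b : Cz z) * Q.g⁻¹) (ha : a ∉ P.J)
    (ha2 : a * a = 1) {r1 r2 : P.J} (h1 : M.Moved Q a r1) (h2 : M.Moved Q a r2)
    (h3 : M.Moved Q a (r1 * r2)) (hoff : vc4 (M.vec r1) ∉ Fus.lineX) : False := by
  classical
  obtain ⟨hr1E, hn1, hn1x, h, t, ht, et, het, hh, hInJ, hy'⟩ := h1
  obtain ⟨hr2E, hn2, hn2x, g2, t2, -, -, -, hg2, hInJ2, hy2'⟩ := h2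
  obtain ⟨-, hn3, hn3x, g3, t3, -, -, -, hg3, hInJ3, hy3'⟩ := h3
  obtain ⟨hval, -, j1, -, -, hs1, -, -⟩ := M.step Q hy hQ hk hWC hin ha h r1 hh hInJ hy'
  obtain ⟨-, -, j2, -, -, hs2, hj2y, hj2r⟩ := M.step Q hy hQ hk hWC hin ha g2 r2 hg2 hInJ2 hy2'
  obtain ⟨-, -, j3, -, -, hs3, -, -⟩ := M.step Q hy hQ hk hWC hin ha g3 (r1 * r2) hg3 hInJ3 hy3'
  obtain ⟨hval0, e0, j0, he0, ej0, hs0, -, -⟩ := M.step Q hy hQ hk hWC hin ha 1 y (by group)
    ⟨b, b.2, by rw [hab, Subgroup.coe_one]; group⟩ (by simpa using y_mem_Et Q)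
  have hj0E : (j0 : Cz z) ∈ Et P Q := by rw [ej0]; simpa using he0
  obtain ⟨T, hT⟩ : ∃ T, T = M.Td a := ⟨_, rfl⟩
  have hTv : ∀ j : P.J, T (M.vec j) = M.vec (P.sOf a j) := fun j => by rw [hT, M.Td_vec]
  have hTT : ∀ v, T (T v) = 0 := fun v => by rw [hT, M.Td_Td ha2]
  have hadj : ∀ u v, Bf (T u) v = Bf u (T v) := fun u v => by rw [hT, M.Td_adj ha2]
  have hperp : ∀ j : V4, (∀ v, Bf j (T v) = 0) → T j = 0 := fun j hj =>
    eq_zero_of_perp fun w => by rw [hadj]; exact hj w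
  have hT0 : T (M.vec j0) = x₀ := by rw [hTv, hs0, hy]
  have hT1 : T (M.vec j1) = M.vec r1 := by rw [hTv, hs1]
  have hT2 : T (M.vec j2) = M.vec r2 := by rw [hTv, hs2]
  have hT3 : T (M.vec j3) = M.vec r1 + M.vec r2 := by rw [hTv, hs3, M.vec_mul]
  obtain ⟨I, hI⟩ : ∃ I, I = Finset.univ.image (comb x₀ (M.vec r1) (M.vec r2)) := ⟨_, rfl⟩
  obtain ⟨R, hR⟩ : ∃ R, R = Finset.univ.image T := ⟨_, rfl⟩
  obtain ⟨K, hK⟩ : ∃ K, K = Finset.univ.filter fun v => T v = 0 := ⟨_, rfl⟩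
  have hmR : ∀ v, v ∈ R ↔ ∃ u, T u = v := fun v => by simp [hR]
  have hmK : ∀ v, v ∈ K ↔ T v = 0 := fun v => by simp [hK]
  have hIcard : I.card = 8 := by
    rw [hI, Finset.card_image_of_injective _ (comb_inj (by decide +kernel) hn1 hn1x hn2 hn2x
      (by rw [← M.vec_mul]; exact hn3) (by rw [← M.vec_mul]; exact hn3x))]
    rfl
  have hIR : I ⊆ R := by
    intro v hv
    rw [hI, Finset.mem_image] at hv
    obtain ⟨p, -, rfl⟩ := hv
    refine (hmR _).2 ⟨comb (M.vec j0) (M.vec j1) (M.vec j2) p, ?_⟩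
    obtain ⟨s, u, w⟩ := p
    cases s <;> cases u <;> cases w <;> simp [comb, map_add, hT0, hT1, hT2]
  have hIadd : ∀ u ∈ I, ∀ v ∈ I, u + v ∈ I := by
    intro u hu v hv
    rw [hI, Finset.mem_image] at hu hv ⊢
    obtain ⟨p, -, rfl⟩ := hu
    obtain ⟨q, -, rfl⟩ := hv
    exact ⟨_, Finset.mem_univ _, (comb_add _ _ _ p q).symm⟩
  have hRadd : ∀ u ∈ R, ∀ v ∈ R, u + v ∈ R := by
    intro u hu v hv
    obtain ⟨p, rfl⟩ := (hmR u).1 hu
    obtain ⟨q, rfl⟩ := (hmR v).1 hv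
    exact (hmR _).2 ⟨p + q, map_add _ _ _⟩
  have hKadd : ∀ u ∈ K, ∀ v ∈ K, u + v ∈ K := fun u hu v hv => by
    rw [hmK] at hu hv ⊢; rw [map_add, hu, hv, add_zero]
  have hperpI : ∀ j : P.J, Bf (M.vec j) x₀ = 0 → Bf (M.vec j) (M.vec r1) = 0 → Bf (M.vec j) (M.vec r2) = 0 →
      ∀ v ∈ I, Bf (M.vec j) v = 0 := by
    intro j p q r v hv
    rw [hI, Finset.mem_image] at hv
    obtain ⟨c, -, rfl⟩ := hv
    exact comb_perp p q r c
  have hb0 : ∀ v ∈ I, Bf (M.vec j0) v = 0 := hperpI j0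
    (by rw [← hy]; exact (M.comm_iff j0 y).1 hj0E.2.1) ((M.comm_iff j0 r1).1 (M.Et_comm Q hy hj0E hr1E))
    ((M.comm_iff j0 r2).1 (M.Et_comm Q hy hj0E hr2E))
  have hprod : R.card * K.card = 256 := by
    rw [hR, hK, hT]; exact M.card_Td a
  have hRK : R.card ≤ K.card := Finset.card_le_card fun v hv => by
    obtain ⟨u, rfl⟩ := (hmR v).1 hv
    exact (hmK _).2 (hTT u)
  have hR8 : 8 < R.card := by
    by_contra hle
    have e : I = R := Finset.eq_of_subset_of_card_le hIR (by omega)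
    have := hperp (M.vec j0) fun v => hb0 _ (e ▸ (hmR _).2 ⟨v, rfl⟩)
    rw [hT0] at this
    exact absurd this (by decide +kernel)
  have hR16 : R.card = 16 ∧ K.card = 16 := by
    have h16 : R.card ≤ 16 := by
      by_contra hlt
      have : 17 * 17 ≤ R.card * K.card := Nat.mul_le_mul (by omega) (by omega)
      omega
    have hd : R.card ∣ 256 := ⟨K.card, hprod.symm⟩
    have key : ∀ n ≤ 16, 8 < n → n ∣ 256 → n = 16 := by decide
    have e := key _ h16 hR8 hd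
    rw [e] at hprod
    exact ⟨e, by omega⟩
  -- the two parts of the kernel
  obtain ⟨S, hS⟩ : ∃ S, S = Finset.univ.filter fun v : V4 => vc4 v ∈ Fus.spL i := ⟨_, rfl⟩
  have hmS : ∀ v, v ∈ S ↔ vc4 v ∈ Fus.spL i := fun v => by simp [hS]
  have hbas := List.all_eq_true.1 Fus.spaces_basic i (List.mem_range.2 hi)
  simp only [Bool.and_eq_true, beq_iff_eq, decide_eq_true_eq] at hbas
  obtain ⟨⟨⟨hlen, hnd⟩, hline⟩, hclo⟩ := hbas
  have hlt : ∀ c ∈ Fus.spL i, c < 256 := fun c hc => by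
    have := List.all_eq_true.1 hclo c hc
    simp only [Bool.and_eq_true, Nat.blt_eq] at this
    exact this.1
  have hS0 : (0 : V4) ∈ S := (hmS 0).2 (by
    have h0 : Fus.memN (Fus.spL i) 0 = true := List.all_eq_true.1 hline 0 (by simp [Fus.lineX])
    rw [show vc4 (0 : V4) = 0 by decide +kernel]
    exact Fus.memN_iff.1 h0)
  have hSadd : ∀ u ∈ S, ∀ v ∈ S, u + v ∈ S := fun u hu v hv => by
    rw [hmS] at hu hv ⊢
    have := List.all_eq_true.1 hclo _ hu
    simp only [Bool.and_eq_true] at this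
    rw [vc4_add]
    exact Fus.memN_iff.1 (List.all_eq_true.1 this.2 _ hv)
  have hScard : 16 ≤ S.card := by
    have e : (Fus.spL i).toFinset.card = 16 := by rw [List.toFinset_card_of_nodup hnd, hlen]
    rw [← e]
    refine Finset.card_le_card_of_injOn vo4 (fun c hc => ?_) ?_
    · have hc' := List.mem_toFinset.1 hc
      exact (hmS _).2 (by rw [vc4_vo4 c (hlt c hc')]; exact hc')
    · intro c hc d hd e
      have := congrArg vc4 e
      rwa [vc4_vo4 c (hlt c (List.mem_toFinset.1 hc)), vc4_vo4 d (hlt d (List.mem_toFinset.1 hd))] at this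
  have hSel : ∀ v ∈ S, ∃ e : P.J, (e : Cz z) ∈ Et P Q ∧ M.vec e = v := fun v hv => by
    obtain ⟨e, he, ee⟩ := hWi _ ((hmS v).1 hv)
    exact ⟨e, he, vc4_inj ee⟩
  obtain ⟨S1, hS1⟩ : ∃ S1, S1 = S.image (M.act h) := ⟨_, rfl⟩
  have hS1add : ∀ u ∈ S1, ∀ v ∈ S1, u + v ∈ S1 := by
    intro u hu v hv
    rw [hS1, Finset.mem_image] at hu hv ⊢
    obtain ⟨p, hp, rfl⟩ := hu
    obtain ⟨q, hq, rfl⟩ := hv
    exact ⟨p + q, hSadd p hp q hq, map_add _ _ _⟩
  have hS1el : ∀ v ∈ S1, ∃ e x : P.J, (e : Cz z) ∈ Et P Q ∧ (x : Cz z) = h * e * h⁻¹ ∧ M.vec x = v := by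
    intro v hv
    rw [hS1, Finset.mem_image] at hv
    obtain ⟨p, hp, rfl⟩ := hv
    obtain ⟨e, he, rfl⟩ := hSel p hp
    exact ⟨e, ⟨h * e * h⁻¹, P.conj_mem h e.2⟩, he, rfl, M.vec_conj' h e _ rfl⟩
  have hTS : ∀ e : P.J, (e : Cz z) ∈ Et P Q → P.sOf a e = 1 ∨ P.sOf a e = y := fun e he =>
    hval0 e e he (by group)
  have hhalf : 8 ≤ (S.filter fun v => T v = 0).card ∧ 8 ≤ (S1.filter fun v => T v = 0).card := by
    have hA := half hSadd T (x := x₀) fun v hv => by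
      obtain ⟨e, he, rfl⟩ := hSel v hv
      rcases hTS e he with s | s
      · exact Or.inl (by rw [hTv, s, M.vec_one])
      · exact Or.inr (by rw [hTv, s, hy])
    have hB := half hS1add T (x := M.vec r1) fun v hv => by
      obtain ⟨e, x, he, hx, rfl⟩ := hS1el v hv
      rcases hval e x he hx with s | s
      · exact Or.inl (by rw [hTv, s, M.vec_one])
      · exact Or.inr (by rw [hTv, s])
    have hc1 : S1.card = S.card := by
      rw [hS1, Finset.card_image_of_injective]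
      intro u v e
      have := congrArg (M.act h⁻¹) e
      rwa [M.act_inv_act, M.act_inv_act] at this
    omega
  obtain ⟨f, hf1, hfS⟩ : ∃ f, f ∈ S1.filter (fun v => T v = 0) ∧ f ∉ S.filter (fun v => T v = 0) := by
    by_contra hno
    push Not at hno
    have hchk := List.all_eq_true.1 Fus.inter_check i (List.mem_range.2 hi)
    have hchk2 := List.all_eq_true.1 hchk _ (hii _ ⟨r1, hr1E, rfl⟩)
    rw [Bool.or_eq_true, Fus.memN_iff] at hchk2
    have hchk3 := List.all_eq_true.1 (hchk2.resolve_left hoff) t ht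
    simp only [et, Nat.beq_refl, Bool.not_true, Bool.false_or, Nat.blt_eq] at hchk3
    have hle : (S1.filter fun v => T v = 0).card ≤
        ((Fus.spL i).filter (Fus.memN (Fus.imL t.2 i))).toFinset.card := by
      refine Finset.card_le_card_of_injOn vc4 (fun v hv => ?_) (fun u _ v _ e => vc4_inj e)
      have hS' := (hmS v).1 (Finset.mem_filter.1 (hno v hv)).1
      have hv1 := (Finset.mem_filter.1 hv).1
      rw [hS1, Finset.mem_image] at hv1
      obtain ⟨p, hp, rfl⟩ := hv1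
      exact List.mem_toFinset.2 (List.mem_filter.2 ⟨hS', Fus.memN_iff.2
        (List.mem_map.2 ⟨vc4 p, (hmS p).1 hp, (het p).symm⟩)⟩)
    have := List.toFinset_card_le ((Fus.spL i).filter (Fus.memN (Fus.imL t.2 i)))
    omega
  obtain ⟨hfS1, hf0⟩ := Finset.mem_filter.1 hf1
  have hcov := covered (R := K) (s := S.filter fun v => T v = 0)
    (fun u hu v hv => by
      rw [Finset.mem_filter] at hu hv ⊢
      exact ⟨hSadd u hu.1 v hv.1, by rw [map_add, hu.2, hv.2, add_zero]⟩)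
    hKadd (fun v hv => (hmK v).2 (Finset.mem_filter.1 hv).2) (by omega) ((hmK f).2 hf0) hfS
  -- everything above the kernel commutes
  have hSfix : ∀ p ∈ S.filter (fun v => T v = 0), ∀ e : P.J, M.vec e = p → (e : Cz z) ∈ Et P Q →
      P.sOf a e = 1 := by
    intro p hp e ep he
    refine (hTS e he).resolve_right fun s => ?_
    have := (Finset.mem_filter.1 hp).2
    rw [← ep, hTv, s, hy] at this
    exact absurd this (by decide +kernel)
  have hcom : ∀ d : P.J, T (M.vec d) = 0 → P.sOf a d = 1 := by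
    have hz : ∀ e d : P.J, M.vec e = M.vec d → P.sOf a e = 1 → P.sOf a d = 1 := by
      intro e d hv he
      rw [P.sOf_one_iff] at he ⊢
      rcases (M.vec_eq_iff e d).1 hv with k | k <;> rw [k]
      · exact he
      · rw [← mul_assoc, comm_zC a, mul_assoc, he, ← mul_assoc]
    intro d hd
    rcases hcov _ ((hmK _).2 hd) with hv | hv
    · obtain ⟨e, he, ee⟩ := hSel _ (Finset.mem_filter.1 hv).1
      exact hz e d ee (hSfix _ hv e ee he)
    · obtain ⟨e, he, ee⟩ := hSel _ (Finset.mem_filter.1 hv).1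
      obtain ⟨e', x, he', hx, ex⟩ := hS1el f hfS1
      refine hz (e * x) d (by rw [M.vec_mul, ee, ex, add_assoc, two_V4, add_zero]) ?_
      have hxs : P.sOf a x = 1 := (hval e' x he' hx).resolve_right fun s => by
        rw [← ex, hTv, s] at hf0
        exact hn1 hf0
      rw [P.sOf_mul, hSfix _ hv e ee he, hxs]
      group
  -- the key orthogonality
  obtain ⟨d, hd⟩ : ∃ d : P.J, d = j3⁻¹ * (j1 * j2) := ⟨_, rfl⟩
  have hTd : T (M.vec d) = 0 := by
    rw [hd, M.vec_mul, M.vec_inv, M.vec_mul, map_add, map_add, hT1, hT2, hT3, two_V4]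
  have hjj : j1 * j2 = j3 * d := by rw [hd]; group
  have hs := congrArg (fun j : P.J => ((P.sOf a j : P.J) : Cz z)) hjj
  simp only [P.sOf_mul, hs1, hs2, hs3, hcom d hTd, mul_one, Subgroup.coe_mul, Subgroup.coe_inv] at hs
  have hnd : Bf (M.vec r1 + M.vec r2) (M.vec d) = 0 := by
    rw [← hT3, hadj, hTd, Bf_zero_right]
  have hc3 := M.conj_J (r1 * r2) d
  rw [if_pos (show (hf (M.vec (r1 * r2)) (M.vec d)).im = 0 by rw [M.vec_mul]; exact hnd), Subgroup.coe_mul, Subgroup.coe_inv] at hc3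
  rw [hc3] at hs
  have hb21 : Bf (M.vec r1) (M.vec j2) = 0 := by
    by_contra hne
    have hc := M.conj_J r1 j2
    rw [if_neg (show ¬ (hf (M.vec r1) (M.vec j2)).im = 0 from hne), Subgroup.coe_inv] at hc
    rw [hc, mul_assoc, mul_eq_right] at hs
    exact P.zC_ne_one hs
  have hb2 : ∀ v ∈ I, Bf (M.vec j2) v = 0 := hperpI j2
    (by rw [← hy]; exact (M.comm_iff j2 y).1 hj2y) (by rw [Bf_symm]; exact hb21) ((M.comm_iff j2 r2).1 hj2r)
  obtain ⟨w, hwR, hwI⟩ : ∃ w ∈ R, w ∉ I := by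
    by_contra hno
    push Not at hno
    have := Finset.card_le_card (fun v hv => hno v hv : R ⊆ I)
    omega
  have hcovR := covered hIadd hRadd hIR (by omega) hwR hwI
  have hone : ∀ j : P.J, (∀ v ∈ I, Bf (M.vec j) v = 0) → T (M.vec j) ≠ 0 → Bf (M.vec j) w ≠ 0 := by
    intro j hj hne hw
    refine hne (hperp _ fun v => ?_)
    rcases hcovR _ ((hmR _).2 ⟨v, rfl⟩) with k | k
    · exact hj _ k
    · have := hj _ k
      rwa [Bf_add_right, hw, add_zero] at this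
  have two : ∀ s t : ZMod 2, s ≠ 0 → t ≠ 0 → s + t = 0 := by decide
  have hsum : T (M.vec j0 + M.vec j2) = 0 := hperp _ fun v => by
    rw [Bf_add_left]
    rcases hcovR _ ((hmR _).2 ⟨v, rfl⟩) with k | k
    · rw [hb0 _ k, hb2 _ k, add_zero]
    · have k0 := hb0 _ k
      have k2 := hb2 _ k
      have q : ∀ s t : ZMod 2, s + t = 0 → s = t := by decide
      rw [Bf_add_right] at k0 k2
      rw [q _ _ k0, q _ _ k2]
      exact two _ _ (hone j0 hb0 (by rw [hT0]; decide +kernel)) (hone j2 hb2 (by rw [hT2]; exact hn2))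
  rw [map_add, hT0, hT2] at hsum
  exact hn2x (add_left_cancel (hsum.trans (two_V4 x₀).symm))

omit [Finite G] in
theorem conj_inner (h : Cz z) {y : Cz z} (hy : IsConj z (y : G)) : IsConj z ((h * y * h⁻¹ : Cz z) : G) :=
  hy.trans (isConj_iff.2 ⟨h, by simp⟩)

omit [Finite G] in
include hy in
theorem y_ne_zC : (y : Cz z) ≠ zC z := fun e => by
  have h := M.vec_z
  rw [← show y = ⟨zC z, P.zC_mem⟩ from Subtype.ext e, hy] at h
  exact absurd h (by decide +kernel)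

include hy hy1 in
/-- a pair with both base points leads to a contradiction -/
theorem noJ_pair : False := by
  classical
  obtain ⟨i, hi, hWi, -⟩ := M.exists_space Q hy
  obtain ⟨k, hk, hWk, hin⟩ := M.exists_space (y := ⟨Q.y', hQ⟩) Q.symm hy1
  have hWC : ∀ c ∈ Fus.spL k, M.WC ⟨Q.y', hQ⟩ Q.symm c := fun c => (hWk c).2
  have hp := List.all_eq_true.1 Fus.pick_check k (List.mem_range.2 hk)
  obtain ⟨u, m1, m2, hpk⟩ : ∃ u m1 m2, Fus.pick k = (u, m1, m2) := ⟨_, _, _, rfl⟩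
  simp only [hpk, Bool.and_eq_true, Nat.blt_eq, Nat.beq_eq, Bool.not_eq_true', decide_eq_true_eq] at hp
  obtain ⟨⟨⟨⟨⟨hu, hus⟩, hux⟩, hun⟩, hnd⟩, hms⟩ := hp
  have hm : ∀ m ∈ [m1, m2, addC m1 m2], m ∈ Fus.spL k ∧
      ∀ t ∈ Fus.moveAllL, t.1 = m → u ∈ Fus.imL t.2 k := by
    intro m hm
    have h := List.all_eq_true.1 hms m hm
    simp only [Bool.and_eq_true] at h
    refine ⟨Fus.memN_iff.1 h.1, fun t ht et => ?_⟩
    have h2 := List.all_eq_true.1 h.2 t ht
    simp only [et, Nat.beq_refl, Bool.not_true, Bool.false_or] at h2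
    exact Fus.memN_iff.1 h2
  simp only [List.nodup_cons, List.mem_cons, List.not_mem_nil, or_false, not_or] at hnd
  obtain ⟨b, hb⟩ : ∃ b : P.J, vc4 (M.vec b) = u := by
    obtain ⟨b, hb⟩ := M.vec_surj (vo4 u)
    exact ⟨b, by rw [hb, vc4_vo4 u hu]⟩
  have hb2 : (b : Cz z) * b = 1 := M.sq_of_singular (hf_zero_iff.2 (by rw [hb]; exact hus))
  have hby : (b : Cz z) * Q.y' = Q.y' * b := (M.comm_iff b ⟨Q.y', hQ⟩).2 (by
    rw [Bf_code, hb, hy1, x₀_code]; exact hux)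
  obtain ⟨a, hab⟩ : ∃ a : Cz z, (a : G) = Q.g * (b : Cz z) * Q.g⁻¹ := ⟨Q.symm.phi b hby, by
    rw [Pair.phi_coe]
    show (Q.g⁻¹)⁻¹ * _ * Q.g⁻¹ = _
    rw [inv_inv]⟩
  have ha2 : a * a = 1 := Subtype.ext (by
    rw [Subgroup.coe_mul, hab]
    calc Q.g * ((b : Cz z) : G) * Q.g⁻¹ * (Q.g * (b : Cz z) * Q.g⁻¹)
        = Q.g * (((b : Cz z) : G) * (b : Cz z)) * Q.g⁻¹ := by group
      _ = _ := by rw [← Subgroup.coe_mul, hb2]; simp)
  have ha : a ∉ P.J := fun haJ => by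
    have hbE : (b : Cz z) ∈ Et P Q.symm := ⟨b.2, hby, a, haJ, by
      rw [hab]
      show _ = (Q.g⁻¹)⁻¹ * _ * Q.g⁻¹
      rw [inv_inv]⟩
    have h2 := (hWk u).1 ⟨b, hbE, hb⟩
    rw [← Fus.memN_iff, hun] at h2
    exact Bool.false_ne_true h2
  obtain ⟨r1', e1⟩ : ∃ r : P.J, vc4 (M.vec r) = m1 := by
    obtain ⟨r, -, e⟩ := hWC m1 (hm m1 (by simp)).1
    exact ⟨r, e⟩
  obtain ⟨r2', e2⟩ : ∃ r : P.J, vc4 (M.vec r) = m2 := by
    obtain ⟨r, -, e⟩ := hWC m2 (hm m2 (by simp)).1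
    exact ⟨r, e⟩
  have e3 : vc4 (M.vec (r1' * r2')) = addC m1 m2 := by rw [M.vec_mul, vc4_add, e1, e2]
  have mk : ∀ (r' : P.J) (m : ℕ), vc4 (M.vec r') = m → m ∈ [m1, m2, addC m1 m2] → m ≠ 0 → m ≠ x₀C →
      ∃ r : P.J, ((r : Cz z) : G) = Q.g * (r' : Cz z) * Q.g⁻¹ ∧ M.Moved Q a r := by
    intro r' m e hmem h0 h5
    subst e
    exact M.exists_moved Q hy hQ hy1 hk hin hb hab r' (hm _ hmem).1 h0 h5 (hm _ hmem).2
  obtain ⟨r1, g1, h1⟩ := mk r1' m1 e1 (by simp) (by tauto) (by tauto)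
  obtain ⟨r2, g2, h2⟩ := mk r2' m2 e2 (by simp) (by tauto) (by tauto)
  obtain ⟨r3, g3, h3⟩ := mk (r1' * r2') _ e3 (by simp) (by tauto) (by tauto)
  have e12 : r3 = r1 * r2 := Subtype.ext (Subtype.ext (by
    rw [g3]
    simp only [Subgroup.coe_mul, g1, g2]
    group))
  subst e12
  by_cases hoff : vc4 (M.vec r1) ∉ Fus.lineX
  · exact M.core Q hy hQ hk hWC hin hi (fun c => (hWi c).2) (fun c => (hWi c).1) hab ha ha2 h1 h2 h3 hoff
  by_cases hoff2 : vc4 (M.vec r2) ∉ Fus.lineX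
  · have ec : r1 * r2 = r2 * r1 := Subtype.ext (M.Et_comm Q hy h1.1 h2.1)
    exact M.core Q hy hQ hk hWC hin hi (fun c => (hWi c).2) (fun c => (hWi c).1) hab ha ha2 h2 h1
      (ec ▸ h3) hoff2
  push Not at hoff hoff2
  have key : ∀ c ∈ Fus.lineX, ∀ d ∈ Fus.lineX, c = 0 ∨ c = x₀C ∨ d = 0 ∨ d = x₀C ∨
      addC c d = 0 ∨ addC c d = x₀C := by decide +kernel
  have z0 : ∀ v : V4, vc4 v = 0 → v = 0 := fun v e => vc4_inj (e.trans (by decide +kernel : (0 : ℕ) = vc4 0))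
  have z5 : ∀ v : V4, vc4 v = x₀C → v = x₀ := fun v e => vc4_inj (e.trans x₀_code.symm)
  rcases key _ hoff _ hoff2 with e | e | e | e | e | e
  · exact h1.2.1 (z0 _ e)
  · exact h1.2.2.1 (z5 _ e)
  · exact h2.2.1 (z0 _ e)
  · exact h2.2.2.1 (z5 _ e)
  · exact h3.2.1 (z0 _ (by rw [M.vec_mul, vc4_add, e]))
  · exact h3.2.2.1 (z5 _ (by rw [M.vec_mul, vc4_add, e]))

omit [Finite G] hy in
/-- a conjugate in `J` other than `z` can be moved to the base point -/
theorem exists_base (x : P.J) (hx : IsConj z ((x : Cz z) : G)) (hne : (x : Cz z) ≠ zC z) :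
    ∃ h : Cz z, M.act h⁻¹ (M.vec x) = x₀ := by
  obtain ⟨c, hc⟩ := isConj_iff.1 hx
  have hzz : z * z = 1 := congrArg Subtype.val P.zC_sq
  have hsq : (x : Cz z) * x = 1 := Subtype.ext (by
    rw [Subgroup.coe_mul, ← hc]
    calc c * z * c⁻¹ * (c * z * c⁻¹) = c * (z * z) * c⁻¹ := by group
      _ = _ := by rw [hzz]; simp)
  have h1 : (x : Cz z) ≠ 1 := fun e => by
    have e' : c * z * c⁻¹ = 1 := hc.trans (congrArg Subtype.val e)
    refine P.zC_ne_one (Subtype.ext ?_)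
    show z = 1
    calc z = c⁻¹ * (c * z * c⁻¹) * c := by group
      _ = 1 := by rw [e']; group
  have h := List.all_eq_true.1 Fus.move_all (vc4 (M.vec x)) (List.mem_range.2 (vc4_lt _))
  simp only [Bool.or_eq_true, Nat.beq_eq, Bool.not_eq_true', List.any_eq_true, Bool.and_eq_true,
    hf_zero_iff.1 (M.singular_of_sq hsq), Nat.beq_refl, Bool.true_eq_false, or_false] at h
  rcases h with h | ⟨t, -, ⟨-, hw⟩, h3⟩
  · rcases (M.vec_eq_zero x).1 (vc4_inj (h.trans (by decide +kernel : (0 : ℕ) = vc4 0))) with k | k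
    · exact absurd k h1
    · exact absurd k hne
  obtain ⟨g, -, hg⟩ := M.exists_word t.2 hw
  refine ⟨g, ?_⟩
  have e : M.act g x₀ = M.vec x := vc4_inj (by rw [hg, x₀_code, h3])
  rw [← e, M.act_inv_act]

omit hy hQ hy1 in
include M in
/-- No conjugate of `z` other than `z` lies in the extraspecial group. -/
theorem noJ (y : Cz z) (hy : IsConj z (y : G)) (hJ : y ∈ P.J) : y = zC z := by
  by_contra hne
  obtain ⟨h, hh⟩ := M.exists_base ⟨y, hJ⟩ hy hne
  obtain ⟨x, hx⟩ : ∃ x : P.J, (x : Cz z) = h⁻¹ * y * h := ⟨⟨_, P.conj_mem' h hJ⟩, rfl⟩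
  have hxv : M.vec x = x₀ := by rw [M.vec_conj' h⁻¹ ⟨y, hJ⟩ x (by rw [hx, inv_inv]), hh]
  have hxc : IsConj z ((x : Cz z) : G) := by
    rw [hx]
    simpa using conj_inner h⁻¹ hy
  obtain ⟨Q⟩ := exists_pair hxc
  have hQ := M.y'_mem Q hxv
  obtain ⟨g, hg⟩ := M.exists_base ⟨Q.y', hQ⟩ Q.y'_conj (zC_ne_y' Q (M.y_ne_zC hxv))
  let Q2 : Pair (x : Cz z) := ⟨Q.g * g, by
    rw [← Q.hg]
    calc Q.g * (g : G) * z * (Q.g * g)⁻¹ = Q.g * ((g : G) * z * (g : G)⁻¹) * Q.g⁻¹ := by group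
      _ = _ := by rw [comm_z g]; group⟩
  have hQ2 := M.y'_mem Q2 hxv
  refine M.noJ_pair Q2 hxv hQ2 ?_
  rw [← hg]
  refine M.vec_conj' g⁻¹ _ _ (Subtype.ext ?_)
  simp only [Subgroup.coe_mul, Subgroup.coe_inv, Pair.y', Q2]
  group

end Nat4

end CfsgLib.U62Cent
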