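import Cfsg.Agent.Lib.U62Cent.Targets
import Cfsg.Agent.Lib.U62Cent.InJ
import Cfsg.Agent.Lib.U62Cent.FusOutT

/-!
Piece B of S3230 and S3231: fusion in case A.
-/

set_option autoImplicit false

namespace CfsgLib.U62Cent

universe u

/-- piece B -/
theorem fusionStmt : FusionStmt.{u} := fun {G} _ _ {z} P M hni =>
  exists_fused_of_noJ P M hni fun y hy hJ => M.noJ y hy hJ

end CfsgLib.U62Cent
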