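/-!
Finite data for the exclusion of conjugates inside the extraspecial group.
-/

set_option autoImplicit false

namespace CfsgLib.U62Cent.Fus

/-- words moving the base point to every singular vector -/
def moveAllL : List (Nat × List Nat) :=
  [(5, []),
   (6, [17, 19]),
   (7, [17, 18]),
   (9, [20, 28]),
   (10, [6, 17, 18]),
   (11, [7]),
   (13, [20, 24]),
   (14, [6]),
   (15, [6, 20, 28]),
   (17, [20]),
   (18, [6, 17]),
   (19, [7, 17]),
   (20, [17]),
   (24, [7, 20]),
   (28, [6, 20]),
   (33, [28]),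
   (34, [6, 19]),
   (35, [7, 19]),
   (36, [19]),
   (40, [7, 28]),
   (44, [6, 28]),
   (49, [24]),
   (50, [6, 18]),
   (51, [7, 18]),
   (52, [18]),
   (56, [7, 24]),
   (60, [6, 24]),
   (65, [68]),
   (66, [6, 65]),
   (67, [7, 65]),
   (68, [65]),
   (72, [7, 68]),
   (76, [6, 68]),
   (80, [17, 68]),
   (85, [6, 91]),
   (86, [28, 107]),
   (87, [24, 126]),
   (89, [19, 110]),
   (90, [19, 126]),
   (91, [94]),
   (93, [18, 123]),
   (94, [91]),
   (95, [18, 107]),
   (96, [19, 68]),
   (101, [6, 107]),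
   (102, [24, 123]),
   (103, [20, 94]),
   (105, [18, 126]),
   (106, [18, 94]),
   (107, [110]),
   (109, [17, 91]),
   (110, [107]),
   (111, [17, 123]),
   (112, [18, 68]),
   (117, [6, 123]),
   (118, [20, 91]),
   (119, [28, 110]),
   (121, [17, 94]),
   (122, [17, 110]),
   (123, [126]),
   (125, [19, 107]),
   (126, [123]),
   (127, [19, 91]),
   (129, [76]),
   (130, [6, 67]),
   (131, [7, 67]),
   (132, [67]),
   (136, [7, 76]),
   (140, [6, 76]),
   (144, [17, 76]),
   (149, [6, 118]),
   (150, [28, 86]),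
   (151, [24, 105]),
   (153, [19, 89]),
   (154, [19, 105]),
   (155, [121]),
   (157, [18, 102]),
   (158, [118]),
   (159, [18, 86]),
   (160, [19, 76]),
   (165, [6, 86]),
   (166, [24, 102]),
   (167, [20, 121]),
   (169, [18, 105]),
   (170, [18, 121]),
   (171, [89]),
   (173, [17, 118]),
   (174, [86]),
   (175, [17, 102]),
   (176, [18, 76]),
   (181, [6, 102]),
   (182, [20, 118]),
   (183, [28, 89]),
   (185, [17, 121]),
   (186, [17, 89]),
   (187, [105]),
   (189, [19, 86]),
   (190, [102]),
   (191, [19, 118]),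
   (193, [72]),
   (194, [6, 66]),
   (195, [7, 66]),
   (196, [66]),
   (200, [7, 72]),
   (204, [6, 72]),
   (208, [17, 72]),
   (213, [6, 109]),
   (214, [28, 125]),
   (215, [24, 87]),
   (217, [19, 119]),
   (218, [19, 87]),
   (219, [103]),
   (221, [18, 93]),
   (222, [109]),
   (223, [18, 125]),
   (224, [19, 72]),
   (229, [6, 125]),
   (230, [24, 93]),
   (231, [20, 103]),
   (233, [18, 87]),
   (234, [18, 103]),
   (235, [119]),
   (237, [17, 109]),
   (238, [125]),
   (239, [17, 93]),
   (240, [18, 72]),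
   (245, [6, 93]),
   (246, [20, 109]),
   (247, [28, 119]),
   (249, [17, 103]),
   (250, [17, 119]),
   (251, [87]),
   (253, [19, 125]),
   (254, [93]),
   (255, [19, 109])]

/-- for each space a vector and two members -/
def pickL : List (Nat × Nat × Nat) :=
  [(11, 80, 176), (11, 96, 144), (11, 112, 160)]

end CfsgLib.U62Cent.Fus
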