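import Cfsg.Agent.Lib.U62Cent.Checks
import Cfsg.Agent.Lib.U62Cent.MoveData

/-!
Finite checks and coordinates for the exclusion of conjugates inside the extraspecial group.
-/

set_option autoImplicit false
set_option maxRecDepth 100000

namespace CfsgLib.U62Cent

open Matrix
open CfsgLib.Spor.U62 (kOf kCode)

/-- the alternating form -/
def Bf (u v : V4) : ZMod 2 := (hf u v).im

theorem Bf_add_left (u u' v : V4) : Bf (u + u') v = Bf u v + Bf u' v := by
  rw [Bf, hf_add_left]; rfl

theorem Bf_add_right (u v v' : V4) : Bf u (v + v') = Bf u v + Bf u v' := by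
  rw [Bf, hf_add_right]; rfl

theorem Bf_zero_left (v : V4) : Bf 0 v = 0 := by
  have h := Bf_add_left 0 0 v
  rw [add_zero] at h
  exact left_eq_add.1 h

theorem Bf_symm (u v : V4) : Bf u v = Bf v u := by
  have hk : ∀ c < 4, (kOf c ^ 2).im = (kOf c).im := by decide +kernel
  rw [Bf, Bf, hf_swap u v, ← Spor.U62.kOf_code (hf u v), hk _ (Spor.U62.kCode_lt _)]

theorem Bf_code {u v : V4} : Bf u v = 0 ↔ Nat.blt (hC4 (vc4 u) (vc4 v)) 2 = true := by
  have hk : ∀ c < 4, (kOf c).im = 0 ↔ Nat.blt c 2 = true := by decide +kernel
  rw [Bf, ← kOf_hC4, hk _ (hC4_lt _ _)]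

namespace Fus

/-- orthogonal codes -/
def orB (u v : ℕ) : Bool := Nat.blt (hC4 u v) 2

/-- one of the spaces -/
def spL (i : ℕ) : List ℕ := spaceL.getD i []

/-- the line of the base point -/
def lineX : List ℕ := [0, 5, 10, 15]

/-- the images of a space -/
def imL (w : List ℕ) (i : ℕ) : List ℕ := (spL i).map (ap (wM w))

theorem spaces_basic : ((List.range 3).all fun i => (spL i).length == 16 && decide (spL i).Nodup &&
    lineX.all (memN (spL i)) && (spL i).all fun u => Nat.blt u 256 && (spL i).all fun v =>
      memN (spL i) (addC u v)) = true := by decide +kernel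

theorem move_all : ((List.range 256).all fun v => Nat.beq v 0 || !Nat.beq (hC4 v v) 0 ||
    moveAllL.any fun t => Nat.beq t.1 v && wB t.2 && Nat.beq (ap (wM t.2) x₀C) v) = true := by decide +kernel

theorem stab_words : (([outW, crossW] ++ stabW).all fun w => wB w && Nat.beq (ap (wM w) x₀C) x₀C) = true := by
  decide +kernel

theorem out_check : ((List.range 256).all fun u => !Nat.beq (hC4 u u) 0 || !orB u x₀C ||
    ((List.range 3).any fun i => memN (spL i) u) || !orB u (ap (wM outW) u)) = true := by decide +kernel

theorem cross_check : ((List.range 3).all fun i => (List.range 3).all fun j => Nat.beq i j ||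
    (spL i).all fun u => memN lineX u || (spL j).all fun w => memN lineX w || !orB u w ||
      !orB u (ap (wM crossW) w) || !orB (addC u w) (ap (wM crossW) (addC u w))) = true := by decide +kernel

/-- the orbit list used for the span -/
def orbL (u : ℕ) : List ℕ := x₀C :: u :: ((stabW.map fun g => ap (wM g) u) ++
  stabW.flatMap fun g => stabW.map fun g' => ap (wM g) (ap (wM g') u))

/-- adjoin one vector to a span -/
def adj (acc : List ℕ) (x : ℕ) : List ℕ := if memN acc x then acc else acc ++ acc.map (addC x)

/-- the span of a list -/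
def spanL (l : List ℕ) : List ℕ := l.foldl adj [0]

theorem span_check : ((List.range 3).all fun i => (spL i).all fun u => memN lineX u ||
    (spL i).all (memN (spanL (orbL u)))) = true := by decide +kernel

theorem maximal_check : ((List.range 3).all fun i => (List.range 256).all fun v =>
    memN (spL i) v || !((spL i).all (orB v))) = true := by decide +kernel

theorem perp_check : ((List.range 256).all fun k => Nat.beq k 0 || Nat.beq k x₀C ||
    (List.range 256).any fun v => orB v x₀C && !orB k v) = true := by decide +kernel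

theorem nondeg_check : ((List.range 256).all fun k => Nat.beq k 0 ||
    (List.range 256).any fun v => !orB k v) = true := by decide +kernel

theorem inter_check : ((List.range 3).all fun i => (spL i).all fun n => memN lineX n ||
    moveAllL.all fun t => !Nat.beq t.1 n || Nat.blt ((spL i).filter (memN (imL t.2 i))).length 8) = true := by
  decide +kernel

/-- the chosen vector and members for a space -/
def pick (k : ℕ) : ℕ × ℕ × ℕ := pickL.getD k (0, 0, 0)

theorem pick_check : ((List.range 3).all fun k => Nat.blt (pick k).1 256 &&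
    Nat.beq (hC4 (pick k).1 (pick k).1) 0 && orB (pick k).1 x₀C && !memN (spL k) (pick k).1 &&
    decide ([0, x₀C, (pick k).2.1, addC x₀C (pick k).2.1, (pick k).2.2, addC x₀C (pick k).2.2,
      addC (pick k).2.1 (pick k).2.2, addC x₀C (addC (pick k).2.1 (pick k).2.2)]).Nodup &&
    [(pick k).2.1, (pick k).2.2, addC (pick k).2.1 (pick k).2.2].all fun m => memN (spL k) m &&
      moveAllL.all fun t => !Nat.beq t.1 m || memN (imL t.2 k) (pick k).1) = true := by decide +kernel

theorem foldl_adj {Pr : ℕ → Prop} (hadd : ∀ a b, Pr a → Pr b → Pr (addC a b)) :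
    ∀ (l acc : List ℕ), (∀ x ∈ acc, Pr x) → (∀ x ∈ l, Pr x) → ∀ x ∈ l.foldl adj acc, Pr x
  | [], acc, ha, _, x, hx => ha x hx
  | b :: l, acc, ha, hl, x, hx => by
    refine foldl_adj hadd l (adj acc b) ?_ (fun y hy => hl y (List.mem_cons_of_mem _ hy)) x hx
    intro y hy
    rw [adj] at hy
    split_ifs at hy
    · exact ha y hy
    · rcases List.mem_append.1 hy with h | h
      · exact ha y h
      · obtain ⟨c, hc, rfl⟩ := List.mem_map.1 h
        exact hadd _ _ (hl b List.mem_cons_self) (ha c hc)

theorem spanL_ind {Pr : ℕ → Prop} (h0 : Pr 0) (hadd : ∀ a b, Pr a → Pr b → Pr (addC a b)) {l : List ℕ}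
    (hl : ∀ x ∈ l, Pr x) : ∀ x ∈ spanL l, Pr x :=
  foldl_adj hadd l [0] (fun x hx => (List.mem_singleton.1 hx) ▸ h0) hl

end Fus

end CfsgLib.U62Cent
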