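import Cfsg.Agent.Lib.U62Cent.Sylow
import Cfsg.Agent.Lib.U62Cent.InJChecks

/-!
A conjugate `y` of `z` inside the extraspecial group: `z` lies in the corresponding group of `y`, and
the intersection of the two groups gives one of three totally singular spaces.
-/

set_option autoImplicit false
set_option maxRecDepth 100000

namespace CfsgLib.U62Cent

open Matrix
open CfsgLib.Spor.U62 (kOf kCode)

universe u

variable {G : Type u} [Group G] {z : G}

/-- the element lies in the extraspecial group transported by `g` -/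
def InJG (P : Hyp z) (g a : G) : Prop := ∃ j ∈ P.J, (j : G) = g⁻¹ * a * g

/-- the intersection of the two extraspecial groups of a pair -/
def Et (P : Hyp z) {y : Cz z} (Q : Pair y) : Subgroup (Cz z) where
  carrier := {a | a ∈ P.J ∧ a * y = y * a ∧ InJG P Q.g (a : G)}
  one_mem' := ⟨P.J.one_mem, by rw [one_mul, mul_one], 1, P.J.one_mem, by simp⟩
  mul_mem' := by
    rintro a b ⟨ha, hay, i, hi, ei⟩ ⟨hb, hby, j, hj, ej⟩
    exact ⟨P.J.mul_mem ha hb, by rw [mul_assoc, hby, ← mul_assoc, hay, mul_assoc],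
      i * j, P.J.mul_mem hi hj, by rw [Subgroup.coe_mul, Subgroup.coe_mul, ei, ej]; group⟩
  inv_mem' := by
    rintro a ⟨ha, hay, i, hi, ei⟩
    exact ⟨P.J.inv_mem ha, (Commute.inv_left hay).eq, i⁻¹, P.J.inv_mem hi, by
      rw [Subgroup.coe_inv, Subgroup.coe_inv, ei]; group⟩

theorem mem_Et {P : Hyp z} {y : Cz z} {Q : Pair y} {a : Cz z} :
    a ∈ Et P Q ↔ a ∈ P.J ∧ a * y = y * a ∧ InJG P Q.g (a : G) := Iff.rfl

theorem symm_y' {y : Cz z} (Q : Pair y) : Q.symm.y' = y := Subtype.ext (by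
  show (Q.g⁻¹)⁻¹ * z * Q.g⁻¹ = (y : G)
  rw [inv_inv, Q.hg])

/-- transport into the intersection seen from the other side -/
theorem phi_mem_Et {P : Hyp z} {y : Cz z} (Q : Pair y) {a : Cz z} (ha : a ∈ Et P Q) :
    Q.phi a ha.2.1 ∈ Et P Q.symm := by
  obtain ⟨haJ, hay, i, hi, ei⟩ := ha
  refine ⟨?_, Q.phi_comm a hay, a, haJ, ?_⟩
  · have e : Q.phi a hay = i := Subtype.ext ei.symm
    exact e ▸ hi
  · show (a : G) = (Q.g⁻¹)⁻¹ * (Q.g⁻¹ * a * Q.g) * Q.g⁻¹
    group

namespace Nat4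

variable {P : Hyp z} (M : Nat4 P)

theorem vec_vo {v : V4} : ∃ a : P.J, M.vec a = v := M.vec_surj v

theorem comm_iff (a b : P.J) : (a : Cz z) * b = b * a ↔ Bf (M.vec a) (M.vec b) = 0 := by
  rw [Bf, ← M.vec_comm]
  exact ⟨fun h => Subtype.ext h, fun h => congrArg Subtype.val h⟩

theorem sq_of_singular {a : P.J} (h : hf (M.vec a) (M.vec a) = 0) : (a : Cz z) * a = 1 :=
  congrArg Subtype.val ((M.vec_sq a).2 h)

theorem singular_of_sq {a : P.J} (h : (a : Cz z) * a = 1) : hf (M.vec a) (M.vec a) = 0 :=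
  (M.vec_sq a).1 (Subtype.ext h)

theorem act_smul_inner {h : Cz z} (hh : h ∈ P.H₁) {l : List ℕ}
    (he : ∀ v, M.act h v = mat4 (wU l) *ᵥ v) (hl : wB l = true) (v : V4) :
    vc4 (M.act h v) = ap (wM l) (vc4 v) := by
  rw [he, vc4_mat4, cd4_wU hl]

/-- a lift of a word -/
theorem exists_word (l : List ℕ) (hl : wB l = true) :
    ∃ h ∈ P.H₁, ∀ v, vc4 (M.act h v) = ap (wM l) (vc4 v) := by
  obtain ⟨h, hh, he⟩ := M.lift (wU l).1 (wU l).2
  exact ⟨h, hh, M.act_smul_inner hh he hl⟩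

theorem vec_conj' (h : Cz z) (a : P.J) (b : P.J) (e : (b : Cz z) = h * a * h⁻¹) :
    M.vec b = M.act h (M.vec a) := by
  rw [← M.vec_conj]
  exact congrArg M.vec (Subtype.ext (by rw [MulAut.conjNormal_apply]; exact e))

/-- conjugation by `J` flips the sign when the vectors are not orthogonal -/
theorem exists_flip (y : P.J) (hy : M.vec y ≠ 0) :
    ∃ j : P.J, (j : Cz z)⁻¹ * y * j = zC z * y := by
  have hex : ∃ v, Bf (M.vec y) v ≠ 0 := by
    have h := List.all_eq_true.1 Fus.nondeg_check (vc4 (M.vec y)) (List.mem_range.2 (vc4_lt _))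
    simp only [Bool.or_eq_true, Nat.beq_eq, List.any_eq_true, Bool.not_eq_true', List.mem_range] at h
    rcases h with h | ⟨v, hv, h⟩
    · exact absurd (vc4_inj (h.trans (by decide +kernel : (0 : ℕ) = vc4 0))) hy
    · refine ⟨vo4 v, fun e => ?_⟩
      rw [Bf_code, vc4_vo4 v hv] at e
      rw [Fus.orB, e] at h
      exact Bool.false_ne_true h.symm
  obtain ⟨v, hv⟩ := hex
  obtain ⟨j, rfl⟩ := M.vec_surj v
  refine ⟨j, ?_⟩
  have h := M.conj_J y j
  rw [if_neg (by exact hv)] at h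
  exact h

/-- a lift of a word fixing a vector commutes with an element above it after adjustment -/
theorem exists_word_fix (l : List ℕ) (hl : wB l = true) (y : P.J) (hy : M.vec y ≠ 0) (r : P.J)
    (hr : ap (wM l) (vc4 (M.vec y)) = vc4 (M.vec r)) :
    ∃ h ∈ P.H₁, h * y * h⁻¹ = r ∧ ∀ v, vc4 (M.act h v) = ap (wM l) (vc4 v) := by
  obtain ⟨h, hh, he⟩ := M.exists_word l hl
  let r₁ : P.J := ⟨h * y * h⁻¹, P.conj_mem h y.2⟩
  have hv : M.vec r₁ = M.vec r := by
    rw [M.vec_conj' h y r₁ rfl]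
    exact vc4_inj (by rw [he]; exact hr)
  rcases (M.vec_eq_iff r₁ r).1 hv with e | e
  · exact ⟨h, hh, e.symm, he⟩
  obtain ⟨j, hj⟩ := M.exists_flip y hy
  refine ⟨h * (j : Cz z)⁻¹, P.H₁.mul_mem hh (P.le (P.J.inv_mem j.2)), ?_, fun v => ?_⟩
  · rw [e]
    show h * (j : Cz z)⁻¹ * y * (h * (j : Cz z)⁻¹)⁻¹ = zC z * (h * y * h⁻¹)
    calc h * (j : Cz z)⁻¹ * y * (h * (j : Cz z)⁻¹)⁻¹ = h * ((j : Cz z)⁻¹ * y * j) * h⁻¹ := by group
      _ = h * (zC z * y) * h⁻¹ := by rw [hj]
      _ = (h * zC z) * (y * h⁻¹) := by group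
      _ = (zC z * h) * (y * h⁻¹) := by rw [comm_zC h]
      _ = _ := by group
  · rw [M.act_mul, M.act_J (P.J.inv_mem j.2), he]

/-- the commuting part of `J` has index at most two -/
theorem card_comm [Finite G] (y : Cz z) (hy : y ∈ P.J) :
    256 ≤ Nat.card ↥(P.J ⊓ Subgroup.centralizer ({y} : Set (Cz z))) := by
  classical
  obtain ⟨R, hR⟩ : ∃ R, R = P.J ⊓ Subgroup.centralizer ({y} : Set (Cz z)) := ⟨_, rfl⟩
  rw [← hR]
  have hm : ∀ a : Cz z, a ∈ R ↔ a ∈ P.J ∧ a * y = y * a := fun a => by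
    rw [hR, Subgroup.mem_inf, Subgroup.mem_centralizer_singleton_iff]
  have hkey : ∀ a ∈ P.J, ¬ a * y = y * a → a * y * a⁻¹ = zC z * y := by
    intro a ha hne
    rcases P.xc.commEl a ha y hy with h | h
    · exact absurd (mul_inv_eq_iff_eq_mul.1 h) hne
    · exact h
  by_cases hall : ∀ a ∈ P.J, a * y = y * a
  · have hle : P.J ≤ R := fun a ha => (hm a).2 ⟨ha, hall a ha⟩
    have := Subgroup.card_le_of_le hle
    rw [P.card_J] at this
    omega
  push_neg at hall
  obtain ⟨x, hx, hxy⟩ := hall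
  have hstep : ∀ a : P.J, ∃ r : R, (r : Cz z) = a ∨ (r : Cz z) = x⁻¹ * a := fun a => by
    by_cases h : (a : Cz z) * y = y * a
    · exact ⟨⟨a, (hm _).2 ⟨a.2, h⟩⟩, Or.inl rfl⟩
    · refine ⟨⟨x⁻¹ * a, (hm _).2 ⟨P.J.mul_mem (P.J.inv_mem hx) a.2, ?_⟩⟩, Or.inr rfl⟩
      refine mul_inv_eq_iff_eq_mul.1 ?_
      calc x⁻¹ * a * y * (x⁻¹ * (a : Cz z))⁻¹ = x⁻¹ * ((a : Cz z) * y * (a : Cz z)⁻¹) * x := by group
        _ = x⁻¹ * (x * y * x⁻¹) * x := by rw [hkey a a.2 h, hkey x hx hxy]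
        _ = y := by group
  choose f hf' using hstep
  let F : P.J → Bool × R := fun a => (decide ((f a : Cz z) = a), f a)
  have hinj : Function.Injective F := by
    intro a b e
    simp only [F, Prod.mk.injEq, decide_eq_decide] at e
    obtain ⟨e1, e2⟩ := e
    by_cases h : (f a : Cz z) = a
    · exact Subtype.ext (h.symm.trans ((congrArg Subtype.val e2).trans (e1.1 h)))
    · have h' : ¬ (f b : Cz z) = b := fun k => h (e1.2 k)
      refine Subtype.ext (mul_left_cancel (((hf' a).resolve_left h).symm.trans ?_))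
      rw [congrArg Subtype.val e2]
      exact (hf' b).resolve_left h'
  have := Nat.card_le_card_of_injective F hinj
  rw [Nat.card_prod, Nat.card_eq_fintype_card (α := Bool), Fintype.card_bool, P.card_J] at this
  omega

theorem zC_ne_y' {y : Cz z} (Q : Pair y) (hne : y ≠ zC z) : Q.y' ≠ zC z := fun e => hne (by
  have h : Q.g⁻¹ * z * Q.g = z := congrArg Subtype.val e
  refine Subtype.ext ?_
  show (y : G) = z
  rw [← Q.hg]
  calc Q.g * z * Q.g⁻¹ = Q.g * (Q.g⁻¹ * z * Q.g) * Q.g⁻¹ := by rw [h]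
    _ = z := by group)

/-- the map of the commuting part of `J` to permutations seen from `y` -/
def psi {y : Cz z} (Q : Pair y) :
    ↥(P.J ⊓ Subgroup.centralizer ({y} : Set (Cz z))) →* Equiv.Perm V4 where
  toFun a := M.pa (Q.phi a (Subgroup.mem_centralizer_singleton_iff.1 a.2.2))
  map_one' := by
    rw [show Q.phi _ _ = (1 : Cz z) from Subtype.ext (by simp [Pair.phi_coe]), map_one]
  map_mul' a b := by
    rw [← map_mul, ← Q.phi_mul]
    rfl

theorem psi_one_iff {y : Cz z} (Q : Pair y) (a : ↥(P.J ⊓ Subgroup.centralizer ({y} : Set (Cz z)))) :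
    M.psi Q a = 1 ↔ (a : Cz z) ∈ Et P Q := by
  show M.pa _ = 1 ↔ _
  rw [M.pa_eq_one_iff]
  constructor
  · intro h
    exact ⟨a.2.1, Subgroup.mem_centralizer_singleton_iff.1 a.2.2, _, h, rfl⟩
  · rintro ⟨-, -, i, hi, ei⟩
    have e : Q.phi (a : Cz z) (Subgroup.mem_centralizer_singleton_iff.1 a.2.2) = i := Subtype.ext ei.symm
    exact e ▸ hi

variable [Finite G] {y : P.J} (Q : Pair (y : Cz z)) (hy : M.vec y = x₀)

include hy in
/-- `z` lies in the extraspecial group of `y`. -/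
theorem y'_mem : Q.y' ∈ P.J := by
  classical
  by_contra hnot
  let R := P.J ⊓ Subgroup.centralizer ({(y : Cz z)} : Set (Cz z))
  have hyne : (y : Cz z) ≠ zC z := fun e => by
    have h := M.vec_z
    rw [← show y = ⟨zC z, P.zC_mem⟩ from Subtype.ext e, hy] at h
    exact absurd h (by decide +kernel)
  have hy1 : (y : Cz z) ≠ 1 := fun e => by
    have h := (M.vec_eq_zero y).2 (Or.inl e)
    rw [hy] at h
    exact absurd h (by decide +kernel)
  have hcen : ∀ a : R, M.psi Q a = 1 → (a : Cz z) = 1 ∨ (a : Cz z) = y := by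
    intro a ha
    obtain ⟨haJ, hay, i, hi, ei⟩ := (M.psi_one_iff Q a).1 ha
    have hperp : ∀ b : P.J, (b : Cz z) * y = y * b → Bf (M.vec ⟨a, haJ⟩) (M.vec b) = 0 := by
      intro b hb
      rw [← M.comm_iff]
      rcases P.xc.commEl (a : Cz z) haJ b b.2 with h | h
      · exact mul_inv_eq_iff_eq_mul.1 h
      · exfalso
        have he : Q.phi (a : Cz z) hay = i := Subtype.ext ei.symm
        have h2 : (Q.g⁻¹ * ((a : Cz z) : G) * Q.g) * (Q.g⁻¹ * ((b : Cz z) : G) * Q.g) *
            (Q.g⁻¹ * ((a : Cz z) : G) * Q.g)⁻¹ * (Q.g⁻¹ * ((b : Cz z) : G) * Q.g)⁻¹ = (Q.y' : G) := by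
          have hh := congrArg Subtype.val h
          simp only [Subgroup.coe_mul, Subgroup.coe_inv] at hh
          calc _ = Q.g⁻¹ * (((a : Cz z) : G) * (b : Cz z) * ((a : Cz z) : G)⁻¹ * ((b : Cz z) : G)⁻¹) * Q.g := by
                group
            _ = Q.g⁻¹ * ((zC z : G) * (b : Cz z) * ((b : Cz z) : G)⁻¹) * Q.g := by rw [hh]
            _ = _ := by
              show _ = Q.g⁻¹ * z * Q.g
              rw [show ((zC z : Cz z) : G) = z from rfl]
              group
        refine hnot ?_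
        have e3 : Q.y' = i * (Q.phi (b : Cz z) hb * i⁻¹ * (Q.phi (b : Cz z) hb)⁻¹) := Subtype.ext (by
          rw [← h2]
          simp only [Subgroup.coe_mul, Subgroup.coe_inv, Pair.phi_coe, ei]
          group)
        rw [e3]
        exact P.J.mul_mem hi (P.conj_mem _ (P.J.inv_mem hi))
    have hk : M.vec ⟨a, haJ⟩ = 0 ∨ M.vec ⟨a, haJ⟩ = x₀ := by
      have h := List.all_eq_true.1 Fus.perp_check (vc4 (M.vec ⟨a, haJ⟩)) (List.mem_range.2 (vc4_lt _))
      simp only [Bool.or_eq_true, Nat.beq_eq, List.any_eq_true, Bool.and_eq_true, Bool.not_eq_true',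
        List.mem_range] at h
      rcases h with (h | h) | ⟨v, hv, h1, h2⟩
      · exact Or.inl (vc4_inj (h.trans (by decide +kernel : (0 : ℕ) = vc4 0)))
      · exact Or.inr (vc4_inj (h.trans x₀_code.symm))
      · exfalso
        obtain ⟨b, hb⟩ := M.vec_surj (vo4 v)
        have hby : (b : Cz z) * y = y * b := by
          rw [M.comm_iff, hb, hy, Bf_code, vc4_vo4 v hv, x₀_code]
          exact h1
        have h3 := hperp b hby
        rw [hb, Bf_code, vc4_vo4 v hv] at h3
        rw [Fus.orB, h3] at h2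
        exact Bool.false_ne_true h2.symm
    have hz : Q.phi (zC z) (comm_zC (y : Cz z)).symm = Q.y' := Q.phi_zC
    have hzn : ¬ (zC z) ∈ Et P Q := fun h => hnot (by
      obtain ⟨-, -, k, hk', ek⟩ := h
      rw [← hz, show Q.phi (zC z) _ = k from Subtype.ext ek.symm]
      exact hk')
    rcases hk with h | h
    · rcases (M.vec_eq_zero _).1 h with e | e
      · exact Or.inl e
      · exact absurd (e ▸ (M.psi_one_iff Q a).1 ha) hzn
    · rw [← hy] at h
      rcases (M.vec_eq_iff y ⟨a, haJ⟩).1 h.symm with e | e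
      · exact Or.inr e
      · exfalso
        have hyE : (y : Cz z) ∈ Et P Q := ⟨y.2, rfl, zC z, P.zC_mem, by
          rw [← Q.phi_y]; rfl⟩
        have h4 : (zC z : Cz z) = (a : Cz z) * (y : Cz z)⁻¹ := by
          rw [show (a : Cz z) = zC z * y from e]; group
        exact hzn (h4 ▸ (Et P Q).mul_mem ((M.psi_one_iff Q a).1 ha) ((Et P Q).inv_mem hyE))
  have hker : Nat.card (M.psi Q).ker ≤ 2 := by
    let f : (M.psi Q).ker → Bool := fun a => decide (((a : R) : Cz z) = 1)
    have hinj : Function.Injective f := by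
      intro a b e
      simp only [f, decide_eq_decide] at e
      rcases hcen _ (MonoidHom.mem_ker.1 a.2) with ha | ha <;>
        rcases hcen _ (MonoidHom.mem_ker.1 b.2) with hb | hb
      · exact Subtype.ext (Subtype.ext (ha.trans hb.symm))
      · exact absurd (hb.symm.trans (e.1 ha)) hy1
      · exact absurd (ha.symm.trans (e.2 hb)) hy1
      · exact Subtype.ext (Subtype.ext (ha.trans hb.symm))
    simpa using Nat.card_le_card_of_injective f hinj
  have hcard : 128 ≤ Nat.card (M.psi Q).range := by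
    have h := Subgroup.card_mul_index (M.psi Q).ker
    rw [Subgroup.index_ker] at h
    have h256 := card_comm (P := P) (y : Cz z) y.2
    have h3 : Nat.card (M.psi Q).ker * Nat.card (M.psi Q).range ≤ 2 * Nat.card (M.psi Q).range :=
      Nat.mul_le_mul_right _ hker
    omega
  refine M.commutators_le (X := (M.psi Q).range) ?_ ?_ hcard (M.pa Q.y') ?_
  · rintro x ⟨a, rfl⟩; exact ⟨_, rfl⟩
  · intro x
    obtain ⟨a, ha⟩ := x.2
    obtain ⟨k, hk⟩ := ((IsPGroup.of_card P.card_J).to_le (inf_le_left : R ≤ P.J)) a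
    exact ⟨k, Subtype.ext (by rw [Subgroup.coe_pow, ← ha, ← map_pow, hk, map_one]; rfl)⟩
  · rintro _ ⟨a, rfl⟩ _ ⟨b, rfl⟩
    rw [← map_inv, ← map_inv, ← map_mul, ← map_mul, ← map_mul]
    rcases P.xc.commEl (a : Cz z) a.2.1 b b.2.1 with h | h
    · left
      rw [show a * b * a⁻¹ * b⁻¹ = 1 from Subtype.ext (by
        simp only [Subgroup.coe_mul, Subgroup.coe_inv, Subgroup.coe_one, h, mul_inv_cancel]), map_one]
    · right
      show M.pa (Q.phi _ _) = M.pa Q.y'
      refine congrArg M.pa (Subtype.ext ?_)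
      show Q.g⁻¹ * _ * Q.g = Q.g⁻¹ * z * Q.g
      have e : ((a * b * a⁻¹ * b⁻¹ : R) : Cz z) = zC z := by
        simp only [Subgroup.coe_mul, Subgroup.coe_inv, h, mul_inv_cancel_right]
      rw [e]
      rfl

include hy in
theorem zC_mem_Et : zC z ∈ Et P Q := ⟨P.zC_mem, (comm_zC (y : Cz z)).symm, Q.y', M.y'_mem Q hy, rfl⟩

theorem y_mem_Et : (y : Cz z) ∈ Et P Q := ⟨y.2, rfl, zC z, P.zC_mem, by rw [← Q.phi_y]; rfl⟩

include hy in
theorem Et_sq {a : Cz z} (ha : a ∈ Et P Q) : a * a = 1 := by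
  obtain ⟨haJ, -, i, hi, ei⟩ := ha
  rcases P.xc.sq a haJ with h | h
  · exact h
  exfalso
  rcases P.xc.sq i hi with h' | h'
  · have e1 : Q.g⁻¹ * ((a * a : Cz z) : G) * Q.g = ((i * i : Cz z) : G) := by
      rw [Subgroup.coe_mul, Subgroup.coe_mul, ei]; group
    rw [h, h'] at e1
    refine P.zC_ne_one (Subtype.ext ?_)
    show z = 1
    calc z = Q.g * (Q.g⁻¹ * ((zC z : Cz z) : G) * Q.g) * Q.g⁻¹ := by
          rw [show ((zC z : Cz z) : G) = z from rfl]; group
      _ = 1 := by rw [e1, Subgroup.coe_one]; group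
  · have e1 : Q.g⁻¹ * ((a * a : Cz z) : G) * Q.g = ((i * i : Cz z) : G) := by
      rw [Subgroup.coe_mul, Subgroup.coe_mul, ei]; group
    rw [h, h'] at e1
    have e2 : Q.y' = zC z := Subtype.ext e1
    have hyne : (y : Cz z) ≠ zC z := fun e => by
      have h := M.vec_z
      rw [← show y = ⟨zC z, P.zC_mem⟩ from Subtype.ext e, hy] at h
      exact absurd h (by decide +kernel)
    exact zC_ne_y' Q hyne e2

include hy in
theorem Et_comm {a b : Cz z} (ha : a ∈ Et P Q) (hb : b ∈ Et P Q) : a * b = b * a := by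
  have h := M.Et_sq Q hy ((Et P Q).mul_mem ha hb)
  calc a * b = a * (a * b * (a * b)) * b := by rw [h, mul_one]
    _ = (a * a) * (b * a) * (b * b) := by group
    _ = b * a := by rw [M.Et_sq Q hy ha, M.Et_sq Q hy hb, one_mul, mul_one]

include hy in
theorem card_Et : 16 ≤ Nat.card (Et P Q) := by
  classical
  let R := P.J ⊓ Subgroup.centralizer ({(y : Cz z)} : Set (Cz z))
  have hr : Nat.card (M.psi Q).range ≤ 16 := by
    refine M.rank_le ?_ ?_
    · rintro x ⟨a, rfl⟩; exact ⟨_, rfl⟩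
    · rintro x ⟨a, rfl⟩
      rw [← map_mul]
      refine (M.psi_one_iff Q _).2 ?_
      show (a : Cz z) * a ∈ Et P Q
      rcases P.xc.sq a a.2.1 with h | h <;> rw [h]
      · exact one_mem _
      · exact M.zC_mem_Et Q hy
  have hk : Nat.card (M.psi Q).ker ≤ Nat.card (Et P Q) :=
    Nat.card_le_card_of_injective (fun a => ⟨_, (M.psi_one_iff Q a.1).1 (MonoidHom.mem_ker.1 a.2)⟩)
      fun a b e => by
        simp only [Subtype.mk.injEq] at e
        exact Subtype.ext (Subtype.ext e)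
  have h := Subgroup.card_mul_index (M.psi Q).ker
  rw [Subgroup.index_ker] at h
  have h256 := card_comm (P := P) (y : Cz z) y.2
  have h3 : Nat.card (M.psi Q).ker * Nat.card (M.psi Q).range ≤ Nat.card (M.psi Q).ker * 16 :=
    Nat.mul_le_mul_left _ hr
  omega

/-- the codes of the vectors of the intersection -/
def WC (y : P.J) (Q : Pair (y : Cz z)) (c : ℕ) : Prop :=
  ∃ a : P.J, (a : Cz z) ∈ Et P Q ∧ vc4 (M.vec a) = c

include hy in
/-- The intersection gives one of the three spaces. -/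
theorem exists_space : ∃ i < 3, (∀ c, M.WC y Q c ↔ c ∈ Fus.spL i) ∧
    ∀ a : P.J, vc4 (M.vec a) ∈ Fus.spL i → (a : Cz z) ∈ Et P Q := by
  classical
  have hx0 : M.WC y Q x₀C := ⟨y, y_mem_Et Q, by rw [hy, x₀_code]⟩
  have h0 : M.WC y Q 0 := ⟨1, one_mem _, by rw [M.vec_one]; decide +kernel⟩
  have hadd : ∀ a b, M.WC y Q a → M.WC y Q b → M.WC y Q (addC a b) := by
    rintro a b ⟨i, hi, rfl⟩ ⟨j, hj, rfl⟩
    exact ⟨i * j, mul_mem hi hj, by rw [M.vec_mul, vc4_add]⟩
  have hlt : ∀ c, M.WC y Q c → c < 256 := by rintro c ⟨a, -, rfl⟩; exact vc4_lt _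
  have hor : ∀ a b, M.WC y Q a → M.WC y Q b → Fus.orB a b = true := by
    rintro a b ⟨i, hi, rfl⟩ ⟨j, hj, rfl⟩
    exact Bf_code.1 ((M.comm_iff i j).1 (M.Et_comm Q hy hi hj))
  have hsing : ∀ c, M.WC y Q c → hC4 c c = 0 := by
    rintro c ⟨a, ha, rfl⟩
    exact hf_zero_iff.1 (M.singular_of_sq (M.Et_sq Q hy ha))
  have hinv : ∀ w, wB w = true → ap (wM w) x₀C = x₀C → ∀ c, M.WC y Q c → M.WC y Q (ap (wM w) c) := by
    rintro w hw hfix c ⟨a, ha, rfl⟩
    obtain ⟨h, -, hyh, he⟩ := M.exists_word_fix w hw y (by rw [hy]; decide +kernel) y (by rw [hy, x₀_code, hfix])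
    obtain ⟨haJ, hay, i, hi, ei⟩ := ha
    have hhy : h * y = (y : Cz z) * h := mul_inv_eq_iff_eq_mul.1 hyh
    refine ⟨⟨h * a * h⁻¹, P.conj_mem h haJ⟩, ⟨P.conj_mem h haJ, ?_, ?_⟩, ?_⟩
    · calc h * (a : Cz z) * h⁻¹ * y = h * ((a : Cz z) * (h⁻¹ * y * h)) * h⁻¹ := by group
        _ = h * ((a : Cz z) * y) * h⁻¹ := by rw [show h⁻¹ * (y : Cz z) * h = y by rw [mul_assoc, ← hhy]; group]
        _ = (h * y) * ((a : Cz z) * h⁻¹) := by rw [hay]; group
        _ = (y : Cz z) * (h * a * h⁻¹) := by rw [hhy]; group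
    · refine ⟨Q.phi h hhy * i * (Q.phi h hhy)⁻¹, P.conj_mem _ hi, ?_⟩
      simp only [Subgroup.coe_mul, Subgroup.coe_inv, Pair.phi_coe, ei]
      group
    · rw [M.vec_conj' h a _ rfl, he]
  have hstab : ∀ w ∈ [Fus.outW, Fus.crossW] ++ Fus.stabW, wB w = true ∧ ap (wM w) x₀C = x₀C := fun w hw => by
    have h := List.all_eq_true.1 Fus.stab_words w hw
    simpa only [Bool.and_eq_true, Nat.beq_eq] using h
  have hgo : ∀ w ∈ [Fus.outW, Fus.crossW] ++ Fus.stabW, ∀ c, M.WC y Q c → M.WC y Q (ap (wM w) c) :=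
    fun w hw => hinv w (hstab w hw).1 (hstab w hw).2
  have hin : ∀ c, M.WC y Q c → ∃ i < 3, c ∈ Fus.spL i := by
    intro c hc
    have h := List.all_eq_true.1 Fus.out_check c (List.mem_range.2 (hlt c hc))
    have hg := hor c _ hc (hgo Fus.outW (by simp) c hc)
    simp only [Bool.or_eq_true, Bool.not_eq_true', List.any_eq_true, List.mem_range, hsing c hc,
      Nat.beq_refl, hor c x₀C hc hx0, hg, Bool.true_eq_false, false_or, or_false, Fus.memN_iff] at h
    exact h
  have hline : ∀ i < 3, ∀ c ∈ Fus.lineX, c ∈ Fus.spL i := fun i hi c hc => by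
    have h := List.all_eq_true.1 Fus.spaces_basic i (List.mem_range.2 hi)
    simp only [Bool.and_eq_true] at h
    exact Fus.memN_iff.1 (List.all_eq_true.1 h.1.2 c hc)
  -- an element off the line
  obtain ⟨u0, hu0, hu0l⟩ : ∃ c, M.WC y Q c ∧ c ∉ Fus.lineX := by
    by_contra hno
    push_neg at hno
    have hsurj : ∀ c : {c // M.WC y Q c}, ∃ a : Et P Q, ∀ h, vc4 (M.vec ⟨(a : Cz z), h⟩) = c.1 := fun c => by
      obtain ⟨a, ha, e⟩ := c.2
      exact ⟨⟨a, ha⟩, fun _ => e⟩
    choose sec hsec using hsurj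
    let code : Et P Q → {c // M.WC y Q c} := fun a => ⟨vc4 (M.vec ⟨a.1, a.2.1⟩), ⟨a.1, a.2.1⟩, a.2, rfl⟩
    let F : Et P Q → Bool × {c // c ∈ Fus.lineX.toFinset} := fun a =>
      (decide (sec (code a) = a), ⟨(code a).1, List.mem_toFinset.2 (hno _ (code a).2)⟩)
    have hinj : Function.Injective F := by
      intro a b e
      simp only [F, Prod.mk.injEq, decide_eq_decide, Subtype.mk.injEq] at e
      obtain ⟨e1, e2⟩ := e
      have ec : code a = code b := Subtype.ext e2
      have key : ∀ x : Et P Q, (x : Cz z) = sec (code x) ∨ (x : Cz z) = zC z * sec (code x) := fun x => by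
        have h1 := hsec (code x) (sec (code x)).2.1
        exact (M.vec_eq_iff ⟨_, (sec (code x)).2.1⟩ ⟨x.1, x.2.1⟩).1 (vc4_inj h1)
      by_cases h : sec (code a) = a
      · exact h.symm.trans ((congrArg sec ec).trans (e1.1 h))
      · have hb : ¬ sec (code b) = b := fun k => h (e1.2 k)
        have ka := (key a).resolve_left fun k => h (Subtype.ext k.symm)
        have kb := (key b).resolve_left fun k => hb (Subtype.ext k.symm)
        exact Subtype.ext (by rw [ka, kb, ec])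
    have := Nat.card_le_card_of_injective F hinj
    rw [Nat.card_prod, Nat.card_eq_fintype_card (α := Bool), Fintype.card_bool,
      Nat.card_eq_fintype_card (α := {c // c ∈ Fus.lineX.toFinset}), Fintype.card_coe] at this
    have h4 : Fus.lineX.toFinset.card = 4 := by decide +kernel
    have := M.card_Et Q hy
    omega
  obtain ⟨i, hi, hiu⟩ := hin u0 hu0
  have hsub : ∀ c, M.WC y Q c → c ∈ Fus.spL i := by
    intro c hc
    obtain ⟨j, hj, hjc⟩ := hin c hc
    by_cases hl : c ∈ Fus.lineX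
    · exact hline i hi c hl
    by_cases hij : i = j
    · exact hij ▸ hjc
    exfalso
    have h := List.all_eq_true.1 (List.all_eq_true.1 Fus.cross_check i (List.mem_range.2 hi)) j
      (List.mem_range.2 hj)
    simp only [Bool.or_eq_true, Nat.beq_eq, hij, false_or] at h
    have h2 := List.all_eq_true.1 h u0 hiu
    simp only [Bool.or_eq_true, Fus.memN_iff, hu0l, false_or] at h2
    have h3 := List.all_eq_true.1 h2 c hjc
    have hg := hgo Fus.crossW (by simp)
    simp only [Bool.or_eq_true, Fus.memN_iff, hl, Bool.not_eq_true', hor u0 c hu0 hc, hor u0 _ hu0 (hg c hc),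
      hor _ _ (hadd _ _ hu0 hc) (hg _ (hadd _ _ hu0 hc)), false_or, Bool.true_eq_false] at h3
  have hsup : ∀ c ∈ Fus.spL i, M.WC y Q c := by
    intro c hc
    have h := List.all_eq_true.1 (List.all_eq_true.1 Fus.span_check i (List.mem_range.2 hi)) u0 hiu
    simp only [Bool.or_eq_true, Fus.memN_iff, hu0l, false_or] at h
    refine Fus.spanL_ind h0 hadd ?_ c (Fus.memN_iff.1 (List.all_eq_true.1 h c hc))
    intro x hx
    simp only [Fus.orbL, List.mem_cons, List.mem_append, List.mem_map, List.mem_flatMap] at hx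
    rcases hx with rfl | rfl | ⟨g, hg, rfl⟩ | ⟨g, hg, g', hg', rfl⟩
    · exact hx0
    · exact hu0
    · exact hgo g (List.mem_append_right _ hg) _ hu0
    · exact hgo g (List.mem_append_right _ hg) _ (hgo g' (List.mem_append_right _ hg') _ hu0)
  refine ⟨i, hi, fun c => ⟨hsub c, hsup c⟩, fun a ha => ?_⟩
  obtain ⟨b, hb, e⟩ := hsup _ ha
  rcases (M.vec_eq_iff b a).1 (vc4_inj e) with h | h <;> rw [h]
  · exact hb
  · exact mul_mem (M.zC_mem_Et Q hy) hb

end Nat4

end CfsgLib.U62Cent
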