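import Cfsg.Agent.Lib.U62Cent.LocalCent

/-!
Piece C: the local data among the neighbours, and the centraliser.
-/

set_option autoImplicit false
set_option linter.unusedSectionVars false

namespace CfsgLib.U62Cent

open CfsgLib.ThreeTransp CfsgLib.KnownB.TypeUSix
open Matrix

universe u

variable {G : Type u} [Group G] [Finite G] {z : G} {P : Hyp z} {M : Nat4 P}

set_option maxHeartbeats 1000000 in
/-- the local data -/
theorem Fused.local (F : Fused M) : Local (conjugatesOf z) z := by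
  classical
  have hpar := fun i : Fin 45 => F.exists_param i.2
  choose φ hφi hφn hφc hφj using hpar
  let f : Fin 45 × K4 → G := fun p => (φ p.1 p.2 : G)
  have hinj : Function.Injective f := by
    rintro ⟨i, a⟩ ⟨l, b⟩ e
    have e' : φ i a = φ l b := Subtype.ext e
    have hil : i = l := Fin.ext (tv_inj i.2 l.2 fun v => by
      rw [← (hφn i a).act, ← (hφn l b).act, e'])
    subst hil
    rw [hφi i e']
  have hnb : nb (conjugatesOf z) z = Set.range f := by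
    ext y
    constructor
    · intro hy
      obtain ⟨i, hi, u, rfl, hu⟩ := F.mem_nb.1 hy
      obtain ⟨a, ha⟩ := hφc ⟨i, hi⟩ u hu
      exact ⟨(⟨i, hi⟩, a), congrArg Subtype.val ha⟩
    · rintro ⟨p, rfl⟩
      exact F.mem_nb.2 ⟨p.1, p.1.2, φ p.1 p.2, rfl, hφn p.1 p.2⟩
  have hcoe : ∀ {u v : Cz z}, Commute (u : G) v ↔ u * v = v * u := fun {u v} =>
    ⟨fun h => Subtype.ext h, fun h => congrArg Subtype.val h⟩
  have hsame : ∀ (i : Fin 45) (a b : K4), φ i a * φ i b = φ i b * φ i a := by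
    intro i a b
    obtain ⟨c, t, ht, hv, -⟩ := IsNb.shift F (hφn i a) (hφn i b) (pv_ne i.2)
    have h0 : hf (M.vec t) (pv i) = 0 := by rw [hv, hf_smul_left, pv_iso i.2, mul_zero]
    have h1 := (IsNb.comm_iff F (hφn i a) (pv_ne i.2) t).2 h0
    rw [ht, (hφn i a).inv_eq] at h1
    calc φ i a * φ i b = φ i a * (φ i b * φ i a) * φ i a := by
          rw [mul_assoc, mul_assoc, (hφn i a).sq_one, mul_one]
      _ = φ i b * φ i a * φ i a * φ i a := by rw [← h1]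
      _ = φ i b * φ i a := by rw [mul_assoc (φ i b * φ i a), (hφn i a).sq_one, mul_one]
  have hcm : ∀ p q : Fin 45 × K4, Commute (f p) (f q) ↔ orB p.1 q.1 = true := by
    rintro ⟨i, a⟩ ⟨l, b⟩
    show Commute (φ i a : G) (φ l b) ↔ _
    rw [hcoe]
    by_cases hil : i = l
    · subst hil
      exact ⟨fun _ => orB_self i.2, fun _ => hsame i a b⟩
    have hne : (i : ℕ) ≠ l := fun e => hil (Fin.ext e)
    refine ⟨fun h => ?_, fun h => IsNb.orth_commute F i.2 l.2 hne h (hφn i a) (hφn l b)⟩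
    by_contra ho
    rw [Bool.not_eq_true] at ho
    exact (IsNb.braid F i.2 l.2 ho (hφn i a) (hφn l b)).2 h
  have htwin : ∀ p q : Fin 45 × K4, Twin (conjugatesOf z) z (f p) (f q) ↔ q.1 = p.1 ∧ q ≠ p := by
    intro p q
    constructor
    · rintro ⟨-, -, hne, hpq, hall⟩
      refine ⟨?_, fun e => hne (by rw [e])⟩
      by_contra hd
      obtain ⟨r, hr, h1, h2⟩ := orB_separate p.1.2 q.1.2 (fun e => hd (Fin.ext e.symm))
      have h3 := hall (f (⟨r, hr⟩, 0)) (hnb ▸ ⟨_, rfl⟩)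
        ((hcm _ _).2 (by rw [orB_symm hr p.1.2]; exact h1))
      rw [hcm, orB_symm hr q.1.2, h2] at h3
      exact Bool.noConfusion h3
    · rintro ⟨e1, e2⟩
      refine ⟨hnb ▸ ⟨p, rfl⟩, hnb ▸ ⟨q, rfl⟩, fun e => e2 (hinj e).symm,
        (hcm p q).2 (by rw [e1]; exact orB_self p.1.2), fun y hy hc => ?_⟩
      obtain ⟨r, rfl⟩ := hnb ▸ hy
      rw [hcm] at hc ⊢
      rwa [e1]
  constructor
  · intro x hx y hy hxy
    obtain ⟨p, rfl⟩ := hnb ▸ hx
    obtain ⟨q, rfl⟩ := hnb ▸ hy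
    rw [hcm, Bool.not_eq_true] at hxy
    exact congrArg Subtype.val (IsNb.braid F p.1.2 q.1.2 hxy (hφn p.1 p.2) (hφn q.1 q.2)).1
  · intro x hx y hy
    obtain ⟨p, rfl⟩ := hnb ▸ hx
    obtain ⟨q, rfl⟩ := hnb ▸ hy
    obtain ⟨g, -, eg⟩ := F.one_class _ (hφn p.1 p.2).conj (hφn p.1 p.2).ne
    obtain ⟨k, -, ek⟩ := F.one_class _ (hφn q.1 q.2).conj (hφn q.1 q.2).ne
    refine ⟨((k * g⁻¹ : Cz z) : G), by rw [comm_z, mul_inv_cancel_right], ?_⟩
    show (((k * g⁻¹) * φ p.1 p.2 * (k * g⁻¹)⁻¹ : Cz z) : G) = (φ q.1 q.2 : G)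
    rw [eg, ek]
    congr 1
    group
  · rw [hnb, Set.ncard_range_of_injective hinj, Nat.card_prod, Nat.card_fin, CfsgLib.Spor.U62.card_K4]
  · intro x hx
    obtain ⟨p, rfl⟩ := hnb ▸ hx
    have e : nb (conjugatesOf z) z ∩ nb (conjugatesOf z) (f p) =
        f '' ((({l : Fin 45 | orB p.1 l = true} : Set (Fin 45)) ×ˢ (Set.univ : Set K4)) \ {p}) := by
      ext y
      constructor
      · rintro ⟨h1, -, hne, hc⟩
        obtain ⟨q, rfl⟩ := hnb ▸ h1
        exact ⟨q, ⟨⟨(hcm p q).1 hc, trivial⟩, fun e => hne (congrArg f e)⟩, rfl⟩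
      · rintro ⟨q, ⟨⟨hq, -⟩, hne⟩, rfl⟩
        exact ⟨hnb ▸ ⟨q, rfl⟩, (hφn q.1 q.2).conj, fun e => hne (hinj e), (hcm p q).2 hq⟩
    have h13 : ({l : Fin 45 | orB p.1 l = true} : Set (Fin 45)).ncard = 13 := by
      have h := List.all_eq_true.1 pt_deg p.1 (List.mem_range.2 p.1.2)
      simp only [Bool.and_eq_true, Nat.beq_eq] at h
      have e' : Fin.val '' ({l : Fin 45 | orB p.1 l = true} : Set (Fin 45)) =
          ((((List.range 45).filter fun l => orB p.1 l).toFinset : Finset ℕ) : Set ℕ) := by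
        ext l
        simp only [Set.mem_image, Set.mem_ofPred_eq, Finset.mem_coe, List.mem_toFinset, List.mem_filter,
          List.mem_range]
        exact ⟨fun ⟨l', h', e⟩ => e ▸ ⟨l'.2, h'⟩, fun ⟨h1, h2⟩ => ⟨⟨l, h1⟩, h2, rfl⟩⟩
      rw [← Set.ncard_image_of_injective _ Fin.val_injective, e', Set.ncard_coe_finset,
        List.toFinset_card_of_nodup (List.nodup_range.filter _), h.1.2]
    rw [e, Set.ncard_image_of_injective _ hinj, Set.ncard_sdiff_singleton_of_mem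
      (show p ∈ ({l : Fin 45 | orB p.1 l = true} : Set (Fin 45)) ×ˢ (Set.univ : Set K4) from
        ⟨orB_self p.1.2, trivial⟩), Set.ncard_prod, h13, Set.ncard_univ, CfsgLib.Spor.U62.card_K4]
  · intro x y h
    obtain ⟨p, rfl⟩ := hnb ▸ h.1
    obtain ⟨q, rfl⟩ := hnb ▸ h.2.1
    obtain ⟨e1, e2⟩ := (htwin p q).1 h
    exact (htwin q p).2 ⟨e1.symm, e2.symm⟩
  · intro x hx
    obtain ⟨p, rfl⟩ := hnb ▸ hx
    have e : {y | Twin (conjugatesOf z) z (f p) y} =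
        f '' ((({p.1} : Set (Fin 45)) ×ˢ (Set.univ : Set K4)) \ {p}) := by
      ext y
      constructor
      · intro h
        obtain ⟨q, rfl⟩ := hnb ▸ h.2.1
        obtain ⟨e1, e2⟩ := (htwin p q).1 h
        exact ⟨q, ⟨⟨e1, trivial⟩, e2⟩, rfl⟩
      · rintro ⟨q, ⟨⟨e1, -⟩, e2⟩, rfl⟩
        exact (htwin p q).2 ⟨e1, e2⟩
    rw [e, Set.ncard_image_of_injective _ hinj, Set.ncard_sdiff_singleton_of_mem
      (show p ∈ ({p.1} : Set (Fin 45)) ×ˢ (Set.univ : Set K4) from ⟨rfl, trivial⟩), Set.ncard_prod,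
      Set.ncard_singleton, Set.ncard_univ, CfsgLib.Spor.U62.card_K4]
  · intro x hx y hy hxy
    obtain ⟨p, rfl⟩ := hnb ▸ hx
    obtain ⟨q, rfl⟩ := hnb ▸ hy
    rw [hcm] at hxy
    have h := List.all_eq_true.1 (List.all_eq_true.1 pt_join p.1 (List.mem_range.2 p.1.2)) q.1
      (List.mem_range.2 q.1.2)
    simp only [Bool.or_eq_true, hxy, Bool.false_eq_true, false_or, List.any_eq_true, Bool.and_eq_true,
      List.mem_range] at h
    obtain ⟨r, hr, h1, h2⟩ := h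
    exact ⟨f (⟨r, hr⟩, 0), hnb ▸ ⟨_, rfl⟩, (hcm _ _).2 h1,
      (hcm _ _).2 h2⟩
  · intro w hw S hS hmem hpair a ha haw
    obtain ⟨w', rfl⟩ := hnb ▸ hw
    obtain ⟨a', rfl⟩ := hnb ▸ ha
    rw [hcm] at haw
    obtain ⟨x₁, x₂, x₃, x₄, h12, h13, h14, h23, h24, h34, rfl⟩ := Finset.card_eq_four.1 hS
    have hsrc : ∀ p ∈ ({x₁, x₂, x₃, x₄} : Finset G), ∃ p' : Fin 45 × K4, f p' = p ∧
        orB p'.1 w'.1 = true ∧ p'.1 ≠ w'.1 := by
      intro p hp
      obtain ⟨h1, h2, h3, h4⟩ := hmem p hp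
      obtain ⟨p', rfl⟩ := hnb ▸ h1
      refine ⟨p', rfl, (hcm _ _).1 h2, fun e => h4 ((htwin w' p').2 ⟨e, fun e' => h3 (by rw [e'])⟩)⟩
    have hdis : ∀ p q : Fin 45 × K4, f p ∈ ({x₁, x₂, x₃, x₄} : Finset G) →
        f q ∈ ({x₁, x₂, x₃, x₄} : Finset G) → f p ≠ f q →
        p.1 ≠ q.1 ∧ orB p.1 q.1 = true := by
      intro p q hp hq hne
      obtain ⟨h1, h2⟩ := hpair _ hp _ hq hne
      exact ⟨fun e => h2 ((htwin p q).2 ⟨e.symm, fun e' => hne (by rw [e'])⟩), (hcm p q).1 h1⟩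
    obtain ⟨p, rfl, hp1, hp2⟩ := hsrc x₁ (by simp)
    obtain ⟨q, rfl, hq1, hq2⟩ := hsrc x₂ (by simp)
    obtain ⟨r, rfl, hr1, hr2⟩ := hsrc x₃ (by simp)
    obtain ⟨s, rfl, hs1, hs2⟩ := hsrc x₄ (by simp)
    obtain ⟨npq, apq⟩ := hdis p q (by simp) (by simp) h12
    obtain ⟨npr, apr⟩ := hdis p r (by simp) (by simp) h13
    obtain ⟨nps, aps⟩ := hdis p s (by simp) (by simp) h14
    obtain ⟨nqr, aqr⟩ := hdis q r (by simp) (by simp) h23
    obtain ⟨nqs, aqs⟩ := hdis q s (by simp) (by simp) h24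
    obtain ⟨nrs, ars⟩ := hdis r s (by simp) (by simp) h34
    have hne' : ∀ {i j : Fin 45}, i ≠ j → Nat.beq (i : ℕ) (j : ℕ) = false := fun hij => by
      rw [← Bool.not_eq_true, Nat.beq_eq]; exact fun e => hij (Fin.ext e)
    have hL : ∀ t : Fin 45 × K4, orB t.1 w'.1 = true → t.1 ≠ w'.1 →
        (t.1 : ℕ) ∈ (List.range 45).filter fun p => orB p w'.1 && !Nat.beq p w'.1 := fun t ht1 ht2 =>
      List.mem_filter.2 ⟨List.mem_range.2 t.1.2, by rw [ht1, hne' ht2]; rfl⟩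
    have hL2 : ∀ t : Fin 45 × K4, orB t.1 w'.1 = true → t.1 ≠ w'.1 → orB p.1 t.1 = true → p.1 ≠ t.1 →
        (t.1 : ℕ) ∈ ((List.range 45).filter fun p => orB p w'.1 && !Nat.beq p w'.1).filter fun q =>
          orB p.1 q && !Nat.beq (p.1 : ℕ) q := fun t ht1 ht2 ht3 ht4 =>
      List.mem_filter.2 ⟨hL t ht1 ht2, by rw [ht3, hne' ht4]; rfl⟩
    have h := List.all_eq_true.1 pt_meet w'.1 (List.mem_range.2 w'.1.2)
    rw [meetB4] at h
    have h2 := List.all_eq_true.1 (List.all_eq_true.1 (List.all_eq_true.1 h _ (hL p hp1 hp2)) _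
      (hL2 q hq1 hq2 apq npq)) _ (hL2 r hr1 hr2 apr npr)
    simp only [hne' nqr.symm, aqr, Bool.false_or, Bool.not_true, Bool.or_false] at h2
    have h3 := List.all_eq_true.1 h2 _ (hL2 s hs1 hs2 aps nps)
    simp only [hne' nqs.symm, hne' nrs.symm, aqs, ars, Bool.false_or, Bool.not_true, Bool.or_false] at h3
    have h4 := List.all_eq_true.1 h3 a'.1 (List.mem_range.2 a'.1.2)
    simp only [Bool.or_eq_true, haw, Bool.false_eq_true, false_or] at h4
    rcases h4 with ((h4 | h4) | h4) | h4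
    · exact ⟨f p, by simp, (hcm _ _).2 h4⟩
    · exact ⟨f q, by simp, (hcm _ _).2 h4⟩
    · exact ⟨f r, by simp, (hcm _ _).2 h4⟩
    · exact ⟨f s, by simp, (hcm _ _).2 h4⟩
  · intro x y h hD
    obtain ⟨⟨i, a⟩, rfl⟩ := hnb ▸ h.1
    obtain ⟨⟨l, b⟩, rfl⟩ := hnb ▸ h.2.1
    obtain ⟨e1, e2⟩ := (htwin (i, a) (l, b)).1 h
    obtain rfl : l = i := e1
    set u : Cz z := zC z * φ l a * φ l b with hu
    have hue : (u : G) = z * f (l, a) * f (l, b) := rfl
    have hne : (u : G) ≠ z := by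
      rw [hue, mul_assoc]
      intro e
      apply e2
      have e' : φ l a * φ l b = 1 := Subtype.ext (mul_eq_left.1 e)
      refine Prod.ext rfl (hφi l ?_)
      rw [← (hφn l a).inv_eq]
      exact (inv_eq_of_mul_eq_one_right e').symm
    obtain ⟨m, hm, hn⟩ := F.cover (y := u) (hue ▸ hD) hne
    obtain ⟨v, hv⟩ := exists_hf hm 1
    have h1 := hn.act v
    rw [hu, M.act_mul, M.act_mul, M.act_J P.zC_mem, (hφn l a).act, ← (hφn l b).act, ← M.act_mul,
      (hφn l b).sq_one, map_one] at h1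
    exact zero_ne_one (((tv_eq_self_iff (pv_ne hm)).1 h1.symm).symm.trans hv)

/-- piece C -/
theorem localStmt : LocalStmt.{u} := fun _ _ F hH => ⟨F.local, F.cent hH⟩

end CfsgLib.U62Cent
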