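import Cfsg.Agent.Lib.U62Cent.LocalPts
import Cfsg.Agent.Lib.U62Cent.Targets
import Cfsg.Agent.Lib.Classical.UnitarySU
import Cfsg.Agent.Lib.Classical.UnitarySimple
import Cfsg.Agent.Lib.Base.Cores

/-!
The centraliser itself, when it has no outer part: order, generation by the neighbours, cores.
-/

set_option autoImplicit false
set_option linter.unusedSectionVars false
set_option linter.style.haveILetI false

namespace CfsgLib.U62Cent

open CfsgLib.ThreeTransp CfsgLib.KnownB.TypeUSix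
open Matrix
open scoped commutatorElement

universe u

variable {G : Type u} [Group G] [Finite G] {z : G}

theorem card_K4_two : Nat.card K4 = 2 ^ 2 := by
  rw [CfsgLib.Spor.U62.card_K4]; norm_num

theorem card_psu_K4 : Nat.card (Cfsg.PSU 4 K4 2) = 25920 := by
  have h1 := CfsgLib.Classical.card_PSU_mul (n := 4) card_K4_two (by norm_num)
  rw [CfsgLib.Classical.card_GU card_K4_two 4] at h1
  simp only [Finset.prod_range_succ, Finset.prod_range_zero] at h1
  norm_num at h1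
  omega

theorem card_centralizer (P : Hyp z) (hH : P.H₁ = ⊤) :
    Nat.card (Cz z) = 2 ^ 9 * 25920 := by
  obtain ⟨e⟩ := P.iso
  have h1 := Subgroup.card_eq_card_quotient_mul_card_subgroup (P.J.subgroupOf P.H₁)
  rw [Nat.card_congr e.toEquiv, card_psu_K4, Nat.card_congr (Subgroup.subgroupOfEquivOfLe P.le).toEquiv,
    P.card_J] at h1
  have h2 : Nat.card P.H₁ = Nat.card (Cz z) := by rw [hH, Subgroup.card_top]
  rw [← h2, h1, mul_comm]

namespace Fused

variable {P : Hyp z} {M : Nat4 P} (F : Fused M)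

/-- the members of the centraliser conjugate to `z`, other than `z` -/
def nbSet (z : G) : Set (Cz z) := {y | IsConj z (y : G) ∧ (y : G) ≠ z}

theorem nbSet_conj (h : Cz z) {y : Cz z} (hy : y ∈ nbSet z) : h * y * h⁻¹ ∈ nbSet z := by
  have e : ((h * y * h⁻¹ : Cz z) : G) = (h : G) * y * (h : G)⁻¹ := rfl
  refine ⟨hy.1.trans (isConj_iff.2 ⟨h, e.symm⟩), fun k => hy.2 ?_⟩
  rw [e] at k
  calc (y : G) = (h : G)⁻¹ * ((h : G) * y * (h : G)⁻¹) * h := by group
    _ = z := by rw [k, mul_assoc, ← comm_z h, ← mul_assoc, inv_mul_cancel, one_mul]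

theorem closure_normal : (Subgroup.closure (nbSet z)).Normal := by
  refine ⟨fun x hx g => ?_⟩
  induction hx using Subgroup.closure_induction with
  | mem y hy => exact Subgroup.subset_closure (nbSet_conj g hy)
  | one => simp
  | mul a b _ _ ha hb =>
    rw [show g * (a * b) * g⁻¹ = (g * a * g⁻¹) * (g * b * g⁻¹) by group]
    exact mul_mem ha hb
  | inv a _ ha =>
    rw [show g * a⁻¹ * g⁻¹ = (g * a * g⁻¹)⁻¹ by group]
    exact inv_mem ha

include F

theorem w_not_mem_J : F.w ∉ P.J := fun h => by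
  obtain ⟨v, hv⟩ := exists_hf (i := 0) (by norm_num) 1
  rw [pv_zero, (tv_eq_self_iff x₀_ne).1 (by rw [← F.w_act, M.act_J h])] at hv
  exact zero_ne_one hv

theorem J_le_closure : P.J ≤ Subgroup.closure (nbSet z) := by
  haveI := closure_normal (G := G) (z := z)
  set N := Subgroup.closure (nbSet z) with hN
  have hw : F.w ∈ N := Subgroup.subset_closure ⟨F.w_conj, F.w_ne⟩
  let S : Set V4 := {v | ∃ a : P.J, (a : Cz z) ∈ N ∧ M.vec a = v}
  have hadd : ∀ u ∈ S, ∀ v ∈ S, u + v ∈ S := by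
    rintro _ ⟨a, ha, rfl⟩ _ ⟨b, hb, rfl⟩
    exact ⟨a * b, N.mul_mem ha hb, M.vec_mul a b⟩
  have hx : ∀ c : K4, c • x₀ ∈ S := fun c => by
    obtain ⟨v, hv⟩ := exists_hf (i := 0) (by norm_num) c
    rw [pv_zero] at hv
    obtain ⟨a, rfl⟩ := M.vec_surj v
    refine ⟨a * ⟨F.w * (a : Cz z)⁻¹ * F.w⁻¹, P.conj_mem _ (inv_mem a.2)⟩, ?_, ?_⟩
    · show (a : Cz z) * (F.w * (a : Cz z)⁻¹ * F.w⁻¹) ∈ N
      rw [← mul_assoc, ← mul_assoc]
      exact N.mul_mem (closure_normal.conj_mem _ hw a) (N.inv_mem hw)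
    · rw [M.vec_mul, M.vec_conj_eq F.w (inv_mem a.2),
        show M.vec ⟨(a : Cz z)⁻¹, inv_mem a.2⟩ = M.vec a from M.vec_inv a, F.w_act, tv, hv, ← add_assoc,
        Nat4.two_V4, zero_add]
  have hmove : ∀ h : Cz z, ∀ v ∈ S, M.act h v ∈ S := by
    rintro h _ ⟨a, ha, rfl⟩
    exact ⟨⟨h * a * h⁻¹, P.conj_mem h a.2⟩, closure_normal.conj_mem _ ha h, M.vec_conj_eq h a.2⟩
  have hiso : ∀ v, hf v v = 0 → v ∈ S := by
    intro v hv
    by_cases h0 : v = 0
    · rw [h0]; exact ⟨1, N.one_mem, M.vec_one⟩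
    obtain ⟨i, hi, c, -, rfl⟩ := exists_pt hv h0
    obtain ⟨y, hy⟩ := F.exists_nb hi
    obtain ⟨h, hh, rfl⟩ := F.one_class y hy.conj hy.ne
    have hnb := F.isNb_w.conj_act hh
    have h0' : hf (M.act h x₀) (M.act h x₀) = 0 := by
      rw [M.act_norm, ← pv_zero]; exact pv_iso (by norm_num)
    have hne0 : M.act h x₀ ≠ 0 := fun e => x₀_ne (by rw [← M.act_inv_act h x₀, e, map_zero])
    obtain ⟨l, hl, d, hd, e⟩ := exists_pt h0' hne0
    have hil : i = l := tv_inj hi hl fun u => by rw [← hy.act, hnb.act, e, tv_smul hd]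
    subst hil
    obtain ⟨g, hg, -⟩ := M.existsUnique_lin hh
    have e' : c • pv i = M.act h ((c * d⁻¹) • x₀) := by
      rw [hg, Matrix.mulVec_smul, ← hg, e, smul_smul, mul_assoc, inv_mul_cancel₀ hd, mul_one]
    rw [e']
    exact hmove h _ (hx _)
  have hall : ∀ v, v ∈ S := fun v => by
    obtain ⟨a, b, ha, hb, rfl⟩ := exists_two_iso v
    exact hadd _ (hiso a ha) _ (hiso b hb)
  have hzN : zC z ∈ N := by
    let c : K4 := ⟨0, 1⟩
    obtain ⟨a, ha, ea⟩ := hall (Pi.single 0 1)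
    obtain ⟨b, -, eb⟩ := hall (Pi.single 0 c)
    have hne : ¬ (hf (M.vec a) (M.vec b)).im = 0 := by
      rw [ea, eb]
      decide +kernel
    have e := M.conj_J a b
    rw [if_neg hne, Subgroup.coe_inv] at e
    have hm := closure_normal.conj_mem _ ha ((b : Cz z))⁻¹
    rw [inv_inv, e] at hm
    have := N.mul_mem hm (N.inv_mem ha)
    rwa [mul_inv_cancel_right] at this
  intro a ha
  obtain ⟨a', ha', e⟩ := hall (M.vec ⟨a, ha⟩)
  rcases (M.vec_eq_iff a' ⟨a, ha⟩).1 e with h | h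
  · rw [show a = (a' : Cz z) from h]; exact ha'
  · rw [show a = zC z * (a' : Cz z) from h]; exact N.mul_mem hzN ha'

theorem closure_nb (hH : P.H₁ = ⊤) :
    Subgroup.closure (nb (conjugatesOf z) z) = Subgroup.centralizer ({z} : Set G) := by
  haveI := closure_normal (G := G) (z := z)
  have himg : nb (conjugatesOf z) z = (Subgroup.centralizer ({z} : Set G)).subtype '' nbSet z := by
    ext y
    constructor
    · rintro ⟨h1, h2, h3⟩
      exact ⟨⟨y, Subgroup.mem_centralizer_singleton_iff.2 h3.eq.symm⟩, ⟨h1, h2⟩, rfl⟩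
    · rintro ⟨u, ⟨h1, h2⟩, rfl⟩
      exact ⟨h1, h2, (comm_z u).symm⟩
  set N := Subgroup.closure (nbSet z) with hN
  suffices hT : N = ⊤ by
    rw [himg, ← MonoidHom.map_closure, ← hN, hT, ← MonoidHom.range_eq_map, Subgroup.range_subtype]
  obtain ⟨e⟩ := P.iso
  haveI : IsSimpleGroup (↥P.H₁ ⧸ P.J.subgroupOf P.H₁) := e.isSimpleGroup_congr.2
    (CfsgLib.Classical.Unitary.isSimpleGroup_PSU card_K4_two (by norm_num) (by norm_num))
  set π := QuotientGroup.mk' (P.J.subgroupOf P.H₁)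
  set I := (N.subgroupOf P.H₁).map π
  have hI : I.Normal := (closure_normal.subgroupOf P.H₁).map π (QuotientGroup.mk'_surjective _)
  have hIne : I ≠ ⊥ := fun hb => F.w_not_mem_J <| by
    have hm : π ⟨F.w, F.w_inner⟩ ∈ I :=
      ⟨⟨F.w, F.w_inner⟩, Subgroup.subset_closure ⟨F.w_conj, F.w_ne⟩, rfl⟩
    rw [hb, Subgroup.mem_bot] at hm
    exact (QuotientGroup.eq_one_iff (N := P.J.subgroupOf P.H₁) _).1 hm
  have hItop : I = ⊤ := hI.eq_bot_or_eq_top.resolve_left hIne
  rw [eq_top_iff]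
  intro h _
  have hh : h ∈ P.H₁ := hH ▸ Subgroup.mem_top h
  obtain ⟨n, hn, hne⟩ := (hItop ▸ Subgroup.mem_top (π ⟨h, hh⟩) : π ⟨h, hh⟩ ∈ I)
  have hj : ((n : Cz z)⁻¹ * h) ∈ P.J :=
    (QuotientGroup.eq (s := P.J.subgroupOf P.H₁) (a := n) (b := ⟨h, hh⟩)).1 hne
  have := N.mul_mem (show (n : Cz z) ∈ N from hn) (F.J_le_closure hj)
  rwa [mul_inv_cancel_left] at this

theorem cent (hH : P.H₁ = ⊤) : Cent (conjugatesOf z) z := by
  classical
  have hC := P.xc
  have hncentral : ∀ a ∈ P.J, a ≠ 1 → a ≠ zC z → ∃ b ∈ P.J, b * a * b⁻¹ = zC z * a := by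
    intro a ha h1 hz
    by_contra hno
    push Not at hno
    rcases hC.center a ha fun q hq => mul_inv_eq_iff_eq_mul.1
      ((hC.commEl q hq a ha).resolve_right (hno q hq)) with h' | h'
    exacts [h1 h', hz h']
  obtain ⟨a₀, ha₀, hna₀⟩ : ∃ a ∈ P.J, a ≠ 1 ∧ a ≠ zC z := by
    obtain ⟨a, ha⟩ := M.vec_surj x₀
    exact ⟨a, a.2, fun e => x₀_ne (by rw [← ha, show a = 1 from Subtype.ext e, M.vec_one]),
      fun e => x₀_ne (by rw [← ha, show a = ⟨zC z, P.zC_mem⟩ from Subtype.ext e, M.vec_z])⟩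
  have hnorm : ∀ (N : Subgroup G),
      (∀ g : G, Commute g z → ∀ x ∈ N, g * x * g⁻¹ ∈ N) →
      (N.subgroupOf (Subgroup.centralizer ({z} : Set G))).Normal := fun N hN =>
    ⟨fun x hx g => hN g (comm_z g) x hx⟩
  have hdisj : ∀ (N : Subgroup (Cz z)), N.Normal → N ⊓ P.J = ⊥ → N = ⊥ := fun N hN hd => by
    rw [eq_bot_iff, ← hd]
    exact le_inf le_rfl fun x hx => hC.cent (Subgroup.mem_centralizer_iff.2 fun q hq =>
      (Subgroup.commute_of_normal_of_disjoint N P.J hN P.normJ (disjoint_iff.2 hd) x q hx hq).eq.symm)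
  have hback : ∀ (N : Subgroup G), N ≤ Subgroup.centralizer ({z} : Set G) →
      N.subgroupOf (Subgroup.centralizer ({z} : Set G)) = ⊥ → N = ⊥ := fun N hle hb => by
    rw [eq_bot_iff]
    intro x hx
    have : (⟨x, hle hx⟩ : Cz z) ∈ N.subgroupOf (Subgroup.centralizer ({z} : Set G)) := hx
    rw [hb, Subgroup.mem_bot] at this
    exact Subgroup.mem_bot.2 (congrArg Subtype.val this)
  refine ⟨card_centralizer P hH, P.odd_index, F.closure_nb hH, ?_, ?_, ?_, ?_⟩
  · rw [F.closure_nb hH]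
    intro hle
    obtain ⟨b, -, e⟩ := hncentral a₀ ha₀ hna₀.1 hna₀.2
    have hcen := hle (CfsgLib.Base.le_pCore (IsPGroup.of_card P.card_J) ha₀)
    rw [Subgroup.mem_center_iff] at hcen
    rw [hcen b, mul_inv_cancel_right] at e
    exact P.zC_ne_one (mul_eq_right.1 e.symm)
  · intro N hle hN hodd
    refine hback N hle (hdisj _ (hnorm N hN) ?_)
    refine disjoint_iff.1 (Subgroup.disjoint_of_coprime_natCard ?_)
    rw [Nat.card_congr (Subgroup.subgroupOfEquivOfLe hle).toEquiv, P.card_J]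
    exact (Nat.coprime_two_right.2 hodd).pow_right 9
  · intro N hle hN _ hne
    set N' := N.subgroupOf (Subgroup.centralizer ({z} : Set G)) with hN'
    have h1 : N' ⊓ P.J ≠ ⊥ := fun hb => hne (hback N hle (hdisj _ (hnorm N hN) hb))
    obtain ⟨⟨a, haN, haJ⟩, ha1⟩ : ∃ a : ↥(N' ⊓ P.J), a ≠ 1 := by
      by_contra hcon
      push Not at hcon
      exact h1 (eq_bot_iff.2 fun x hx => Subgroup.mem_bot.2 (congrArg Subtype.val (hcon ⟨x, hx⟩)))
    by_cases hz : a = zC z
    · exact (hz ▸ haN : zC z ∈ N')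
    · obtain ⟨b, -, e⟩ := hncentral a haJ (fun e => ha1 (Subtype.ext e)) hz
      have := N'.mul_mem ((hnorm N hN).conj_mem a haN b) (N'.inv_mem haN)
      rw [e, mul_inv_cancel_right] at this
      exact this
  · obtain ⟨b, -, e⟩ := hncentral a₀ ha₀ hna₀.1 hna₀.2
    have h : ⁅(b : G), (a₀ : G)⁆ = z := by
      rw [commutatorElement_def]
      have e' := congrArg Subtype.val e
      simp only [Subgroup.coe_mul, Subgroup.coe_inv] at e'
      rw [e']
      show z * (a₀ : G) * (a₀ : G)⁻¹ = z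
      exact mul_inv_cancel_right _ _
    rw [← h, _root_.commutator_def]
    exact Subgroup.commutator_mem_commutator (Subgroup.mem_top _) (Subgroup.mem_top _)

end Fused

end CfsgLib.U62Cent
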