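import Cfsg.Agent.Lib.U62Cent.Code2

/-!
The forty-five isotropic points of the natural module of `U₄(2)`: kernel checks and their meaning.
-/

set_option autoImplicit false
set_option maxRecDepth 100000

namespace CfsgLib.U62Cent

open CfsgLib.Spor.U62 (kOf kCode kOf_code kCode_lt)
open Matrix

/-- the codes of the normalised isotropic vectors -/
def ptL : List ℕ :=
  [5, 9, 13, 17, 20, 33, 36, 49, 52, 65, 68, 80, 85, 89, 93, 101, 105, 109, 117, 121, 125, 129, 132,
    144, 149, 153, 157, 165, 169, 173, 181, 185, 189, 193, 196, 208, 213, 217, 221, 229, 233, 237,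
    245, 249, 253]

/-- the code of a point -/
def ptC (i : ℕ) : ℕ := ptL.getD i 0

/-- a vector on a point -/
def pv (i : ℕ) : V4 := vo4 (ptC i)

/-- orthogonality of points -/
def orB (i l : ℕ) : Bool := Nat.beq (hC4 (ptC i) (ptC l)) 0

theorem pt_ok : ((List.range 45).all fun i => Nat.blt (ptC i) 256 && Nat.beq (hC4 (ptC i) (ptC i)) 0 &&
    !Nat.beq (ptC i) 0 &&
    (List.range 45).all fun l => Nat.beq i l ||
      ((List.range 256).any fun a => Nat.beq (hC4 a (ptC i)) 1 && Nat.beq (hC4 a (ptC l)) 0) &&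
      !Nat.beq (tM (ptC i)) (tM (ptC l))) = true := by
  decide +kernel

theorem pt_cover : ((List.range 256).all fun c => Nat.beq c 0 || !Nat.beq (hC4 c c) 0 ||
    (List.range 45).any fun i => [1, 2, 3].any fun k => Nat.beq c (smC4 k (ptC i))) = true := by
  decide +kernel

theorem pt_one : ((List.range 45).all fun i =>
    (List.range 256).any fun a => Nat.beq (hC4 a (ptC i)) 1) = true := by
  decide +kernel

theorem pt_pairs : ((List.range 45).all fun i => (List.range 45).all fun l =>
    if orB i l then Nat.beq (mulM (tM (ptC i)) (tM (ptC l))) (mulM (tM (ptC l)) (tM (ptC i)))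
    else !Nat.beq (mulM (tM (ptC i)) (tM (ptC l))) (mulM (tM (ptC l)) (tM (ptC i))) &&
      Nat.beq (mulM (mulM (tM (ptC i)) (tM (ptC l))) (tM (ptC i)))
        (mulM (mulM (tM (ptC l)) (tM (ptC i))) (tM (ptC l)))) = true := by
  decide +kernel

theorem pt_deg : ((List.range 45).all fun i => orB i i &&
    Nat.beq ((List.range 45).filter fun l => orB i l).length 13 &&
    (List.range 45).all fun l => orB i l == orB l i && (Nat.beq i l ||
      (List.range 45).any fun p => orB i p && !orB l p)) = true := by decide +kernel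

theorem pt_join : ((List.range 45).all fun i => (List.range 45).all fun l => orB i l ||
    ((List.range 45).any fun p => orB p i && orB p l)) = true := by decide +kernel

theorem pt_step : ((List.range 45).all fun i =>
    (List.range 45).any fun p => !orB 0 p && !orB p i) = true := by decide +kernel

/-- four pairwise orthogonal points next to a point exhaust a line -/
def meetB4 (w : ℕ) : Bool :=
  (((List.range 45).filter fun p => orB p w && !Nat.beq p w)).all fun p =>
  (((List.range 45).filter fun p => orB p w && !Nat.beq p w).filter fun q => orB p q && !Nat.beq p q).all fun q =>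
  (((List.range 45).filter fun p => orB p w && !Nat.beq p w).filter fun q => orB p q && !Nat.beq p q).all fun r =>
    Nat.beq r q || !orB q r ||
  ((((List.range 45).filter fun p => orB p w && !Nat.beq p w).filter fun q => orB p q && !Nat.beq p q).all fun s =>
    Nat.beq s q || Nat.beq s r || !orB q s || !orB r s ||
    (List.range 45).all fun a => orB a w || orB a p || orB a q || orB a r || orB a s)

theorem pt_meet : ((List.range 45).all meetB4) = true := by decide +kernel

theorem pt_span : ((List.range 256).all fun c => (List.range 256).any fun a =>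
    Nat.beq (hC4 a a) 0 && Nat.beq (hC4 (addC c a) (addC c a)) 0) = true := by
  decide +kernel

theorem pv_code {i : ℕ} (hi : i < 45) : vc4 (pv i) = ptC i := by
  have h := List.all_eq_true.1 pt_ok i (List.mem_range.2 hi)
  simp only [Bool.and_eq_true, Nat.blt_eq] at h
  exact vc4_vo4 _ h.1.1.1

theorem pv_zero : pv 0 = x₀ := vc4_inj (by rw [pv_code (by norm_num), x₀_code]; rfl)

theorem pv_ne {i : ℕ} (hi : i < 45) : pv i ≠ 0 := fun e => by
  have h := List.all_eq_true.1 pt_ok i (List.mem_range.2 hi)
  simp only [Bool.and_eq_true, Bool.not_eq_true', ← Bool.not_eq_true, Nat.beq_eq] at h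
  refine h.1.2 ?_
  rw [← pv_code hi, e]
  decide +kernel

theorem pv_iso {i : ℕ} (hi : i < 45) : hf (pv i) (pv i) = 0 := by
  have h := List.all_eq_true.1 pt_ok i (List.mem_range.2 hi)
  simp only [Bool.and_eq_true, Nat.beq_eq] at h
  rw [hf_zero_iff, pv_code hi]
  exact h.1.1.2

theorem hf_pv {i l : ℕ} (hi : i < 45) (hl : l < 45) : hf (pv i) (pv l) = 0 ↔ orB i l = true := by
  rw [hf_zero_iff, pv_code hi, pv_code hl, orB, Nat.beq_eq]

/-- a vector with given values at two different points -/
theorem exists_hf_pair {i l : ℕ} (hi : i < 45) (hl : l < 45) (hne : i ≠ l) (a b : K4) :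
    ∃ v : V4, hf v (pv i) = a ∧ hf v (pv l) = b := by
  have key : ∀ {i l : ℕ}, i < 45 → l < 45 → i ≠ l → ∃ v : V4, hf v (pv i) = 1 ∧ hf v (pv l) = 0 := by
    intro i l hi hl hne
    have h := List.all_eq_true.1 pt_ok i (List.mem_range.2 hi)
    simp only [Bool.and_eq_true, List.all_eq_true] at h
    have h2 := h.2 l (List.mem_range.2 hl)
    simp only [Bool.or_eq_true, Nat.beq_eq, hne, false_or, Bool.and_eq_true, List.any_eq_true] at h2
    obtain ⟨c, hc, h1, h0⟩ := h2.1
    refine ⟨vo4 c, ?_, ?_⟩
    · have e : kOf 1 = (1 : K4) := by decide +kernel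
      rw [← e, hf_eq_iff (by norm_num), vc4_vo4 c (List.mem_range.1 hc), pv_code hi]
      exact h1
    · rw [hf_zero_iff, vc4_vo4 c (List.mem_range.1 hc), pv_code hl]
      exact h0
  obtain ⟨u, hu1, hu0⟩ := key hi hl hne
  obtain ⟨v, hv1, hv0⟩ := key hl hi (Ne.symm hne)
  exact ⟨a • u + b • v, by rw [hf_add_left, hf_smul_left, hf_smul_left, hu1, hv0]; ring,
    by rw [hf_add_left, hf_smul_left, hf_smul_left, hu0, hv1]; ring⟩

theorem exists_hf {i : ℕ} (hi : i < 45) (a : K4) : ∃ v : V4, hf v (pv i) = a := by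
  have h := List.all_eq_true.1 pt_one i (List.mem_range.2 hi)
  simp only [List.any_eq_true, Nat.beq_eq] at h
  obtain ⟨c, hc, h1⟩ := h
  refine ⟨a • vo4 c, ?_⟩
  have e : kOf 1 = (1 : K4) := by decide +kernel
  have e1 : hf (vo4 c) (pv i) = 1 := by
    rw [← e, hf_eq_iff (by norm_num), vc4_vo4 c (List.mem_range.1 hc), pv_code hi]
    exact h1
  rw [hf_smul_left, e1, mul_one]

theorem tv_smul {c : K4} (hc : c ≠ 0) (x v : V4) : tv (c • x) v = tv x v := by
  have h3 : ∀ a < 4, kOf a = 0 ∨ kOf a ^ 3 = 1 := by decide +kernel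
  have e : c ^ 3 = 1 := by
    rcases h3 _ (kCode_lt c) with h | h <;> rw [kOf_code] at h
    · exact absurd h hc
    · exact h
  rw [tv, tv, hf_smul_right, smul_smul]
  congr 2
  linear_combination hf v x * e

/-- an isotropic vector has the transvection of a point -/
theorem exists_pt {x : V4} (hx : hf x x = 0) (hx0 : x ≠ 0) :
    ∃ i < 45, ∃ c : K4, c ≠ 0 ∧ x = c • pv i := by
  have h := List.all_eq_true.1 pt_cover (vc4 x) (List.mem_range.2 (vc4_lt x))
  simp only [Bool.or_eq_true, Nat.beq_eq, Bool.not_eq_true', ← Bool.not_eq_true, List.any_eq_true] at h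
  rcases h with (h | h) | ⟨i, hi, k, hk, h⟩
  · exact absurd (vc4_inj (h.trans (by decide +kernel : (0 : ℕ) = vc4 0))) hx0
  · exact absurd (hf_zero_iff.1 hx) h
  · have hi := List.mem_range.1 hi
    have hk4 : k < 4 ∧ kCode (kOf k) = k := by
      simp only [List.mem_cons, List.not_mem_nil, or_false] at hk
      rcases hk with rfl | rfl | rfl <;> exact ⟨by norm_num, by decide +kernel⟩
    have e : x = kOf k • pv i := vc4_inj (by rw [vc4_smul, hk4.2, pv_code hi, h])
    exact ⟨i, hi, kOf k, fun e0 => hx0 (by rw [e, e0, zero_smul]), e⟩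

/-- the transvection of a point -/
noncomputable def tP {i : ℕ} (hi : i < 45) : U4 := tvU (pv i) (pv_iso hi)

theorem cd4_tP {i : ℕ} (hi : i < 45) : cd4 (tP hi) = tM (ptC i) := by
  rw [tP, cd4_tvU, pv_code hi]

theorem tP_inj {i l : ℕ} (hi : i < 45) (hl : l < 45) (h : tP hi = tP hl) : i = l := by
  have h0 := List.all_eq_true.1 pt_ok i (List.mem_range.2 hi)
  simp only [Bool.and_eq_true, List.all_eq_true] at h0
  have h2 := h0.2 l (List.mem_range.2 hl)
  by_contra hne
  simp only [Bool.or_eq_true, Nat.beq_eq, hne, false_or, Bool.and_eq_true, Bool.not_eq_true',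
    ← Bool.not_eq_true] at h2
  exact h2.2 (by rw [← cd4_tP hi, ← cd4_tP hl, h])

theorem tv_inj {i l : ℕ} (hi : i < 45) (hl : l < 45) (h : ∀ v, tv (pv i) v = tv (pv l) v) : i = l :=
  tP_inj hi hl (mat4_ext fun v => by rw [tP, tP, mat4_tvU, mat4_tvU, h])

theorem tP_pair {i l : ℕ} (hi : i < 45) (hl : l < 45) :
    (orB i l = true → tP hi * tP hl = tP hl * tP hi) ∧
      (orB i l = false → tP hi * tP hl ≠ tP hl * tP hi ∧
        tP hi * tP hl * tP hi = tP hl * tP hi * tP hl) := by
  have h := List.all_eq_true.1 (List.all_eq_true.1 pt_pairs i (List.mem_range.2 hi)) l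
    (List.mem_range.2 hl)
  constructor <;> intro ho <;>
    simp only [ho, if_true, Bool.false_eq_true, if_false, Bool.and_eq_true, Bool.not_eq_true',
      ← Bool.not_eq_true, Nat.beq_eq] at h
  · exact cd4_injective (by rw [cd4_mul, cd4_mul, cd4_tP, cd4_tP]; exact h)
  · refine ⟨fun e => h.1 ?_, cd4_injective ?_⟩
    · rw [← cd4_tP hi, ← cd4_tP hl, ← cd4_mul, ← cd4_mul, e]
    · rw [cd4_mul, cd4_mul, cd4_mul, cd4_mul, cd4_tP, cd4_tP]
      exact h.2

theorem orB_self {i : ℕ} (hi : i < 45) : orB i i = true := by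
  have h := List.all_eq_true.1 pt_deg i (List.mem_range.2 hi)
  simp only [Bool.and_eq_true] at h
  exact h.1.1

theorem orB_symm {i l : ℕ} (hi : i < 45) (hl : l < 45) : orB i l = orB l i := by
  have h := List.all_eq_true.1 pt_deg i (List.mem_range.2 hi)
  simp only [Bool.and_eq_true, List.all_eq_true, List.mem_range, beq_iff_eq] at h
  exact (h.2 l hl).1

theorem orB_separate {i l : ℕ} (hi : i < 45) (hl : l < 45) (hne : i ≠ l) :
    ∃ p < 45, orB i p = true ∧ orB l p = false := by
  have h := List.all_eq_true.1 pt_deg i (List.mem_range.2 hi)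
  simp only [Bool.and_eq_true, List.all_eq_true, List.mem_range, Bool.or_eq_true, Nat.beq_eq,
    List.any_eq_true, Bool.not_eq_true'] at h
  exact (h.2 l hl).2.resolve_left hne

theorem exists_two_iso (v : V4) : ∃ a b : V4, hf a a = 0 ∧ hf b b = 0 ∧ v = a + b := by
  have h := List.all_eq_true.1 pt_span (vc4 v) (List.mem_range.2 (vc4_lt v))
  simp only [List.any_eq_true, Bool.and_eq_true, Nat.beq_eq] at h
  obtain ⟨c, hc, h1, h2⟩ := h
  have hc := List.mem_range.1 hc
  refine ⟨vo4 c, v + vo4 c, ?_, ?_, ?_⟩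
  · rw [hf_zero_iff, vc4_vo4 c hc]; exact h1
  · rw [hf_zero_iff, vc4_add, vc4_vo4 c hc]; exact h2
  · funext i
    have h2 : (2 : K4) = 0 := by decide +kernel
    simp only [Pi.add_apply]
    linear_combination (-(vo4 c i)) * h2

end CfsgLib.U62Cent
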