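import Cfsg.Agent.Lib.U62Cent.Base
import Cfsg.Agent.Lib.U62Cent.LocalCode
import Cfsg.Agent.Lib.ThreeTransp.Neighbours

/-!
The conjugates of `z` in its centraliser, other than `z`: four over each isotropic point, one orbit of
`J`; two of them over different points commute or braid according to orthogonality.
-/

set_option autoImplicit false
set_option linter.unusedSectionVars false

namespace CfsgLib.U62Cent

open CfsgLib.ThreeTransp
open Matrix

universe u

variable {G : Type u} [Group G] {z : G} {P : Hyp z} {M : Nat4 P}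

/-- a conjugate of `z`, not `z`, acting as the transvection of `x` -/
structure IsNb (M : Nat4 P) (y : Cz z) (x : V4) : Prop where
  conj : IsConj z (y : G)
  ne : (y : G) ≠ z
  act : ∀ v, M.act y v = tv x v

theorem tv_eq_self_iff {x v : V4} (hx : x ≠ 0) : tv x v = v ↔ hf v x = 0 := by
  rw [tv, add_eq_left, smul_eq_zero]
  exact or_iff_left hx

theorem x₀_ne : x₀ ≠ 0 := pv_zero ▸ pv_ne (by norm_num)

namespace Nat4

variable (M)

/-- an inner element is linear and preserves the form -/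
theorem act_tv {h : Cz z} (hh : h ∈ P.H₁) (x v : V4) :
    M.act h (tv x v) = tv (M.act h x) (M.act h v) := by
  obtain ⟨g, hg, -⟩ := M.existsUnique_lin hh
  rw [hg, hg, hg, tv, tv, Matrix.mulVec_add, Matrix.mulVec_smul, hf_mat4]

theorem vec_conj_eq (h : Cz z) {a : Cz z} (ha : a ∈ P.J) :
    M.vec ⟨h * a * h⁻¹, P.conj_mem h ha⟩ = M.act h (M.vec ⟨a, ha⟩) := by
  rw [← M.vec_conj]
  exact congrArg M.vec (Subtype.ext (MulAut.conjNormal_apply h ⟨a, ha⟩).symm)

end Nat4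

namespace IsNb

variable {y y' u : Cz z} {x : V4}

theorem mk' (hc : IsConj z (y : G)) (hne : (y : G) ≠ z) (ha : ∀ v, M.act y v = tv x v) :
    IsNb M y x := ⟨hc, hne, ha⟩

include P in
theorem sq_one (hy : IsNb M y x) : y * y = 1 := by
  obtain ⟨g, hg⟩ := isConj_iff.1 hy.conj
  refine Subtype.ext ?_
  have hz : z * z = 1 := congrArg Subtype.val P.zC_sq
  show (y : G) * y = 1
  rw [← hg, show g * z * g⁻¹ * (g * z * g⁻¹) = g * (z * z) * g⁻¹ by group, hz]
  group

theorem inv_eq (hy : IsNb M y x) : y⁻¹ = y := inv_eq_of_mul_eq_one_right hy.sq_one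

theorem conj_move (hy : IsNb M y x) (h : Cz z) {x' : V4}
    (ha : ∀ v, M.act (h * y * h⁻¹) v = tv x' v) : IsNb M (h * y * h⁻¹) x' := by
  have e : ((h * y * h⁻¹ : Cz z) : G) = (h : G) * y * (h : G)⁻¹ := rfl
  refine ⟨hy.conj.trans (isConj_iff.2 ⟨h, e.symm⟩), fun k => hy.ne ?_, ha⟩
  rw [e] at k
  calc (y : G) = (h : G)⁻¹ * ((h : G) * y * (h : G)⁻¹) * h := by group
    _ = z := by rw [k, mul_assoc, ← comm_z h, ← mul_assoc, inv_mul_cancel, one_mul]

theorem conj_act (hy : IsNb M y x) {h : Cz z} (hh : h ∈ P.H₁) :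
    IsNb M (h * y * h⁻¹) (M.act h x) :=
  hy.conj_move h fun v => by rw [M.act_mul, M.act_mul, hy.act, M.act_tv hh, M.act_act_inv]

theorem conj_J (hy : IsNb M y x) {j : Cz z} (hj : j ∈ P.J) : IsNb M (j * y * j⁻¹) x :=
  hy.conj_move j fun v => by
    rw [M.act_mul, M.act_mul, hy.act, M.act_J hj, M.act_J (inv_mem hj)]

variable (F : Fused M)
include F

/-- the fibre over a point is one orbit of `J` -/
theorem fibre (hy : IsNb M y x) (hy' : IsNb M y' x) :
    ∃ j : P.J, y' = (j : Cz z) * y * (j : Cz z)⁻¹ := by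
  obtain ⟨h, hh, rfl⟩ := F.one_class y hy.conj hy.ne
  obtain ⟨k, hk, rfl⟩ := F.one_class y' hy'.conj hy'.ne
  set g : Cz z := h⁻¹ * k with hg
  have hgH : g ∈ P.H₁ := mul_mem (inv_mem hh) hk
  have hc : ∀ v, M.act g (tv x₀ v) = tv x₀ (M.act g v) := fun v => by
    have e : ∀ u, M.act (k * F.w * k⁻¹) u = M.act (h * F.w * h⁻¹) u := fun u => by
      rw [hy'.act, hy.act]
    calc M.act g (tv x₀ v) = M.act (g * F.w) v := by rw [← F.w_act, ← M.act_mul]
      _ = M.act h⁻¹ (M.act (k * F.w * k⁻¹) (M.act k v)) := by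
          rw [← M.act_mul, ← M.act_mul]; exact congrArg (fun q => M.act q v) (by rw [hg]; group)
      _ = M.act h⁻¹ (M.act (h * F.w * h⁻¹) (M.act k v)) := by rw [e]
      _ = M.act (F.w * g) v := by
          rw [← M.act_mul, ← M.act_mul]; exact congrArg (fun q => M.act q v) (by rw [hg]; group)
      _ = tv x₀ (M.act g v) := by rw [← F.w_act, ← M.act_mul]
  have hc' : ∀ v, M.act g⁻¹ (tv x₀ v) = tv x₀ (M.act g⁻¹ v) := fun v => by
    calc M.act g⁻¹ (tv x₀ v) = M.act g⁻¹ (tv x₀ (M.act g (M.act g⁻¹ v))) := by rw [M.act_act_inv]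
      _ = M.act g⁻¹ (M.act g (tv x₀ (M.act g⁻¹ v))) := by rw [hc]
      _ = _ := M.act_inv_act g _
  obtain ⟨j, hj, e⟩ := F.stab g⁻¹ (inv_mem hgH) hc'
  have e' : g * F.w * g⁻¹ = j * F.w * j⁻¹ := by
    calc g * F.w * g⁻¹ = g * (g⁻¹ * j * F.w) * j⁻¹ := by rw [e]; group
      _ = j * F.w * j⁻¹ := by group
  refine ⟨⟨h * j * h⁻¹, P.conj_mem h hj⟩, ?_⟩
  calc k * F.w * k⁻¹ = h * (g * F.w * g⁻¹) * h⁻¹ := by rw [hg]; group
    _ = h * (j * F.w * j⁻¹) * h⁻¹ := by rw [e']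
    _ = _ := by group

/-- centralising in `J` is orthogonality to the point -/
theorem comm_iff (hy : IsNb M y x) (hx : x ≠ 0) (a : P.J) :
    (a : Cz z) * y = y * a ↔ hf (M.vec a) x = 0 := by
  constructor
  · intro e
    rw [← tv_eq_self_iff hx, ← hy.act, ← M.vec_conj_eq y a.2]
    refine congrArg M.vec (Subtype.ext ?_)
    show y * (a : Cz z) * y⁻¹ = a
    rw [← e, mul_inv_cancel_right]
  · intro h0
    obtain ⟨h, hh, e⟩ := F.one_class y hy.conj hy.ne
    have ha : h⁻¹ * (a : Cz z) * h⁻¹⁻¹ ∈ P.J := P.conj_mem h⁻¹ a.2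
    have h1 : hf (M.vec ⟨_, ha⟩) x₀ = 0 := by
      rw [← tv_eq_self_iff x₀_ne, ← F.w_act, M.vec_conj_eq, ← M.act_mul,
        show F.w * h⁻¹ = h⁻¹ * y by rw [e]; group, M.act_mul, hy.act,
        (tv_eq_self_iff hx).2 h0]
    have h2 := F.cent_R ⟨_, ha⟩ h1
    calc (a : Cz z) * y = h * ((h⁻¹ * (a : Cz z) * h⁻¹⁻¹) * F.w) * h⁻¹ := by rw [e]; group
      _ = h * (F.w * (h⁻¹ * (a : Cz z) * h⁻¹⁻¹)) * h⁻¹ := by rw [h2]
      _ = y * a := by rw [e]; group

/-- two over one point differ by a multiple of the point -/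
theorem shift (hy : IsNb M y x) (hy' : IsNb M y' x) (hx : x ≠ 0) :
    ∃ (c : K4) (t : P.J), (t : Cz z) = y' * y⁻¹ ∧ M.vec t = c • x ∧ (c = 0 → y' = y) := by
  obtain ⟨j, rfl⟩ := fibre F hy hy'
  refine ⟨hf (M.vec j) x, j * ⟨y * ((j : Cz z))⁻¹ * y⁻¹, P.conj_mem y (inv_mem j.2)⟩, ?_, ?_, ?_⟩
  · show (j : Cz z) * (y * (j : Cz z)⁻¹ * y⁻¹) = _
    group
  · rw [M.vec_mul, M.vec_conj_eq y (inv_mem j.2), hy.act,
      show M.vec ⟨(j : Cz z)⁻¹, inv_mem j.2⟩ = M.vec j from M.vec_inv j, tv, ← add_assoc,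
      Nat4.two_V4, zero_add]
  · intro h0
    rw [(comm_iff F hy hx j).2 h0, mul_inv_cancel_right]

omit F

theorem scal_zero {i l : ℕ} (hi : i < 45) (hl : l < 45) (hne : i ≠ l) {c d : K4}
    (h : c • pv i = d • pv l) : c = 0 := by
  obtain ⟨v, h1, h0⟩ := exists_hf_pair hi hl hne 1 0
  have e := congrArg (hf v) h
  rw [hf_smul_right, hf_smul_right, h1, h0, mul_one, mul_zero] at e
  exact pow_eq_zero_iff (n := 2) (by norm_num) |>.1 e

include F

theorem act_tP {i : ℕ} (hi : i < 45) (hy : IsNb M y (pv i)) (v : V4) :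
    M.act y v = mat4 (tP hi) *ᵥ v := by
  rw [hy.act, tP, mat4_tvU]

/-- over orthogonal points: commute -/
theorem orth_commute {i l : ℕ} (hi : i < 45) (hl : l < 45) (hne : i ≠ l) (ho : orB i l = true)
    (hy : IsNb M y (pv i)) (hu : IsNb M u (pv l)) : y * u = u * y := by
  have e := (tP_pair hi hl).1 ho
  have key : ∀ {p q : ℕ} (hp : p < 45) (hq : q < 45) {a b : Cz z}, IsNb M a (pv p) → IsNb M b (pv q) →
      tP hp * tP hq = tP hq * tP hp → IsNb M (a * b * a⁻¹) (pv q) := by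
    intro p q hp hq a b ha hb e
    refine hb.conj_move a fun v => ?_
    have e2 : tP hp * tP hp = 1 := mat4_ext fun v => by
      rw [map_mul, ← Matrix.mulVec_mulVec, ← act_tP F hp ha, ← act_tP F hp ha, ← M.act_mul,
        ha.sq_one, map_one, map_one, Matrix.one_mulVec]
      rfl
    rw [ha.inv_eq, M.act_mul, M.act_mul, act_tP F hp ha, act_tP F hp ha, act_tP F hq hb,
      Matrix.mulVec_mulVec, Matrix.mulVec_mulVec, ← map_mul, ← map_mul, e, mul_assoc, e2, mul_one, tP,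
      mat4_tvU]
  obtain ⟨c, t, ht, hv, hc⟩ := shift F hu (key hi hl hy hu e) (pv_ne hl)
  obtain ⟨d, s, hs, hv', -⟩ := shift F hy (key hl hi hu hy e.symm) (pv_ne hi)
  have hst : s = t⁻¹ := Subtype.ext (by rw [Subgroup.coe_inv, hs, ht]; group)
  rw [hst, M.vec_inv, hv] at hv'
  have := hc (scal_zero hl hi (Ne.symm hne) hv')
  rwa [mul_inv_eq_iff_eq_mul] at this

/-- over non-orthogonal points: braid, and do not commute -/
theorem braid {i l : ℕ} (hi : i < 45) (hl : l < 45) (ho : orB i l = false)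
    (hy : IsNb M y (pv i)) (hu : IsNb M u (pv l)) :
    y * u * y = u * y * u ∧ y * u ≠ u * y := by
  have hne : i ≠ l := fun e => by
    rw [e, orB_self hl] at ho
    exact Bool.noConfusion ho
  obtain ⟨ene, e⟩ := (tP_pair hi hl).2 ho
  refine ⟨?_, fun h => ene (mat4_ext fun v => ?_)⟩
  · have key : ∀ {p q : ℕ} (hp : p < 45) (hq : q < 45) {a b : Cz z}, IsNb M a (pv p) → IsNb M b (pv q) →
        tP hp * tP hq * tP hp = tP hq * tP hp * tP hq → IsNb M ((a * b) * a * (a * b)⁻¹) (pv q) := by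
      intro p q hp hq a b ha hb e
      refine ha.conj_move (a * b) fun v => ?_
      have e2 : ∀ {r : ℕ} (hr : r < 45) {c : Cz z}, IsNb M c (pv r) → tP hr * tP hr = 1 :=
        fun {r} hr {c} hc => mat4_ext fun v => by
          rw [map_mul, ← Matrix.mulVec_mulVec, ← act_tP F hr hc, ← act_tP F hr hc, ← M.act_mul,
            hc.sq_one, map_one, map_one, Matrix.one_mulVec]
          rfl
      rw [_root_.mul_inv_rev, ha.inv_eq, hb.inv_eq, M.act_mul, M.act_mul, M.act_mul, M.act_mul,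
        act_tP F hp ha, act_tP F hp ha, act_tP F hp ha, act_tP F hq hb, act_tP F hq hb,
        Matrix.mulVec_mulVec, Matrix.mulVec_mulVec, Matrix.mulVec_mulVec, Matrix.mulVec_mulVec,
        ← map_mul, ← map_mul, ← map_mul, ← map_mul, e,
        show tP hq * tP hp * tP hq * tP hq * tP hp = tP hq * tP hp * (tP hq * tP hq) * tP hp by group,
        e2 hq hb, mul_one, mul_assoc, e2 hp ha, mul_one, tP, mat4_tvU]
    obtain ⟨c, t, ht, hv, hc⟩ := shift F hu (key hi hl hy hu e) (pv_ne hl)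
    obtain ⟨d, s, hs, hv', -⟩ := shift F hy (key hl hi hu hy e.symm) (pv_ne hi)
    have hst : s = t⁻¹ := Subtype.ext (by
      rw [Subgroup.coe_inv, hs, ht]
      simp only [_root_.mul_inv_rev, hy.inv_eq, hu.inv_eq, mul_assoc])
    rw [hst, M.vec_inv, hv] at hv'
    have := hc (scal_zero hl hi (Ne.symm hne) hv')
    rw [mul_inv_eq_iff_eq_mul] at this
    calc y * u * y = u * (y * u) := this
      _ = u * y * u := (mul_assoc _ _ _).symm
  · rw [map_mul, map_mul, ← Matrix.mulVec_mulVec, ← Matrix.mulVec_mulVec, ← act_tP F hi hy,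
      ← act_tP F hl hu, ← act_tP F hl hu, ← act_tP F hi hy, ← M.act_mul, ← M.act_mul, h]

omit F

end IsNb

namespace Fused

variable (F : Fused M)
include F

theorem w_ne : (F.w : G) ≠ z := fun e => by
  have h1 : F.w = zC z := Subtype.ext e
  have h2 : ∀ v, tv x₀ v = v := fun v => by rw [← F.w_act, h1, M.act_J P.zC_mem]
  obtain ⟨v, hv⟩ := exists_hf (i := 0) (by norm_num) 1
  have := (tv_eq_self_iff x₀_ne).1 (h2 v)
  rw [pv_zero, this] at hv
  exact zero_ne_one hv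

theorem isNb_w : IsNb M F.w x₀ := ⟨F.w_conj, F.w_ne, F.w_act⟩

/-- every conjugate of `z` in the centraliser other than `z` lies over a point -/
theorem cover {y : Cz z} (hc : IsConj z (y : G)) (hne : (y : G) ≠ z) :
    ∃ i < 45, IsNb M y (pv i) := by
  obtain ⟨h, hh, rfl⟩ := F.one_class y hc hne
  have hnb := F.isNb_w.conj_act hh
  have h0 : hf (M.act h x₀) (M.act h x₀) = 0 := by
    rw [M.act_norm, ← pv_zero]; exact pv_iso (by norm_num)
  have hne0 : M.act h x₀ ≠ 0 := fun e => x₀_ne (by rw [← M.act_inv_act h x₀, e, map_zero])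
  obtain ⟨i, hi, c, hc0, e⟩ := exists_pt h0 hne0
  exact ⟨i, hi, hnb.conj, hnb.ne, fun v => by rw [hnb.act, e, tv_smul hc0]⟩

theorem move_point {i l : ℕ} (hi : i < 45) (hl : l < 45) (ho : orB i l = false) {y : Cz z}
    (hy : IsNb M y (pv i)) : ∃ h ∈ P.H₁, IsNb M (h * y * h⁻¹) (pv l) := by
  obtain ⟨h, hh, hact⟩ := M.lift (tP hi * tP hl : U4) (tP hi * tP hl : U4).2
  refine ⟨h, hh, hy.conj_move h fun v => ?_⟩
  have e := ((tP_pair hi hl).2 ho).2
  have key : M.act h (M.act y (M.act h⁻¹ v)) = mat4 (tP hl) *ᵥ M.act h (M.act h⁻¹ v) := by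
    rw [IsNb.act_tP F hi hy]
    show M.act h _ = mat4 (tP hl) *ᵥ M.act h _
    rw [hact, hact]
    show mat4 (tP hi * tP hl) *ᵥ _ = mat4 (tP hl) *ᵥ (mat4 (tP hi * tP hl) *ᵥ _)
    rw [Matrix.mulVec_mulVec, Matrix.mulVec_mulVec, ← map_mul, ← map_mul, e, mul_assoc]
  rw [M.act_act_inv] at key
  rw [M.act_mul, M.act_mul, key, tP, mat4_tvU]

/-- every point carries one -/
theorem exists_nb {i : ℕ} (hi : i < 45) : ∃ y : Cz z, IsNb M y (pv i) := by
  have h := List.all_eq_true.1 pt_step i (List.mem_range.2 hi)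
  simp only [List.any_eq_true, Bool.and_eq_true, Bool.not_eq_true', List.mem_range] at h
  obtain ⟨p, hp, h1, h2⟩ := h
  obtain ⟨h, -, hy⟩ := F.move_point (y := F.w) (by norm_num) hp h1 (pv_zero ▸ F.isNb_w)
  obtain ⟨k, -, hu⟩ := F.move_point hp hi h2 hy
  exact ⟨_, hu⟩

/-- the four over a point, by a parameter in the field -/
theorem exists_param {i : ℕ} (hi : i < 45) : ∃ f : K4 → Cz z, Function.Injective f ∧
    (∀ a, IsNb M (f a) (pv i)) ∧ (∀ y, IsNb M y (pv i) → ∃ a, f a = y) ∧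
    ∀ (j : P.J) (a : K4), (j : Cz z) * f a * (j : Cz z)⁻¹ = f (a + hf (M.vec j) (pv i)) := by
  obtain ⟨y, hy⟩ := F.exists_nb hi
  have hj : ∀ a, ∃ j : P.J, hf (M.vec j) (pv i) = a := fun a => by
    obtain ⟨v, hv⟩ := exists_hf hi a
    obtain ⟨j, rfl⟩ := M.vec_surj v
    exact ⟨j, hv⟩
  choose g hg using hj
  have heq : ∀ j k : P.J, (j : Cz z) * y * (j : Cz z)⁻¹ = (k : Cz z) * y * (k : Cz z)⁻¹ ↔
      hf (M.vec j) (pv i) = hf (M.vec k) (pv i) := by
    intro j k
    have h1 := IsNb.comm_iff F hy (pv_ne hi) (k⁻¹ * j)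
    rw [M.vec_mul, M.vec_inv, hf_add_left] at h1
    have h2 : hf (M.vec k) (pv i) + hf (M.vec j) (pv i) = 0 ↔
        hf (M.vec j) (pv i) = hf (M.vec k) (pv i) := by
      have two : (2 : K4) = 0 := by decide +kernel
      constructor
      · intro e; linear_combination e - (hf (M.vec k) (pv i)) * two
      · intro e; linear_combination e + (hf (M.vec k) (pv i)) * two
    rw [← h2, ← h1, Subgroup.coe_mul, Subgroup.coe_inv]
    constructor
    · intro e
      calc (k : Cz z)⁻¹ * j * y = (k : Cz z)⁻¹ * ((j : Cz z) * y * (j : Cz z)⁻¹) * j := by group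
        _ = y * ((k : Cz z)⁻¹ * j) := by rw [e]; group
    · intro e
      calc (j : Cz z) * y * (j : Cz z)⁻¹ = k * ((k : Cz z)⁻¹ * j * y) * (j : Cz z)⁻¹ := by group
        _ = (k : Cz z) * y * (k : Cz z)⁻¹ := by rw [e]; group
  refine ⟨fun a => (g a : Cz z) * y * (g a : Cz z)⁻¹, fun a b e => ?_, fun a => hy.conj_J (g a).2,
    fun u hu => ?_, fun j a => ?_⟩
  · rw [← hg a, ← hg b]; exact (heq _ _).1 e
  · obtain ⟨j, rfl⟩ := IsNb.fibre F hy hu
    exact ⟨_, (heq _ _).2 (hg _)⟩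
  · have e : (j : Cz z) * ((g a : Cz z) * y * (g a : Cz z)⁻¹) * (j : Cz z)⁻¹ =
        ((j * g a : P.J) : Cz z) * y * ((j * g a : P.J) : Cz z)⁻¹ := by
      rw [Subgroup.coe_mul]; group
    rw [e]
    refine (heq _ _).2 ?_
    rw [hg, M.vec_mul, hf_add_left, hg, add_comm]

theorem mem_nb {y : G} : y ∈ nb (conjugatesOf z) z ↔
    ∃ i < 45, ∃ u : Cz z, (u : G) = y ∧ IsNb M u (pv i) := by
  constructor
  · rintro ⟨hc, hne, hcm⟩
    have hy : y ∈ Subgroup.centralizer ({z} : Set G) :=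
      Subgroup.mem_centralizer_singleton_iff.2 hcm.eq.symm
    obtain ⟨i, hi, h⟩ := F.cover (y := ⟨y, hy⟩) hc hne
    exact ⟨i, hi, _, rfl, h⟩
  · rintro ⟨i, hi, u, rfl, h⟩
    exact ⟨h.conj, h.ne, (comm_z u).symm⟩

end Fused

end CfsgLib.U62Cent
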