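import Cfsg.Agent.Lib.U62Cent.Defs

/-!
Codes of the vectors of the orthogonal module of minus type and of a Sylow two-subgroup of its group.
-/

set_option autoImplicit false
set_option maxRecDepth 100000

namespace CfsgLib.U62Cent.Six

/-- the form on codes -/
def qC (v : ℕ) : ℕ := Nat.land (Nat.shiftRight 9761419664792451208 v) 1

/-- the polar form on codes -/
def bC (a b : ℕ) : ℕ := Nat.xor (Nat.xor (qC (Nat.xor a b)) (qC a)) (qC b)

/-- reflection on codes -/
def rC (a v : ℕ) : ℕ := bif Nat.beq (bC a v) 1 then Nat.xor v a else v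

/-- product of two reflections on codes -/
def sC (a b v : ℕ) : ℕ := rC a (rC b v)

/-- entry of a coded map -/
def ent (c i : ℕ) : ℕ := Nat.land (Nat.shiftRight c (6 * i)) 63

/-- one bit of a coded vector -/
def bit (v i : ℕ) : ℕ := Nat.land (Nat.shiftRight v i) 1

/-- a coded map applied to a coded vector -/
def app (c v : ℕ) : ℕ :=
  Nat.xor (Nat.xor (Nat.xor (Nat.xor (Nat.xor (bit v 0 * ent c 0) (bit v 1 * ent c 1))
    (bit v 2 * ent c 2)) (bit v 3 * ent c 3)) (bit v 4 * ent c 4)) (bit v 5 * ent c 5)

/-- six entries packed -/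
def pack (f : ℕ → ℕ) : ℕ :=
  f 0 + 64 * f 1 + 4096 * f 2 + 262144 * f 3 + 16777216 * f 4 + 1073741824 * f 5

/-- the identity map -/
def oneC : ℕ := pack fun i => 2 ^ i

/-- composition -/
def mulC (a b : ℕ) : ℕ := pack fun i => app a (ent b i)

/-- the code of a product of two reflections -/
def sPack (a b : ℕ) : ℕ := pack fun i => sC a b (2 ^ i)

/-- the three generators of a Sylow two-subgroup -/
def gl : List ℕ := [34090774011, 40096779713, 35260791562]

/-- its elements -/
def el : List ℕ := [34630287489, 34090774011, 40096779713, 35260791562, 28624281787, 34185475850, 40625305354, 53233434398, 40549809930, 28812573450, 12367031515, 28724755658, 53169218139, 35167203914, 56400132894, 52884161985, 40004502977, 12431241630, 34107355530, 15646713627, 12601517947, 28712101755, 56446281499, 52981418433, 34723875265, 56110366849, 12527844606, 56198712513, 34002680318, 15592176414, 12529429371, 34001120123, 15832706555, 52975902468, 15747510075, 34722290500, 56198450625, 12607533502, 56110629249, 28713661950, 12615936251, 52981680321,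 15823517182, 12424427358, 56446007134, 34105782858, 15744622779, 52887818820, 15827198587, 40002918212, 52883899585, 12518155515, 56104589124, 53172102619, 15597692379, 35165630858, 15753001470, 12369914715, 56399883099, 28723183370, 12378288670, 53169467934, 15637004062, 34093706703, 15588507102, 35167445519, 12422867163, 28814145738, 56200272708, 53226617310, 15643818462, 40548236490, 53233184603, 12416839515, 56402767067, 35166658703, 56440250523, 34092920655, 53173138654, 40623731914, 15600575067, 28738363535, 15652216987, 40549527375, 12376716510, 34187048138, 34182572495, 40625022799, 28815697743, 33995863870, 15737796414, 34723612865, 12521026110, 28622697022, 56439189918, 40547167695, 56401706462, 28736004623, 53227677915, 35259218122, 35260509007, 28818056655, 40622663119, 34721241860, 56201321220, 33998234875, 52974853956, 40095194948, 34180213583, 28715236158, 15835577150, 40004240577, 12609109886, 34089189246, 34076353147, 40096517313, 28637904126, 35258149327, 40001869572, 56103540484, 28717607163, 52886770180, 34628702724,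 34630549889, 28635557691, 40094146308, 34077127102, 34629751364]

/-- each element as an earlier one times a generator -/
def step : List (ℕ × ℕ) := [(0, 0), (0, 0), (0, 1), (0, 2), (1, 1), (1, 2), (2, 2), (3, 0), (3, 1), (4, 2), (5, 0), (5, 1), (6, 0), (6, 1), (7, 1), (7, 2), (8, 2), (9, 0), (9, 1), (10, 1), (10, 2), (11, 2), (12, 1), (12, 2), (13, 2), (14, 2), (15, 0), (15, 1), (16, 0), (17, 1), (17, 2), (18, 2), (19, 2), (20, 0), (20, 1), (21, 0), (22, 2), (23, 0), (23, 1), (24, 0), (25, 0), (25, 1), (26, 1), (26, 2), (27, 2), (28, 2), (29, 2), (30, 0), (30, 1), (31, 0), (32, 0), (32, 1), (33, 1), (33, 2), (34, 2), (35, 2), (37, 1), (37, 2), (38, 2), (39, 2), (40, 2), (41, 2), (42, 2), (43, 0), (43, 1), (44, 0), (45, 0), (45, 1), (47, 1), (47, 2), (48, 2), (49, 2), (50, 2), (51, 2), (52, 2), (53, 0), (53, 1), (54, 0), (55, 0), (55, 1), (56, 2), (57, 0), (57, 1), (58, 0), (59, 0), (59, 1), (60, 0), (61, 0), (63, 1), (63, 2), (64, 2), (65, 2), (66, 2), (67, 2), (68, 2), (69, 0), (69, 1), (70, 0), (71, 0), (71, 1), (72, 0), (73, 0),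 (75, 1), (75, 2), (76, 2), (77, 2), (78, 2), (79, 2), (81, 1), (81, 2), (82, 2), (83, 2), (84, 2), (85, 2), (86, 2), (87, 2), (88, 2), (95, 1), (95, 2), (96, 2), (97, 2), (98, 2), (99, 2), (100, 2), (101, 2), (102, 2), (108, 2), (117, 2)]

/-- the value of a word -/
def wordC : List ℕ → ℕ
  | [] => oneC
  | i :: w => mulC (gl.getD i 0) (wordC w)

/-- commutator witnesses in the maximal subgroups -/
def wit : List ((ℕ × ℕ × ℕ) × List ℕ × List ℕ × ℕ × List ℕ × List ℕ × ℕ) := [
  ((0, 0, 0), [0], [2], 20, [1], [2], 24),
  ((0, 0, 1), [0], [2, 0, 2], 103, [0], [2, 1, 2], 107),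
  ((0, 1, 0), [0], [2], 20, [2], [0], 26),
  ((0, 1, 1), [0], [1, 2], 48, [0], [2, 1], 20),
  ((1, 0, 0), [1], [2], 24, [0, 2, 0], [1], 49),
  ((1, 0, 1), [0, 2], [1], 49, [1], [2, 0], 24),
  ((1, 1, 0), [0, 1], [2], 46, [0, 2, 0], [2], 103),
  ((1, 1, 1), [0, 1], [0, 2], 51, [0, 1], [2, 0], 46)]

/-- products of two reflections among the elements -/
def bwit : List (ℕ × ℕ × ℕ × ℕ) := [(2, 48, 16, 53), (3, 11, 7, 37), (10, 26, 3, 49), (13, 11, 17, 32), (16, 16, 32, 21), (24, 32, 16, 37), (29, 31, 7, 49), (35, 42, 11, 47), (43, 31, 11, 52), (46, 20, 11, 58), (49, 26, 11, 31), (51, 17, 3, 58), (75, 14, 17, 32), (82, 26, 11, 52), (91, 33, 11, 36), (107, 58, 11, 63), (110, 17, 7, 63), (111, 17, 11, 20), (112, 20, 11, 63), (115, 49, 11, 52), (117, 14, 3, 37), (127, 11, 17, 14)]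

/-- number of fixed vectors -/
def fixN (c : ℕ) : ℕ := ((List.range 64).filter fun v => Nat.beq (app c v) v).length

/-- the image of `c + 1` is totally singular -/
def qz (c : ℕ) : Bool := (List.range 64).all fun v => Nat.beq (qC (Nat.xor (app c v) v)) 0

/-- an involution -/
def invC (c : ℕ) : Bool := Nat.beq (mulC c c) oneC && !Nat.beq c oneC

/-- the types left by the first reduction -/
def okType (c : ℕ) : Bool := Nat.beq (fixN c) 8 || (Nat.beq (fixN c) 16 && qz c)

/-- the elements of these types -/
def okl : List ℕ := el.filter fun c => invC c && okType c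

/-- nonsingular vectors orthogonal to `v` and different from it -/
def good (v a : ℕ) : Bool := Nat.beq (qC a) 1 && Nat.beq (bC v a) 0 && !Nat.beq a v

/-- some pair of reflections around `v` moves `y` by a nonsingular vector -/
def movesQ (v y : ℕ) : Bool :=
  (List.range 64).any fun a => good v a &&
    (List.range 64).any fun b => good v b && Nat.beq (bC a b) 1 &&
      Nat.beq (qC (Nat.xor (sC a b y) y)) 1

theorem moves_all : ((List.range 64).all fun v => (List.range 64).all fun y =>
    Nat.beq y 0 || Nat.beq y v || movesQ v y) = true := by decide +kernel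

theorem reach_all : ((List.range 64).all fun v => (List.range 64).all fun y =>
    Nat.beq y 0 || Nat.beq y v || !Nat.beq (bC v y) 0 || (List.range 64).all fun a =>
      !good v a || (List.range 64).any fun b => good v b && Nat.beq (bC a b) 1 &&
        (Nat.beq (bC a y) 1 || Nat.beq (bC b y) 1)) = true := by decide +kernel

theorem span_all : ((List.range 64).all fun v => (List.range 64).all fun t =>
    !Nat.beq (bC v t) 0 || Nat.beq t 0 || Nat.beq t v || (List.range 64).any fun a => good v a &&
      (Nat.beq t a || good v (Nat.xor t a) || good v (Nat.xor (Nat.xor t a) v) ||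
        Nat.beq (Nat.xor t a) v)) = true := by decide +kernel

theorem partner_all : ((List.range 64).all fun v => Nat.beq v 0 ||
    (List.range 64).any fun y => Nat.beq (bC v y) 1) = true := by decide +kernel

theorem shadow_card : ((List.range 64).all fun v => (List.range 2).all fun q => Nat.beq v 0 ||
    Nat.ble ((List.range 64).filter fun u => Nat.beq (bC v u) 1 && Nat.beq (qC u) q).length 20)
      = true := by decide +kernel

theorem perp_count : ((List.range 64).all fun v => Nat.beq v 0 ||
    Nat.beq ((List.range 64).filter fun u => Nat.beq (bC v u) 0).length 32) = true := by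
  decide +kernel

theorem el_length : el.length = 128 ∧ step.length = 128 ∧ el.getD 0 0 = oneC := by decide +kernel

theorem el_nodup : el.Nodup := by decide +kernel

theorem el_step : ∀ k < 127, (step.getD (k + 1) (0, 0)).1 ≤ k ∧ (step.getD (k + 1) (0, 0)).2 < 3 ∧
    el.getD (k + 1) 0 =
      mulC (el.getD (step.getD (k + 1) (0, 0)).1 0) (gl.getD (step.getD (k + 1) (0, 0)).2 0) := by
  decide +kernel

theorem el_closed : (el.all fun c => gl.all fun g => el.contains (mulC c g)) = true := by
  decide +kernel

theorem gl_isometry : (gl.all fun g => (List.range 64).all fun v =>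
    Nat.beq (qC (app g v)) (qC v) && Nat.beq (app g (app g (app g (app g (app g (app g (app g (app g v))))))))
      v) = true := by decide +kernel

/-- the parity of a word -/
def parityW (e : ℕ × ℕ × ℕ) (w : List ℕ) : ℕ :=
  (w.map fun i => [e.1, e.2.1, e.2.2].getD i 0).sum % 2

/-- a witness -/
structure Wit (e : ℕ × ℕ × ℕ) (u v : List ℕ) (d : ℕ) : Prop where
  par_left : parityW e u = 0
  par_right : parityW e v = 0
  lt : d < 128
  ne : d ≠ 0
  eq : mulC (wordC u) (wordC v) = mulC (el.getD d 0) (mulC (wordC v) (wordC u))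
  small : (u ++ v).all (fun i => decide (i < 3)) = true

/-- the check behind a witness -/
def witB (e : ℕ × ℕ × ℕ) (u v : List ℕ) (d : ℕ) : Bool :=
  Nat.beq (parityW e u) 0 && Nat.beq (parityW e v) 0 && decide (d < 128) && !Nat.beq d 0 &&
    Nat.beq (mulC (wordC u) (wordC v)) (mulC (el.getD d 0) (mulC (wordC v) (wordC u))) &&
    (u ++ v).all (fun i => decide (i < 3))

theorem wit_of_witB {e : ℕ × ℕ × ℕ} {u v : List ℕ} {d : ℕ} (h : witB e u v d = true) :
    Wit e u v d := by
  simp only [witB, Bool.and_eq_true, Bool.not_eq_true', decide_eq_true_eq] at h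
  obtain ⟨⟨⟨⟨⟨h1, h2⟩, h3⟩, h4⟩, h5⟩, h6⟩ := h
  exact ⟨Nat.eq_of_beq_eq_true h1, Nat.eq_of_beq_eq_true h2, h3, Nat.ne_of_beq_eq_false h4,
    Nat.eq_of_beq_eq_true h5, h6⟩

theorem wit_all : ((List.range 2).all fun a => (List.range 2).all fun b => (List.range 2).all fun c =>
    wit.any fun r => witB (a, b, c) r.2.1 r.2.2.1 r.2.2.2.1 &&
      witB (a, b, c) r.2.2.2.2.1 r.2.2.2.2.2.1 r.2.2.2.2.2.2 &&
      !Nat.beq r.2.2.2.1 r.2.2.2.2.2.2) = true := by decide +kernel

/-- a product of two reflections with a third nonsingular vector meeting both -/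
def isTwo (c : ℕ) : Bool :=
  bwit.any fun r => Nat.beq (el.getD r.1 0) c && Nat.beq (sPack r.2.1 r.2.2.2) c &&
    Nat.beq (qC r.2.1) 1 && Nat.beq (qC r.2.2.1) 1 && Nat.beq (qC r.2.2.2) 1 &&
    Nat.beq (bC r.2.1 r.2.2.1) 1 && Nat.beq (bC r.2.2.1 r.2.2.2) 1 &&
    decide (r.2.1 < 64 ∧ r.2.2.1 < 64 ∧ r.2.2.2 < 64)

theorem el_types : (el.all fun c => !invC c || (Nat.beq (fixN c) 32 && !qz c) ||
    (Nat.beq (fixN c) 16 && (qz c || isTwo c)) || (Nat.beq (fixN c) 8 && !qz c)) = true := by decide +kernel

theorem no_eight : (okl.all fun x => okl.all fun y =>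
    Nat.beq x y || !okl.contains (mulC x y) || okl.all fun w =>
      Nat.beq w x || Nat.beq w y || Nat.beq w (mulC x y) ||
        !(okl.contains (mulC x w) && okl.contains (mulC y w) && okl.contains (mulC (mulC x y) w)))
      = true := by decide +kernel

theorem cent_three : (el.all fun t => !(invC t && Nat.beq (fixN t) 16 && qz t) || el.all fun x =>
    Nat.beq x oneC || Nat.beq x t || !Nat.beq (mulC x t) (mulC t x) ||
      (List.range 64).any fun a => Nat.beq (qC a) 1 && Nat.beq (app t a) a &&
        (List.range 64).any fun b => Nat.beq (qC b) 1 && Nat.beq (app t b) b && Nat.beq (bC a b) 1 &&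
          !Nat.beq (mulC x (sPack a b)) (mulC (sPack a b) x)) = true := by decide +kernel

end CfsgLib.U62Cent.Six
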