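import Cfsg.Agent.Lib.U62Cent.SixMain

/-!
The remaining type of conjugate is impossible as well: piece A2 of S3230 and S3231.
-/

set_option autoImplicit false
set_option linter.style.haveILetI false
set_option linter.unusedSectionVars false
set_option maxRecDepth 100000

namespace CfsgLib.U62Cent.Six

open CfsgLib.ThreeTransp

universe u

variable {G : Type u} [Group G] [Finite G] {z : G} {P : Hyp z} (D : CfsgLib.U62Cent.Six P) {y : Cz z}

theorem cube_eq {t x s : O6} (hst : s * t = t * s) (ht : t * t = 1) (hs : s * (s * s) = 1)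
    (h : s * x = x * s ∨ s * x = t * x * s) : s * x = x * s ∨ t = 1 := by
  refine h.imp id fun h => ?_
  have h2 : s * (s * x) = x * (s * s) := by
    rw [h]
    calc s * (t * x * s) = s * t * (x * s) := by group
      _ = t * (s * x) * s := by rw [hst]; group
      _ = t * (t * x * s) * s := by rw [h]
      _ = t * t * (x * (s * s)) := by group
      _ = _ := by rw [ht, one_mul]
  have h3 : s * (s * (s * x)) = t * x * (s * (s * s)) := by
    rw [h2, ← mul_assoc, h]; group
  rw [hs, mul_one, ← mul_assoc s s x, ← mul_assoc s (s * s) x, hs, one_mul] at h3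
  exact mul_eq_right.1 h3.symm

include D in
theorem isElem (hy2 : y * y = 1) (hall : All D y) {j : P.J} (hj : InA D y (vec D j)) :
    (j : Cz z) * y = y * j ↔ QV D (vec D j) = 0 :=
  (comm_of_sq D hy2 hall hj).trans (sq_one_iff D j)

include D in
/-- Second reduction. -/
theorem not_all (hconj : IsConj z (y : G)) (hy : y ≠ zC z) : ¬ All D y := by
  intro hall
  classical
  obtain ⟨Q⟩ := exists_pair hconj
  have hy2 := y_sq (P := P) Q
  let R := P.J.subgroupOf (Subgroup.centralizer ({y} : Set (Cz z)))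
  let YR : Subgroup R :=
    { carrier := {r | InA D y (vec D ⟨(r.1 : Cz z), r.2⟩)}
      one_mem' := by
        show InA D y (vec D 1)
        rw [vec_one]; exact inA_zero D
      mul_mem' := fun {a b} ha hb => by
        show InA D y (vec D (⟨(a.1 : Cz z), a.2⟩ * ⟨(b.1 : Cz z), b.2⟩))
        rw [vec_mul]; exact inA_add D ha hb
      inv_mem' := fun {a} ha => by
        show InA D y (vec D (⟨(a.1 : Cz z), a.2⟩ : P.J)⁻¹)
        rw [vec_inv]; exact ha }
  let f : YR →* O6 := (psi D Q).comp YR.subtype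
  have hinj : Function.Injective f := by
    rw [injective_iff_map_eq_one]
    intro r hr
    by_contra h1
    obtain ⟨w, hw, hwz, hwr⟩ := psi_ne_one D Q hall r.2 (fun e => h1 (Subtype.ext e))
    exact not_mem_J D hw hwz ((rho_eq_one_iff D _).1 (hwr.trans hr))
  have hok : ∀ x ∈ f.range, x ≠ 1 → Okay x := by
    rintro _ ⟨r, rfl⟩ h1
    obtain ⟨w, hw, hwz, hwr⟩ := psi_ne_one D Q hall r.2
      (fun e => h1 (by show psi D Q r.1 = 1; rw [e, map_one]))
    show Okay (psi D Q r.1)
    rw [← hwr]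
    exact okay D hw hwz
  refine eight_le_false f.range ?_ hok
  rw [Nat.card_congr (MonoidHom.ofInjective hinj).toEquiv.symm]
  -- the preimage of the image of `1 + y`
  obtain ⟨pre, hpre⟩ : ∃ pre : {v // InA D y v} → P.J, ∀ v, vec D (pre v) = v.1 :=
    ⟨fun v => (vec_surj D v.1).choose, fun v => (vec_surj D v.1).choose_spec⟩
  have hzv : ∀ a : P.J, vec D (⟨zC z, P.zC_mem⟩ * a) = vec D a := fun a => by
    rw [vec_mul, (vec_eq_zero D ⟨zC z, P.zC_mem⟩).2 (Or.inr rfl), zero_add]
  have h0 : 2 * Nat.card {v // InA D y v ∧ QV D v = 0} ≤ Nat.card YR := by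
    rw [show 2 * Nat.card {v // InA D y v ∧ QV D v = 0} =
      Nat.card ({v // InA D y v ∧ QV D v = 0} × Bool) by
        rw [Nat.card_prod, show Nat.card Bool = 2 by simp, mul_comm]]
    let lift : {v // InA D y v ∧ QV D v = 0} × Bool → P.J := fun p =>
      if p.2 then ⟨zC z, P.zC_mem⟩ * pre ⟨p.1.1, p.1.2.1⟩ else pre ⟨p.1.1, p.1.2.1⟩
    have hlift : ∀ p, vec D (lift p) = p.1.1 := by
      rintro ⟨v, b⟩
      cases b <;> simp [lift, hzv, hpre]
    refine Nat.card_le_card_of_injective (fun p => (⟨inR (lift p) ?_, ?_⟩ : YR)) ?_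
    · refine (isElem D hy2 hall ?_).2 ?_
      · rw [hlift]; exact p.1.2.1
      · rw [hlift]; exact p.1.2.2
    · show InA D y (vec D (lift p))
      rw [hlift]; exact p.1.2.1
    · rintro ⟨v, b⟩ ⟨w, c⟩ e
      have e' : lift (v, b) = lift (w, c) :=
        Subtype.ext (congrArg (fun r : YR => (r.1.1 : Cz z)) e)
      obtain rfl : v = w := Subtype.ext (by rw [← hlift (v, b), e', hlift])
      refine Prod.ext rfl ?_
      cases b <;> cases c <;> simp only [lift, Bool.false_eq_true, if_false, if_true] at e' ⊢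
      · exact absurd (congrArg Subtype.val (mul_eq_right.1 e'.symm)) P.zC_ne_one
      · exact absurd (congrArg Subtype.val (mul_eq_right.1 e')) P.zC_ne_one
  have hhalf : Nat.card {v // InA D y v} ≤ 2 * Nat.card {v // InA D y v ∧ QV D v = 0} := by
    by_cases hq : ∀ v, InA D y v → QV D v = 0
    · rw [Nat.card_congr (Equiv.subtypeEquivRight fun v =>
        (⟨fun h => ⟨h, hq v h⟩, fun h => h.1⟩ : InA D y v ↔ InA D y v ∧ QV D v = 0))]
      omega
    push Not at hq
    obtain ⟨a, ha, hqa⟩ := hq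
    have hqa' := (zmod2 _).resolve_left hqa
    refine le_trans ?_ (le_of_eq (by rw [Nat.card_prod, show Nat.card Bool = 2 by simp, mul_comm] :
      Nat.card ({v // InA D y v ∧ QV D v = 0} × Bool) = 2 * Nat.card {v // InA D y v ∧ QV D v = 0}))
    refine Nat.card_le_card_of_injective (fun v =>
      if h : QV D v.1 = 0 then (⟨v.1, v.2, h⟩, false)
      else (⟨v.1 + a, inA_add D v.2 ha, by
        rw [QV_inA_add D hy2 v.2 ha, (zmod2 _).resolve_left h, hqa']; rfl⟩, true)) fun u v e => ?_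
    dsimp only at e
    split_ifs at e with hu hv hv
    · exact Subtype.ext (congrArg (fun p => p.1.1) e)
    · simp at e
    · simp at e
    · exact Subtype.ext (add_right_cancel (congrArg (fun p => p.1.1) e))
  have h256 := card_fix_add D hy2
  rw [card_fix D hy2] at h256
  obtain ⟨ha2, ha1, htype⟩ := okay D hconj hy
  by_cases h8 : 8 ≤ Nat.card {v // InA D y v}
  · omega
  -- four vectors only: the action on the small summand is trivial
  have hU : Nat.card {u // D.actU y u = u} ≤ 4 := by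
    refine (Nat.card_le_card_of_injective Subtype.val Subtype.val_injective).trans (le_of_eq ?_)
    rw [Nat.card_prod, Nat.card_zmod]
  have h2 := card_fixU D hy2
  obtain ⟨h16, hq⟩ : nFix (rho D y) = 16 ∧ Qz (rho D y) := by
    rcases htype with e | e
    · exfalso
      rw [e] at h256
      have : Nat.card {u // D.actU y u = u} * 8 * Nat.card {v // InA D y v} ≤
          32 * Nat.card {v // InA D y v} := Nat.mul_le_mul_right _ (by omega)
      omega
    · exact e
  rw [h16] at h256
  have hu4 : Nat.card {u // D.actU y u = u} = 4 := by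
    by_contra hne
    rcases (show Nat.card {u // D.actU y u = u} = 2 ∨ Nat.card {u // D.actU y u = u} = 3 by omega)
      with e | e <;> rw [e] at h256 <;> omega
  rw [hu4] at h256
  have hA4 : Nat.card {v // InA D y v} = 4 := by omega
  have hfixU : ∀ u, D.actU y u = u := by
    intro u
    haveI := Fintype.ofFinite {u // D.actU y u = u}
    by_contra hne
    have : Nat.card {u // D.actU y u = u} < Nat.card (ZMod 2 × ZMod 2) := by
      refine Nat.lt_of_lt_of_eq (m := Fintype.card (ZMod 2 × ZMod 2)) ?_ (Nat.card_eq_fintype_card).symm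
      rw [Nat.card_eq_fintype_card]
      exact Fintype.card_subtype_lt hne
    rw [hu4, Nat.card_prod, Nat.card_zmod] at this
    omega
  have hzero : ∀ v, InA D y v → QV D v = 0 := by
    rintro _ ⟨t, rfl⟩
    show D.qU (D.actU y t.1 + t.1) + q6 (D.act y t.2 + t.2) = 0
    rw [hfixU, U_two, D.polU.2, zero_add]
    exact hq t.2
  rw [Nat.card_congr (Equiv.subtypeEquivRight fun v =>
    (⟨fun h => h.1, fun h => ⟨h, hzero v h⟩⟩ : InA D y v ∧ QV D v = 0 ↔ InA D y v)), hA4] at h0
  omega

include D in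
/-- What is known of every conjugate. -/
theorem facts (hconj : IsConj z (y : G)) (hy : y ≠ zC z) :
    (∀ j : P.J, InC D y (vec D j) → (j : Cz z) * y = y * j) ∧
    ¬ IsConj z ((y * zC z : Cz z) : G) ∧ (∀ u, D.actU y u = u) ∧
    nFix (rho D y) = 16 ∧ Qz (rho D y) := by
  obtain ⟨Q⟩ := exists_pair hconj
  have hy2 := y_sq (P := P) Q
  have hnot := not_all D hconj hy
  have hc : ∀ j : P.J, InC D y (vec D j) → (j : Cz z) * y = y * j := fun j hj => by
    by_contra h
    exact hnot (all_of D hy2 hconj (Or.inl ⟨j, hj, h⟩))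
  have hzero : ∀ v, InA D y v → QV D v = 0 := by
    intro v hv
    obtain ⟨d, j0, hdv, hd⟩ := exists_conj_elem D hy2 hv
    have hdy := hc d (inA_inC D hy2 (hdv ▸ hv))
    have h2 : (y * d : Cz z) * (y * d) = 1 := by
      rw [hd, show (j0 : Cz z) * y * (j0 : Cz z)⁻¹ * (j0 * y * (j0 : Cz z)⁻¹) =
        j0 * (y * y) * (j0 : Cz z)⁻¹ by group, hy2]
      group
    rw [← hdv, ← sq_one_iff D]
    calc (d : Cz z) * d = y * y * ((d : Cz z) * d) := by rw [hy2, one_mul]
      _ = y * (y * (d : Cz z)) * d := by group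
      _ = y * ((d : Cz z) * y) * d := by rw [hdy]
      _ = (y * d : Cz z) * (y * d) := by group
      _ = 1 := h2
  have hq : Qz (rho D y) := fun v => by
    have e : phiV D y ((0, v) : VV) + (0, v) = (0, ap (rho D y) v + v) :=
      Prod.ext (by simp [phiV]) rfl
    have := hzero _ ⟨(0, v), e⟩
    simpa [QV, D.polU.2] using this
  have hU : ∀ u, D.actU y u = u := by
    intro u
    by_contra hne
    have e : phiV D y ((u, 0) : VV) + (u, 0) = (D.actU y u + u, 0) := Prod.ext rfl (by simp [phiV])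
    have h := hzero _ ⟨(u, 0), e⟩
    simp only [QV, q6_zero, add_zero] at h
    rw [qU_add, qU_act, CharTwo.add_self_eq_zero, zero_add] at h
    have hb : ∀ a b : ZMod 2 × ZMod 2, a ≠ 0 → b ≠ 0 → a ≠ b → BU a b = 1 := by
      unfold BU; decide
    have hu0 : u ≠ 0 := fun e0 => hne (by rw [e0]; exact map_zero _)
    have hu1 : D.actU y u ≠ 0 := fun e0 => hu0 (by
      have := congrArg (D.actU y) e0
      rwa [show D.actU y (D.actU y u) = u from congrArg Prod.fst (phiV_inv_of_sq D hy2 (u, 0)),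
        map_zero] at this)
    exact one_ne_zero ((hb _ _ hu1 hu0 hne).symm.trans h)
  refine ⟨hc, fun h => hnot (all_of D hy2 hconj (Or.inr h)), hU, ?_, hq⟩
  rcases types _ (rho_inv D Q hy).1 (rho_inv D Q hy).2 with ⟨-, h⟩ | ⟨h, -⟩ | ⟨-, h⟩
  · exact absurd hq h
  · exact h
  · exact absurd hq h

include D in
/-- An element whose image commutes with that of `y` can be adjusted to centralise `y`. -/
theorem exists_adjust (hconj : IsConj z (y : G)) (hy : y ≠ zC z) {h : Cz z}
    (hh : rho D h * rho D y = rho D y * rho D h) :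
    ∃ j : P.J, ((j : Cz z) * h) * y = y * ((j : Cz z) * h) := by
  obtain ⟨Q⟩ := exists_pair hconj
  have hy2 := y_sq (P := P) Q
  obtain ⟨hc, hnz, hU, -, -⟩ := facts D hconj hy
  obtain ⟨w, hwdef⟩ : ∃ w : Cz z, w = h * y * h⁻¹ := ⟨_, rfl⟩
  have hw : IsConj z (w : G) := hconj.trans (isConj_iff.2 ⟨(h : G), by simp [hwdef]⟩)
  have hrho : rho D w = rho D y := by
    rw [hwdef, map_mul, map_mul, map_inv, hh, mul_inv_cancel_right]
  have hwz : w ≠ zC z := fun e => hy (by
    calc y = h⁻¹ * (h * y * h⁻¹) * h := by group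
      _ = h⁻¹ * zC z * h := by rw [← hwdef, e]
      _ = zC z := by rw [comm_zC h⁻¹, inv_mul_cancel_right])
  obtain ⟨hcw, -, hUw, -, -⟩ := facts D hw hwz
  have hiJ : y⁻¹ * w ∈ P.J :=
    (rho_eq_one_iff D _).1 (by rw [map_mul, map_inv, hrho, inv_mul_cancel])
  obtain ⟨i, hi⟩ : ∃ i : P.J, (i : Cz z) = y⁻¹ * w := ⟨⟨_, hiJ⟩, rfl⟩
  have hA : InA D y (vec D i) := by
    refine perp_fixed (f := phiV D y) (phiV_add D y) (phiV_inv_of_sq D hy2) (BV_phiV D y) fun v hv => ?_
    obtain ⟨j, rfl⟩ := vec_surj D v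
    refine (comm_iff D i j).1 ?_
    have h1 := hc j hv
    have h2 := hcw j (by
      show phiV D w (vec D j) = vec D j
      refine Eq.trans (Prod.ext ?_ ?_) hv
      · show D.actU w (vec D j).1 = D.actU y (vec D j).1
        rw [hUw, hU]
      · rw [phiV_snd, phiV_snd, hrho])
    rw [hi]
    calc y⁻¹ * w * (j : Cz z) = y⁻¹ * ((j : Cz z) * w) := by rw [h2]; group
      _ = (y⁻¹ * (j : Cz z)) * w := by group
      _ = ((j : Cz z) * y⁻¹) * w := by
        rw [inv_eq_of_mul_eq_one_right hy2, h1]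
      _ = _ := by group
  obtain ⟨d, j0, hdv, hd⟩ := exists_conj_elem D hy2 hA
  have hwi : w = y * (i : Cz z) := by rw [hi]; group
  rcases (vec_eq_iff D d i).1 hdv with e | e
  · rw [e, hd] at hwi
    refine ⟨j0⁻¹, ?_⟩
    rw [Subgroup.coe_inv, ← mul_inv_eq_iff_eq_mul]
    calc (j0 : Cz z)⁻¹ * h * y * ((j0 : Cz z)⁻¹ * h)⁻¹ = (j0 : Cz z)⁻¹ * (h * y * h⁻¹) * j0 := by group
      _ = y := by rw [← hwdef, hwi]; group
  · exfalso
    refine hnz ?_
    have e2 : y * zC z = (j0 : Cz z)⁻¹ * w * j0 := by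
      calc y * zC z = zC z * ((j0 : Cz z)⁻¹ * ((j0 : Cz z) * y * (j0 : Cz z)⁻¹) * j0) := by
            rw [comm_zC y]; group
        _ = zC z * ((j0 : Cz z)⁻¹ * (y * (d : Cz z)) * j0) := by rw [hd]
        _ = (j0 : Cz z)⁻¹ * (zC z * (y * (d : Cz z))) * j0 := by
            rw [← mul_assoc (j0 : Cz z)⁻¹ (zC z), comm_zC (j0 : Cz z)⁻¹]; group
        _ = _ := by rw [hwi, e, ← mul_assoc y (zC z), comm_zC y]; group
    rw [e2]
    exact hw.trans (isConj_iff.2 ⟨(j0 : G)⁻¹, by simp⟩)

include D in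
theorem no_conj (hconj : IsConj z (y : G)) (hy : y ≠ zC z) : False := by
  obtain ⟨Q⟩ := exists_pair hconj
  have hy2 := y_sq (P := P) Q
  obtain ⟨hc, -, hU, -, -⟩ := facts D hconj hy
  obtain ⟨-, -, -, h16, hq⟩ := facts D Q.y'_conj (y'_ne Q hy)
  obtain ⟨j, hj⟩ := vec_surj D (((1, 0), 0) : VV)
  have hjC : InC D y (vec D j) := by
    rw [hj]
    exact Prod.ext (hU _) (map_zero _)
  obtain ⟨r, hr⟩ : ∃ r, r = inR j (hc j hjC) := ⟨_, rfl⟩
  obtain ⟨t, ht⟩ : ∃ t, t = rho D Q.y' := ⟨_, rfl⟩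
  obtain ⟨zr, hzr⟩ : ∃ zr, zr = inR (⟨zC z, P.zC_mem⟩ : P.J) (comm_zC y).symm := ⟨_, rfl⟩
  have htz : psi D Q zr = t := by rw [ht, hzr]; exact psi_zC D Q
  have hxt : psi D Q r * t = t * psi D Q r := by
    rw [ht, psi, MonoidHom.comp_apply, MonoidHom.comp_apply, ← map_mul, ← map_mul]
    exact congrArg (rho D) (phiHom_comm Q _)
  obtain ⟨ht2, ht1⟩ := rho_inv D Q.symm (y'_ne Q hy)
  rw [← ht] at ht2 ht1 h16 hq
  have hcomm : ∀ a b (ha : q6 a = 1) (hb : q6 b = 1), B6 a b = 1 → ap t a = a → ap t b = b →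
      psi D Q r * sP a b ha hb = sP a b ha hb * psi D Q r := by
    intro a b ha hb hab hta htb
    have hrf : ∀ c (hc : q6 c = 1), ap t c = c → t * rf c hc = rf c hc * t := by
      intro c hc htc
      refine O6_ext fun v => ?_
      rw [ap_mul, ap_mul]
      show ap t (v + B6 c v • c) = ap t v + B6 c (ap t v) • c
      rw [ap_add, show B6 c (ap t v) = B6 c v by conv_lhs => rw [← htc]; rw [ap_B]]
      rcases zmod2 (B6 c v) with k | k <;> simp [k, ap_zero, htc]
    have hst : sP a b ha hb * t = t * sP a b ha hb := by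
      rw [sP, mul_assoc, ← hrf b hb htb, ← mul_assoc, ← hrf a ha hta, mul_assoc]
    obtain ⟨h, hh, hs⟩ := exists_lift D ha hb hab
    obtain ⟨i, hi⟩ := exists_adjust D Q.y'_conj (y'_ne Q hy) (h := h) (by rw [hs, ← ht]; exact hst)
    obtain ⟨m, hm⟩ := exists_back Q hi
    obtain ⟨m4, hm4⟩ : ∃ m4, m4 = m * m * (m * m) := ⟨_, rfl⟩
    have hrho : rho D (phiHom Q m4) = sP a b ha hb := by
      rw [hm4, map_mul, map_mul, map_mul, map_mul, hm, map_mul, (rho_eq_one_iff D _).2 i.2, one_mul, hs]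
      calc sP a b ha hb * sP a b ha hb * (sP a b ha hb * sP a b ha hb) =
          sP a b ha hb * (sP a b ha hb * (sP a b ha hb * sP a b ha hb)) := by group
        _ = _ := by rw [sP_cube ha hb hab, mul_one]
    have hm4H : (m4 : Cz z) ∈ P.H₁ := by
      rw [hm4]
      show (m : Cz z) * m * ((m : Cz z) * m) ∈ P.H₁
      rcases P.index with hi1 | hi2
      · rw [Subgroup.index_eq_one.1 hi1]; exact Subgroup.mem_top _
      · exact mul_mem (Subgroup.mul_self_mem_of_index_two hi2 _) (Subgroup.mul_self_mem_of_index_two hi2 _)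
    have hfix : phiV D (m4 : Cz z) (vec D j) = vec D j := by
      rw [hj]
      exact Prod.ext (actU_inner' D hm4H _) (map_zero _)
    rw [← vec_conj] at hfix
    have hcase : m4 * r.1 = r.1 * m4 ∨ m4 * r.1 = zr.1 * r.1 * m4 := by
      rcases (vec_eq_iff D _ _).1 hfix.symm with e | e
      · left
        refine Subtype.ext ?_
        rw [Subgroup.coe_mul, Subgroup.coe_mul, hr]
        exact mul_inv_eq_iff_eq_mul.1 e
      · right
        refine Subtype.ext ?_
        rw [Subgroup.coe_mul, Subgroup.coe_mul, Subgroup.coe_mul, hr, hzr]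
        exact mul_inv_eq_iff_eq_mul.1 e
    have hpsi : ∀ q, psi D Q q = rho D (phiHom Q q.1) := fun q => rfl
    have h' : sP a b ha hb * psi D Q r = psi D Q r * sP a b ha hb ∨
        sP a b ha hb * psi D Q r = t * psi D Q r * sP a b ha hb := by
      rw [← htz, hpsi, hpsi, ← hrho]
      simp only [← map_mul]
      exact hcase.imp (congrArg fun x => rho D (phiHom Q x)) (congrArg fun x => rho D (phiHom Q x))
    rcases cube_eq hst ht2 (sP_cube ha hb hab) h' with e | e
    · exact e.symm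
    · exact absurd e ht1
  have hker : ∀ k : P.J.subgroupOf (Subgroup.centralizer ({y} : Set (Cz z))),
      vec D ⟨(k.1 : Cz z), k.2⟩ = vec D j → psi D Q k ≠ 1 := by
    intro k hk h1
    have hA : InA D y (vec D ⟨(k.1 : Cz z), k.2⟩) := by
      refine perp_fixed (f := phiV D y) (phiV_add D y) (phiV_inv_of_sq D hy2) (BV_phiV D y) fun v hv => ?_
      obtain ⟨i, rfl⟩ := vec_surj D v
      exact ker_central D Q hy h1 (inR i (hc i hv))
    obtain ⟨s, hs⟩ := hA
    rw [hk, hj] at hs
    have := congrArg Prod.fst hs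
    simp only [Prod.fst_add, phiV, hU, U_two] at this
    exact absurd this (by decide)
  rcases centraliser_three t (psi D Q r) _ (isPGroup_range D Q) ⟨zr, htz⟩ ⟨r, rfl⟩ ht2 ht1 h16 hq hxt hcomm with e | e
  · exact hker r (by rw [hr]; rfl) e
  · refine hker (zr * r) ?_ (by rw [map_mul, htz, e, ht2])
    rw [hzr, hr]
    show vec D (⟨zC z, P.zC_mem⟩ * j) = vec D j
    rw [vec_mul, (vec_eq_zero D ⟨zC z, P.zC_mem⟩).2 (Or.inr rfl), zero_add]

end CfsgLib.U62Cent.Six

namespace CfsgLib.U62Cent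

universe u

/-- Piece A2. -/
theorem sixStmt : SixStmt.{u} := by
  intro G _ _ z P D
  refine ⟨P.ord, fun g hg => ?_⟩
  by_contra hne
  exact Six.no_conj D (y := ⟨g * z * g⁻¹, Subgroup.mem_centralizer_singleton_iff.2 hg.symm⟩)
    (isConj_iff.2 ⟨g, rfl⟩) fun e => hne (congrArg Subtype.val e)

end CfsgLib.U62Cent
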