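import Cfsg.Agent.Lib.U62Cent.SixSetup
import Cfsg.Agent.Lib.U62Cent.Targets

/-!
In case B the involution is isolated.
-/

set_option autoImplicit false
set_option linter.style.haveILetI false
set_option linter.unusedSectionVars false
set_option maxRecDepth 100000

namespace CfsgLib.U62Cent.Six

open CfsgLib.ThreeTransp

universe u

variable {G : Type u} [Group G] [Finite G] {z : G} {P : Hyp z} (D : CfsgLib.U62Cent.Six P)

include P in
/-- The extraspecial subgroup inside the whole group. -/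
theorem xc_whole : XCent (P.J.map (Subgroup.centralizer ({z} : Set G)).subtype) z where
  mem := ⟨zC z, P.zC_mem, rfl⟩
  inv := congrArg Subtype.val P.zC_sq
  ne_one := fun h => P.zC_ne_one (Subtype.ext h)
  comm := by rintro _ ⟨q, -, rfl⟩; exact comm_z q
  center := by
    rintro _ ⟨c, hc, rfl⟩ h
    exact (P.xc.center c hc fun q hq => Subtype.ext (h q ⟨q, hq, rfl⟩)).imp
      (congrArg Subtype.val) (congrArg Subtype.val)
  commEl := by
    rintro _ ⟨a, ha, rfl⟩ _ ⟨b, hb, rfl⟩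
    exact (P.xc.commEl a ha b hb).imp (congrArg Subtype.val) (congrArg Subtype.val)
  sq := by
    rintro _ ⟨a, ha, rfl⟩
    exact (P.xc.sq a ha).imp (congrArg Subtype.val) (congrArg Subtype.val)
  cent := by
    intro c hc
    have hcz : c * z = z * c := (Subgroup.mem_centralizer_iff.1 hc z ⟨zC z, P.zC_mem, rfl⟩).symm
    refine ⟨⟨c, Subgroup.mem_centralizer_singleton_iff.2 hcz⟩,
      P.xc.cent (Subgroup.mem_centralizer_iff.2 fun q hq => Subtype.ext ?_), rfl⟩
    exact Subgroup.mem_centralizer_iff.1 hc q ⟨q, hq, rfl⟩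
  norm := by
    rintro c hc _ ⟨q, hq, rfl⟩
    exact ⟨_, P.conj_mem ⟨c, Subgroup.mem_centralizer_singleton_iff.2 hc⟩ hq, rfl⟩

/-! ### the other member of a pair -/

variable {y : Cz z} (Q : Pair y)

theorem mem_cy {a : Cz z} : a ∈ Subgroup.centralizer ({y} : Set (Cz z)) ↔ a * y = y * a :=
  Subgroup.mem_centralizer_singleton_iff

/-- transport as a homomorphism -/
def phiHom : Subgroup.centralizer ({y} : Set (Cz z)) →* Cz z :=
  MonoidHom.mk' (fun a => Q.phi a (mem_cy.1 a.2)) fun a b =>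
    Q.phi_mul (mem_cy.1 a.2) (mem_cy.1 b.2) (mem_cy.1 (a * b).2)

theorem phiHom_comm (a : Subgroup.centralizer ({y} : Set (Cz z))) :
    phiHom Q a * Q.y' = Q.y' * phiHom Q a := Q.phi_comm a.1 (mem_cy.1 a.2)

theorem exists_back {h : Cz z} (hh : h * Q.y' = Q.y' * h) :
    ∃ m : Subgroup.centralizer ({y} : Set (Cz z)), phiHom Q m = h := by
  have e : (h : G) * (Q.g⁻¹ * z * Q.g) = Q.g⁻¹ * z * Q.g * h := congrArg Subtype.val hh
  have h1 : Q.g * (h : G) * Q.g⁻¹ * z = z * (Q.g * h * Q.g⁻¹) := by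
    calc Q.g * (h : G) * Q.g⁻¹ * z = Q.g * ((h : G) * (Q.g⁻¹ * z * Q.g)) * Q.g⁻¹ := by group
      _ = _ := by rw [e]; group
  refine ⟨⟨⟨Q.g * h * Q.g⁻¹, Subgroup.mem_centralizer_singleton_iff.2 h1⟩, mem_cy.2 (Subtype.ext ?_)⟩,
    Subtype.ext ?_⟩
  · show Q.g * (h : G) * Q.g⁻¹ * (y : G) = (y : G) * (Q.g * h * Q.g⁻¹)
    rw [← Q.hg]
    calc Q.g * (h : G) * Q.g⁻¹ * (Q.g * z * Q.g⁻¹) = Q.g * ((h : G) * z) * Q.g⁻¹ := by group
      _ = _ := by rw [comm_z h]; group
  · show Q.g⁻¹ * (Q.g * (h : G) * Q.g⁻¹) * Q.g = h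
    group

/-- the image in the group of the other member -/
def psi : (P.J.subgroupOf (Subgroup.centralizer ({y} : Set (Cz z)))) →* O6 :=
  ((rho D).comp (phiHom Q)).comp (P.J.subgroupOf _).subtype

/-- an element of the centraliser inside `J` -/
def inR (j : P.J) (h : (j : Cz z) * y = y * j) :
    P.J.subgroupOf (Subgroup.centralizer ({y} : Set (Cz z))) :=
  ⟨⟨j, mem_cy.2 h⟩, j.2⟩

theorem psi_inR (j : P.J) (h : (j : Cz z) * y = y * j) : psi D Q (inR j h) = rho D (Q.phi j h) := rfl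

theorem psi_zC : psi D Q (inR ⟨zC z, P.zC_mem⟩ (comm_zC y).symm) = rho D Q.y' :=
  congrArg (rho D) Q.phi_zC

theorem isPGroup_R : IsPGroup 2 ↥(P.J.subgroupOf (Subgroup.centralizer ({y} : Set (Cz z)))) :=
  (IsPGroup.of_card P.card_J).of_injective
    { toFun := fun r => (⟨(r.1 : Cz z), r.2⟩ : P.J), map_one' := rfl, map_mul' := fun _ _ => rfl }
    fun a b h => Subtype.ext (Subtype.ext (congrArg (fun t : P.J => (t : Cz z)) h))

theorem isPGroup_range : IsPGroup 2 (psi D Q).range :=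
  (isPGroup_R (P := P)).of_surjective _ (psi D Q).rangeRestrict_surjective

include P in
theorem y_sq (Q : Pair y) : y * y = 1 := Subtype.ext (by
  show (y : G) * y = 1
  rw [← Q.hg, show Q.g * z * Q.g⁻¹ * (Q.g * z * Q.g⁻¹) = Q.g * (z * z) * Q.g⁻¹ by group,
    show z * z = 1 from congrArg Subtype.val P.zC_sq]
  group)

include P in
theorem y_ne_one (Q : Pair y) : y ≠ 1 := fun h => P.zC_ne_one (Subtype.ext (by
  have e : (y : G) = 1 := congrArg Subtype.val h
  show z = 1
  rw [show z = Q.g⁻¹ * (Q.g * z * Q.g⁻¹) * Q.g by group, Q.hg, e]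
  group))

theorem y'_ne (hy : y ≠ zC z) : Q.y' ≠ zC z := fun e => hy (Subtype.ext (by
  have h : Q.g⁻¹ * z * Q.g = z := congrArg Subtype.val e
  show (y : G) = z
  calc (y : G) = Q.g * z * Q.g⁻¹ := Q.hg.symm
    _ = Q.g * (Q.g⁻¹ * z * Q.g) * Q.g⁻¹ := by rw [h]
    _ = z := by group))

include D in
/-- Adjust by an element of `J` to centralise a member of `J`. -/
theorem exists_fix (a : P.J) (ha : vec D a ≠ 0) {h : Cz z} (hh : phiV D h (vec D a) = vec D a) :
    ∃ j : P.J, ((j : Cz z) * h) * a = a * ((j : Cz z) * h) := by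
  rw [← vec_conj] at hh
  rcases (vec_eq_iff D _ _).1 hh.symm with e | e <;> simp only at e
  · exact ⟨1, by rw [OneMemClass.coe_one, one_mul, ← mul_inv_eq_iff_eq_mul, e]⟩
  · obtain ⟨j, hj⟩ := exists_move D a ha
    refine ⟨j, ?_⟩
    rw [← mul_inv_eq_iff_eq_mul]
    calc (j : Cz z) * h * a * ((j : Cz z) * h)⁻¹ = j * (h * a * h⁻¹) * (j : Cz z)⁻¹ := by group
      _ = j * (zC z * a) * (j : Cz z)⁻¹ := by rw [e]
      _ = zC z * (j * a * (j : Cz z)⁻¹) := by
        rw [← mul_assoc (j : Cz z), comm_zC (j : Cz z)]; group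
      _ = a := by rw [hj, ← mul_assoc, P.zC_sq, one_mul]

/-! ### no conjugate in the extraspecial subgroup -/

include D in
theorem no_conj_J (hyJ : y ∈ P.J) (Q : Pair y) (hy : y ≠ zC z) : False := by
  classical
  have hy'J : Q.y' ∈ P.J := by
    have h1 : Q.g * z * Q.g⁻¹ ∈ P.J.map (Subgroup.centralizer ({z} : Set G)).subtype := by
      rw [Q.hg]; exact ⟨y, hyJ, rfl⟩
    obtain ⟨_, ⟨a, ha, rfl⟩, hqe⟩ := (xc_whole (P := P)).mem_conj Q.g h1
    have : Q.y' = a := Subtype.ext (by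
      show Q.g⁻¹ * z * Q.g = (a : G)
      refine (congrArg (fun t => Q.g⁻¹ * t * Q.g) hqe.symm).trans ?_
      show Q.g⁻¹ * (Q.g * (a : G) * Q.g⁻¹) * Q.g = a
      group)
    rw [this]; exact ha
  obtain ⟨yj, hyj⟩ : ∃ yj : P.J, (yj : Cz z) = y := ⟨⟨y, hyJ⟩, rfl⟩
  obtain ⟨yj', hyj'⟩ : ∃ yj : P.J, (yj : Cz z) = Q.y' := ⟨⟨Q.y', hy'J⟩, rfl⟩
  have hv : vec D yj ≠ 0 := fun h => by
    rcases (vec_eq_zero D yj).1 h with e | e <;> rw [hyj] at e
    · exact y_ne_one (P := P) Q e
    · exact hy e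
  have hv' : vec D yj' ≠ 0 := fun h => by
    rcases (vec_eq_zero D yj').1 h with e | e <;> rw [hyj'] at e
    · exact y_ne_one (P := P) Q.symm e
    · exact y'_ne Q hy e
  let R := P.J.subgroupOf (Subgroup.centralizer ({y} : Set (Cz z)))
  have hR : Nat.card R = 256 := by
    let μ : P.J →* Multiplicative (ZMod 2) :=
      MonoidHom.mk' (fun j => Multiplicative.ofAdd (BV (vec D j) (vec D yj))) fun a b => by
        rw [vec_mul, BV_add_left, ofAdd_add]
    have hμ : Function.Surjective μ := by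
      intro r
      obtain ⟨r, rfl⟩ : ∃ s, Multiplicative.ofAdd s = r := ⟨r.toAdd, rfl⟩
      rcases zmod2 r with rfl | rfl
      · exact ⟨1, map_one μ⟩
      · obtain ⟨w, hw⟩ := BV_nondeg hv
        obtain ⟨j, rfl⟩ := vec_surj D w
        exact ⟨j, congrArg Multiplicative.ofAdd (by rw [BV_comm, hw])⟩
    have h := μ.ker.card_mul_index
    rw [Subgroup.index_ker, MonoidHom.range_eq_top.2 hμ, Subgroup.card_top, P.card_J,
      Nat.card_congr Multiplicative.toAdd, Nat.card_zmod] at h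
    have e : Nat.card R = Nat.card μ.ker := by
      refine Nat.card_congr
        { toFun := fun r => ⟨⟨(r.1 : Cz z), r.2⟩, ?_⟩
          invFun := fun j => inR j.1 ?_
          left_inv := fun r => rfl
          right_inv := fun j => rfl }
      · refine congrArg Multiplicative.ofAdd ((comm_iff D ⟨(r.1 : Cz z), r.2⟩ yj).1 ?_)
        rw [hyj]; exact mem_cy.1 r.1.2
      · have := (comm_iff D j.1 yj).2 (Multiplicative.ofAdd.injective (MonoidHom.mem_ker.1 j.2))
        rwa [hyj] at this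
    omega
  -- the kernel
  have hsq : ∀ e ∈ (psi D Q).ker, (e.1 : Cz z) * e.1 = 1 := by
    intro e he
    refine (P.xc.sq _ e.2).resolve_right fun h => ?_
    have hphi : phiHom Q e.1 ∈ P.J := (rho_eq_one_iff D _).1 he
    have h2 : phiHom Q e.1 * phiHom Q e.1 = Q.y' := by
      rw [← map_mul]
      refine Eq.trans ?_ Q.phi_zC
      exact Subtype.ext (by rw [Pair.phi_coe]; exact congrArg (fun t : Cz z => Q.g⁻¹ * (t : G) * Q.g) h)
    rcases P.xc.sq _ hphi with k | k <;> rw [h2] at k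
    · exact y_ne_one (P := P) Q.symm k
    · exact y'_ne Q hy k
  have hbig : ∀ e ∈ (psi D Q).ker, D.big ⟨(e.1 : Cz z), e.2⟩ = 0 ∨ D.big ⟨(e.1 : Cz z), e.2⟩ = D.big yj := by
    intro e he
    by_contra hne
    push Not at hne
    obtain ⟨a, b, ha, hb, hab, hq⟩ := moves (D.big yj) _ hne.1 hne.2
    obtain ⟨h, hh, hs⟩ := exists_lift D ha.1 hb.1 hab
    have hfix : phiV D h (vec D yj) = vec D yj := by
      refine Prod.ext (actU_inner' D hh _) ?_
      rw [phiV_snd, hs]
      exact ap_sP_fix ha.1 hb.1 (by rw [B6_comm]; exact ha.2.1) (by rw [B6_comm]; exact hb.2.1)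
    obtain ⟨j, hj⟩ := exists_fix D yj hv hfix
    rw [hyj] at hj
    have hmH : (j : Cz z) * h ∈ P.H₁ := mul_mem (P.le j.2) hh
    let m : Subgroup.centralizer ({y} : Set (Cz z)) := ⟨(j : Cz z) * h, mem_cy.2 hj⟩
    have he2 : (m * e.1 * m⁻¹ : Subgroup.centralizer ({y} : Set (Cz z))) ∈ P.J.subgroupOf _ :=
      P.conj_mem _ e.2
    have hk : (⟨m * e.1 * m⁻¹, he2⟩ * e) ∈ (psi D Q).ker := by
      refine mul_mem ?_ he
      rw [MonoidHom.mem_ker]
      show rho D (phiHom Q (m * e.1 * m⁻¹)) = 1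
      have hpe : rho D (phiHom Q e.1) = 1 := he
      rw [map_mul, map_mul, map_mul, map_mul, hpe, mul_one, ← map_mul, ← map_mul, mul_inv_cancel,
        map_one, map_one]
    have h1 : ((⟨(m : Cz z) * e.1 * (m : Cz z)⁻¹, P.conj_mem _ e.2⟩ * ⟨(e.1 : Cz z), e.2⟩ : P.J) : Cz z) *
        (⟨(m : Cz z) * e.1 * (m : Cz z)⁻¹, P.conj_mem _ e.2⟩ * ⟨(e.1 : Cz z), e.2⟩ : P.J) = 1 := hsq _ hk
    rw [sq_one_iff D, vec_mul, vec_conj D (m : Cz z) ⟨(e.1 : Cz z), e.2⟩] at h1
    have e1 : phiV D (m : Cz z) (vec D ⟨(e.1 : Cz z), e.2⟩) =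
        ((vec D ⟨(e.1 : Cz z), e.2⟩).1, ap (sP a b ha.1 hb.1) (D.big ⟨(e.1 : Cz z), e.2⟩)) := by
      refine Prod.ext (actU_inner' D hmH _) ?_
      rw [phiV_snd]
      show ap (rho D ((j : Cz z) * h)) _ = _
      rw [map_mul, (rho_eq_one_iff D _).2 j.2, one_mul, hs]
      rfl
    rw [e1] at h1
    simp only [QV, Prod.fst_add, Prod.snd_add, vec, U_two, D.polU.2, hq, zero_add] at h1
    exact one_ne_zero h1
  have hker : Nat.card (psi D Q).ker ≤ 14 := by
    let ν : ↥(psi D Q).ker →* Multiplicative VV :=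
      MonoidHom.mk' (fun e => Multiplicative.ofAdd (vec D ⟨(e.1.1 : Cz z), e.1.2⟩)) fun a b => by
        rw [← ofAdd_add, ← vec_mul]; rfl
    have h := ν.ker.card_mul_index
    rw [Subgroup.index_ker] at h
    have h2 : Nat.card ν.ker ≤ 2 := by
      have h2' := Nat.card_le_card_of_injective
        (fun e : ν.ker => decide ((e.1.1.1 : Cz z) = 1)) ?_
      · simpa using h2'
      intro a b hab
      have ha := (vec_eq_zero D _).1 (Multiplicative.ofAdd.injective (MonoidHom.mem_ker.1 a.2))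
      have hb := (vec_eq_zero D _).1 (Multiplicative.ofAdd.injective (MonoidHom.mem_ker.1 b.2))
      simp only [decide_eq_decide] at hab
      refine Subtype.ext (Subtype.ext (Subtype.ext (Subtype.ext ?_)))
      rcases ha with ha | ha <;> rcases hb with hb | hb
      · exact ha.trans hb.symm
      · exact ha.trans (hab.1 ha).symm
      · exact (hab.2 hb).trans hb.symm
      · exact ha.trans hb.symm
    have h3 : Nat.card ν.range ≤ 7 := by
      obtain ⟨u1, hu1⟩ : ∃ u, D.qU u = 1 := by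
        by_contra hall
        push Not at hall
        have hz : ∀ u, D.qU u = 0 := fun u => (zmod2 _).resolve_right (hall u)
        have := D.polU.1
        simp only [hz] at this
        exact zero_ne_one this
      let S : Finset VV :=
        (Finset.univ ×ˢ ({0, D.big yj} : Finset V6)).erase (u1, 0)
      have hS : S.card ≤ 7 := by
        rw [Finset.card_erase_of_mem (by simp), Finset.card_product]
        have h2 : ({0, D.big yj} : Finset V6).card ≤ 2 := Finset.card_le_two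
        have h4 : (Finset.univ : Finset (ZMod 2 × ZMod 2)).card = 4 := rfl
        rw [h4]; omega
      refine le_trans ?_ hS
      rw [← Nat.card_eq_finsetCard]
      refine Nat.card_le_card_of_injective (fun v => (⟨v.1.toAdd, ?_⟩ : S)) fun a b hab =>
        Subtype.ext (Multiplicative.toAdd.injective (Subtype.mk.inj hab))
      obtain ⟨e, he⟩ := v.2
      rw [← he]
      refine Finset.mem_erase.2 ⟨fun e0 => ?_, Finset.mem_product.2 ⟨Finset.mem_univ _, ?_⟩⟩
      · have h0 : QV D (vec D ⟨(e.1.1 : Cz z), e.1.2⟩) = 0 := (sq_one_iff D _).1 (hsq _ e.2)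
        rw [show vec D ⟨(e.1.1 : Cz z), e.1.2⟩ = (u1, 0) from e0] at h0
        simp [QV, hu1, q6_zero] at h0
      · rcases hbig _ e.2 with k | k <;>
          simp [ν, vec, k]
    rw [← h]
    calc Nat.card ν.ker * Nat.card ν.range ≤ 2 * 7 := Nat.mul_le_mul h2 h3
      _ = 14 := rfl
  have hrange : 16 < Nat.card (psi D Q).range := by
    have h := (psi D Q).ker.card_mul_index
    rw [Subgroup.index_ker, show Nat.card ↥(P.J.subgroupOf (Subgroup.centralizer ({y} : Set (Cz z))))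
      = 256 from hR] at h
    by_contra hle
    have := Nat.mul_le_mul hker (not_lt.1 hle)
    omega
  have h32 : 32 ≤ Nat.card (psi D Q).range := by
    haveI : Fact (Nat.Prime 2) := ⟨Nat.prime_two⟩
    obtain ⟨n, hn⟩ := IsPGroup.iff_card.1 (isPGroup_range D Q)
    rw [hn] at hrange ⊢
    have : 5 ≤ n := by
      by_contra h5
      have := Nat.pow_le_pow_right (show 0 < 2 by norm_num) (show n ≤ 4 by omega)
      omega
    exact le_trans (by norm_num) (Nat.pow_le_pow_right (show 0 < 2 by norm_num) this)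
  refine absurd h32 (not_le.2 (small_X (D.big yj') _ (isPGroup_range D Q) ?_ ?_))
  · rintro _ ⟨r, rfl⟩
    have hc : phiHom Q r.1 * (yj' : Cz z) * (phiHom Q r.1)⁻¹ = yj' := by
      rw [hyj', phiHom_comm, mul_inv_cancel_right]
    have := congrArg Prod.snd (vec_conj D (phiHom Q r.1) yj')
    rw [show (⟨_, P.conj_mem (phiHom Q r.1) yj'.2⟩ : P.J) = yj' from Subtype.ext hc, phiV_snd] at this
    exact this.symm
  · rintro a b ha hb hab _ ⟨r, rfl⟩
    obtain ⟨h, hh, hs⟩ := exists_lift D ha.1 hb.1 hab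
    have hfix : phiV D h (vec D yj') = vec D yj' := by
      refine Prod.ext (actU_inner' D hh _) ?_
      rw [phiV_snd, hs]
      exact ap_sP_fix ha.1 hb.1 (by rw [B6_comm]; exact ha.2.1) (by rw [B6_comm]; exact hb.2.1)
    obtain ⟨j, hj⟩ := exists_fix D yj' hv' hfix
    rw [hyj'] at hj
    obtain ⟨m, hm⟩ := exists_back Q hj
    have hr : (m⁻¹ * r.1 * m : Subgroup.centralizer ({y} : Set (Cz z))) ∈ P.J.subgroupOf _ := by
      show ((m : Cz z)⁻¹ * r.1 * m) ∈ P.J
      exact P.conj_mem' _ r.2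
    refine ⟨⟨_, hr⟩, ?_⟩
    show rho D (phiHom Q (m⁻¹ * r.1 * m)) = _
    have e : rho D (phiHom Q m) = sP a b ha.1 hb.1 := by
      rw [hm, map_mul, (rho_eq_one_iff D _).2 j.2, one_mul, hs]
    rw [map_mul, map_mul, map_mul, map_mul, map_inv, map_inv, e]
    rfl

/-! ### conjugates outside -/

include D in
theorem not_mem_J (hc : IsConj z (y : G)) (hy : y ≠ zC z) : y ∉ P.J := fun h => by
  obtain ⟨Q⟩ := exists_pair hc
  exact no_conj_J D h Q hy

include D in
theorem y'_not_mem (Q : Pair y) (hy : y ≠ zC z) : Q.y' ∉ P.J :=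
  not_mem_J D Q.y'_conj (y'_ne Q hy)

/-- the image of `1 + y` on the module -/
def InA (y : Cz z) (v : VV) : Prop := ∃ t, phiV D y t + t = v

/-- fixed by `y` on the module -/
def InC (y : Cz z) (v : VV) : Prop := phiV D y v = v

/-- every element over the image gives a conjugate -/
def All (y : Cz z) : Prop := ∀ j : P.J, InA D y (vec D j) → IsConj z ((y * j : Cz z) : G)

theorem inA_zero : InA D y 0 :=
  ⟨0, by rw [show phiV D y 0 = 0 from Prod.ext (map_zero _) (map_zero _), add_zero]⟩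

theorem inA_add {u v : VV} (hu : InA D y u) (hv : InA D y v) : InA D y (u + v) := by
  obtain ⟨a, rfl⟩ := hu; obtain ⟨b, rfl⟩ := hv
  exact ⟨a + b, by rw [phiV_add]; abel⟩

theorem inA_inC (hy2 : y * y = 1) {v : VV} (h : InA D y v) : InC D y v := by
  obtain ⟨t, rfl⟩ := h
  show phiV D y (phiV D y t + t) = phiV D y t + t
  rw [phiV_add, phiV_inv_of_sq D hy2, add_comm]

theorem BV_inA_inC {u v : VV} (hu : InA D y u) (hv : InC D y v) : BV u v = 0 := by
  obtain ⟨t, rfl⟩ := hu
  rw [BV_add_left]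
  conv_lhs => arg 1; rw [← hv]
  rw [BV_phiV, CharTwo.add_self_eq_zero]

theorem QV_inA_add (hy2 : y * y = 1) {u v : VV} (hu : InA D y u) (hv : InA D y v) :
    QV D (u + v) = QV D u + QV D v := by
  rw [QV_add, BV_inA_inC D hu (inA_inC D hy2 hv), add_zero]

theorem inC_of_comm {j : P.J} (h : (j : Cz z) * y = y * j) : InC D y (vec D j) := by
  show phiV D y (vec D j) = vec D j
  rw [← vec_conj]
  exact congrArg (vec D) (Subtype.ext (by
    show y * (j : Cz z) * y⁻¹ = j
    rw [← h, mul_inv_cancel_right]))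

theorem conj_or (hy2 : y * y = 1) {j : P.J} (h : InC D y (vec D j)) :
    (j : Cz z) * y = y * j ∨ (j : Cz z) * y = zC z * (y * j) := by
  have h' : vec D ⟨y * j * y⁻¹, P.conj_mem y j.2⟩ = vec D j := (vec_conj D y j).trans h
  rcases (vec_eq_iff D _ _).1 h' with e | e <;> simp only at e
  · left
    conv_lhs => rw [e]
    group
  · right
    conv_lhs => rw [e]
    group

include D in
/-- A vector of the image comes from a conjugate under `J`. -/
theorem exists_conj_elem (hy2 : y * y = 1) {v : VV} (hv : InA D y v) :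
    ∃ d j0 : P.J, vec D d = v ∧ y * (d : Cz z) = j0 * y * (j0 : Cz z)⁻¹ := by
  obtain ⟨t, ht⟩ := hv
  obtain ⟨j0, rfl⟩ := vec_surj D t
  have hyinv : y⁻¹ = y := inv_eq_of_mul_eq_one_right hy2
  refine ⟨⟨y⁻¹ * j0 * y⁻¹⁻¹, P.conj_mem _ j0.2⟩ * j0⁻¹, j0, ?_, ?_⟩
  · rw [vec_mul, vec_inv, vec_conj D y⁻¹ j0, hyinv, ht]
  · rw [Subgroup.coe_mul, Subgroup.coe_inv]; group

theorem zmul_comm_iff (a : Cz z) : (zC z * a) * y = y * (zC z * a) ↔ a * y = y * a := by
  rw [mul_assoc, ← mul_assoc y, comm_zC y, mul_assoc]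
  exact ⟨mul_left_cancel, fun h => by rw [h]⟩

include D in
theorem comm_of_two (hy2 : y * y = 1) {i j : P.J} (hi : InC D y (vec D i)) (hj : InC D y (vec D j))
    (hi' : (i : Cz z) * y ≠ y * i) (hj' : (j : Cz z) * y ≠ y * j) :
    ((i * j : P.J) : Cz z) * y = y * (i * j : P.J) := by
  rw [Subgroup.coe_mul]
  calc (i : Cz z) * j * y = i * ((j : Cz z) * y) := mul_assoc _ _ _
    _ = i * (zC z * (y * j)) := by rw [(conj_or D hy2 hj).resolve_left hj']
    _ = zC z * ((i : Cz z) * y) * j := by rw [← mul_assoc, comm_zC (i : Cz z)]; group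
    _ = zC z * (zC z * (y * i)) * j := by rw [(conj_or D hy2 hi).resolve_left hi']
    _ = y * ((i : Cz z) * j) := by rw [← mul_assoc (zC z), P.zC_sq, one_mul, mul_assoc]

include D in
theorem all_of (hy2 : y * y = 1) (hconj : IsConj z (y : G))
    (h : (∃ j : P.J, InC D y (vec D j) ∧ (j : Cz z) * y ≠ y * j) ∨ IsConj z ((y * zC z : Cz z) : G)) :
    All D y := by
  intro j hj
  obtain ⟨d, j0, hdv, hd⟩ := exists_conj_elem D hy2 hj
  have hconjJ : ∀ c : Cz z, ∀ w : Cz z, IsConj z (w : G) → IsConj z ((c * w * c⁻¹ : Cz z) : G) :=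
    fun c w hw => hw.trans (isConj_iff.2 ⟨(c : G), by simp⟩)
  have hyz : IsConj z ((y * zC z : Cz z) : G) := by
    rcases h with ⟨c, hcC, hcne⟩ | h
    · have := hconjJ c y hconj
      rwa [(conj_or D hy2 hcC).resolve_left hcne,
        show zC z * (y * (c : Cz z)) * (c : Cz z)⁻¹ = zC z * y by group, ← comm_zC y] at this
    · exact h
  rcases (vec_eq_iff D d j).1 hdv with e | e
  · rw [e, hd]; exact hconjJ j0 y hconj
  · rw [e, ← mul_assoc, comm_zC y, mul_assoc, hd,
      show zC z * ((j0 : Cz z) * y * (j0 : Cz z)⁻¹) = j0 * (y * zC z) * (j0 : Cz z)⁻¹ by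
        rw [← mul_assoc, ← mul_assoc, ← comm_zC (j0 : Cz z), mul_assoc (j0 : Cz z) (zC z) y, ← comm_zC y]]
    exact hconjJ j0 _ hyz

/-- With `All`, an element over the image centralises `y` exactly when it is an involution. -/
theorem comm_of_sq (hy2 : y * y = 1) (hall : All D y) {j : P.J} (hj : InA D y (vec D j)) :
    (j : Cz z) * y = y * j ↔ (j : Cz z) * j = 1 := by
  have h2 : (y * j : Cz z) * (y * j) = 1 := by
    obtain ⟨Q⟩ := exists_pair (hall j hj)
    exact y_sq (P := P) Q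
  constructor
  · intro h
    calc (j : Cz z) * j = (y * y) * ((j : Cz z) * j) := by rw [hy2, one_mul]
      _ = y * (y * (j : Cz z)) * j := by group
      _ = y * ((j : Cz z) * y) * j := by rw [h]
      _ = (y * j : Cz z) * (y * j) := by group
      _ = 1 := h2
  · intro h
    have hyinv : y⁻¹ = y := inv_eq_of_mul_eq_one_right hy2
    have hjinv : (j : Cz z)⁻¹ = j := inv_eq_of_mul_eq_one_right h
    calc (j : Cz z) * y = (j : Cz z)⁻¹ * y⁻¹ := by rw [hyinv, hjinv]
      _ = (y * j)⁻¹ := by group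
      _ = y * j := inv_eq_of_mul_eq_one_right h2

include D in
theorem psi_ne_one (Q : Pair y) (hall : All D y) {r : P.J.subgroupOf (Subgroup.centralizer ({y} : Set (Cz z)))}
    (hr : InA D y (vec D ⟨(r.1 : Cz z), r.2⟩)) (h1 : r ≠ 1) :
    ∃ w : Cz z, IsConj z (w : G) ∧ w ≠ zC z ∧ rho D w = psi D Q r := by
  have hc : (y * (r.1 : Cz z)) * y = y * (y * (r.1 : Cz z)) := by
    rw [mul_assoc, mem_cy.1 r.1.2]
  refine ⟨Q.phi _ hc, (Q.phi_isConj _ hc).2 (hall ⟨(r.1 : Cz z), r.2⟩ hr), fun e => ?_, ?_⟩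
  · rw [← Q.phi_y] at e
    exact h1 (Subtype.ext (Subtype.ext (mul_eq_left.1 (Q.phi_inj e))))
  · rw [Q.phi_mul (a := y) rfl (mem_cy.1 r.1.2) hc, Q.phi_y, map_mul, (rho_eq_one_iff D _).2 P.zC_mem,
      one_mul]
    rfl

include D in
theorem ker_central (Q : Pair y) (hy : y ≠ zC z) {k : P.J.subgroupOf (Subgroup.centralizer ({y} : Set (Cz z)))}
    (hk : k ∈ (psi D Q).ker) (r : P.J.subgroupOf (Subgroup.centralizer ({y} : Set (Cz z)))) :
    BV (vec D ⟨(k.1 : Cz z), k.2⟩) (vec D ⟨(r.1 : Cz z), r.2⟩) = 0 := by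
  refine (comm_iff D ⟨(k.1 : Cz z), k.2⟩ ⟨(r.1 : Cz z), r.2⟩).1 ?_
  show (k.1 : Cz z) * r.1 = r.1 * k.1
  rcases P.xc.commEl _ k.2 _ r.2 with h | h
  · exact mul_inv_eq_iff_eq_mul.1 h
  · exfalso
    have hz : inR (⟨zC z, P.zC_mem⟩ : P.J) (comm_zC y).symm = k * r * k⁻¹ * r⁻¹ := by
      refine Subtype.ext (Subtype.ext ?_)
      show zC z = (k.1 : Cz z) * r.1 * (k.1 : Cz z)⁻¹ * (r.1 : Cz z)⁻¹
      rw [show (k.1 : Cz z) * r.1 * (k.1 : Cz z)⁻¹ = zC z * r.1 from h, mul_inv_cancel_right]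
    have := congrArg (psi D Q) hz
    rw [psi_zC, map_mul, map_mul, map_mul, map_inv, map_inv, MonoidHom.mem_ker.1 hk] at this
    simp only [one_mul, inv_one, mul_one, mul_inv_cancel] at this
    exact y'_not_mem D Q hy ((rho_eq_one_iff D _).1 this)

theorem card_fix (hy2 : y * y = 1) :
    Nat.card {v // InC D y v} = Nat.card {u // D.actU y u = u} * nFix (rho D y) := by
  rw [nFix, ← Nat.card_prod]
  refine Nat.card_congr ((Equiv.subtypeEquivRight fun v => ?_).trans Equiv.subtypeProdEquivProd)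
  exact Prod.ext_iff

theorem card_fixU (hy2 : y * y = 1) : 2 ≤ Nat.card {u // D.actU y u = u} := by
  classical
  obtain ⟨u, hu0, hu⟩ : ∃ u : ZMod 2 × ZMod 2, u ≠ 0 ∧ D.actU y u = u := by
    have hinv : ∀ u, D.actU y (D.actU y u) = u := fun u =>
      congrArg Prod.fst (phiV_inv_of_sq D hy2 (u, 0))
    by_cases h : D.actU y (1, 0) = (1, 0)
    · exact ⟨_, by decide, h⟩
    · refine ⟨D.actU y (1, 0) + (1, 0), fun e => h ?_, by rw [map_add, hinv, add_comm]⟩
      calc D.actU y (1, 0) = D.actU y (1, 0) + ((1, 0) + (1, 0)) := by rw [U_two, add_zero]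
        _ = (1, 0) := by rw [← add_assoc, e, zero_add]
  haveI : Nontrivial {u // D.actU y u = u} :=
    ⟨⟨⟨u, hu⟩, ⟨0, map_zero _⟩, fun e => hu0 (congrArg Subtype.val e)⟩⟩
  exact Finite.one_lt_card

theorem card_fix_add (hy2 : y * y = 1) :
    Nat.card {v // InC D y v} * Nat.card {v // InA D y v} = 256 := by
  let T : VV →+ VV := AddMonoidHom.mk' (fun v => phiV D y v + v) fun a b => by rw [phiV_add]; abel
  have h := T.ker.card_mul_index
  rw [AddSubgroup.index_ker, show Nat.card VV = 256 by simp [VV, V6]] at h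
  rw [← h]
  congr 1
  · refine Nat.card_congr (Equiv.subtypeEquivRight fun v => ?_)
    show phiV D y v = v ↔ phiV D y v + v = 0
    constructor
    · intro e; rw [e, VV_two]
    · intro e
      calc phiV D y v = phiV D y v + v + v := by rw [add_assoc, VV_two, add_zero]
        _ = v := by rw [e, zero_add]

include D in
theorem card_fixU_inner (h : y ∈ P.H₁) : Nat.card {u // D.actU y u = u} = 4 := by
  rw [Nat.card_congr (Equiv.subtypeUnivEquiv fun u => actU_inner' D h u), Nat.card_prod, Nat.card_zmod]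

include D in
theorem rho_inv (Q : Pair y) (hy : y ≠ zC z) : rho D y * rho D y = 1 ∧ rho D y ≠ 1 :=
  ⟨by rw [← map_mul, y_sq (P := P) Q, map_one], fun e =>
    not_mem_J D (isConj_iff.2 ⟨Q.g, Q.hg⟩) hy ((rho_eq_one_iff D _).1 e)⟩

include D in
theorem card_R_ge (hy2 : y * y = 1) {j1 : P.J} (hne : (j1 : Cz z) * y ≠ y * j1)
    (hC1 : InC D y (vec D j1)) : Nat.card {v // InC D y v} ≤
      Nat.card ↥(P.J.subgroupOf (Subgroup.centralizer ({y} : Set (Cz z)))) := by
  classical
  let R := P.J.subgroupOf (Subgroup.centralizer ({y} : Set (Cz z)))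
  have h1 : Nat.card ({v // InC D y v} × Bool) ≤ Nat.card {j : P.J // InC D y (vec D j)} := by
    obtain ⟨pre, hpre⟩ : ∃ pre : {v // InC D y v} → P.J, ∀ v, vec D (pre v) = v.1 :=
      ⟨fun v => (vec_surj D v.1).choose, fun v => (vec_surj D v.1).choose_spec⟩
    have hzv : ∀ a : P.J, vec D (⟨zC z, P.zC_mem⟩ * a) = vec D a := fun a => by
      rw [vec_mul, (vec_eq_zero D ⟨zC z, P.zC_mem⟩).2 (Or.inr rfl), zero_add]
    refine Nat.card_le_card_of_injective
      (fun p => ⟨if p.2 then ⟨zC z, P.zC_mem⟩ * pre p.1 else pre p.1, ?_⟩) ?_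
    · split_ifs
      · rw [hzv, hpre]; exact p.1.2
      · rw [hpre]; exact p.1.2
    · rintro ⟨v, b⟩ ⟨w, c⟩ e
      have e' := Subtype.mk.inj e
      have hv : v = w := Subtype.ext (by
        have := congrArg (vec D) e'
        cases b <;> cases c <;> simpa [hzv, hpre] using this)
      subst hv
      refine Prod.ext rfl ?_
      cases b <;> cases c <;> simp only [Bool.false_eq_true, if_false, if_true] at e' ⊢
      · exact absurd (congrArg Subtype.val (mul_eq_right.1 e'.symm)) P.zC_ne_one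
      · exact absurd (congrArg Subtype.val (mul_eq_right.1 e')) P.zC_ne_one
  have h2 : Nat.card {j : P.J // InC D y (vec D j)} ≤ Nat.card (↥R × Bool) := by
    refine Nat.card_le_card_of_injective (fun j =>
      if h : (j.1 : Cz z) * y = y * j.1 then ((inR j.1 h : ↥R), false)
      else ((inR (j.1 * j1) (comm_of_two D hy2 j.2 hC1 h hne) : ↥R), true)) fun i j e => ?_
    dsimp only at e
    split_ifs at e with hi hj hj
    · exact Subtype.ext (Subtype.ext (congrArg (fun r : ↥R => (r.1 : Cz z)) (congrArg Prod.fst e)))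
    · simp at e
    · simp at e
    · exact Subtype.ext (mul_right_cancel
        (Subtype.ext (congrArg (fun r : ↥R => (r.1 : Cz z)) (congrArg Prod.fst e))))
  have := h1.trans h2
  rw [Nat.card_prod, Nat.card_prod] at this
  exact Nat.le_of_mul_le_mul_right this Nat.card_pos

include D in
/-- First reduction. -/
theorem okay (hconj : IsConj z (y : G)) (hy : y ≠ zC z) : Okay (rho D y) := by
  obtain ⟨Q⟩ := exists_pair hconj
  have hy2 := y_sq (P := P) Q
  obtain ⟨ha2, ha1⟩ := rho_inv D Q hy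
  refine ⟨ha2, ha1, ?_⟩
  by_contra hno
  push Not at hno
  have hbad : ¬ Qz (rho D y) ∧ 64 ≤ Nat.card {v // InC D y v} := by
    rw [card_fix D hy2]
    rcases types _ ha2 ha1 with ⟨h32, hq⟩ | ⟨h16, hq | hM⟩ | ⟨h8, -⟩
    · exact ⟨hq, by rw [h32]; nlinarith [card_fixU D hy2]⟩
    · exact absurd hq (hno.2 h16)
    · exact ⟨hno.2 h16, by rw [h16, card_fixU_inner D (mem_H₁_of_image D (hM _ (Or.inr (index_image D))))]⟩
    · exact absurd h8 hno.1
  obtain ⟨t, ht⟩ := not_forall.1 hbad.1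
  have ht1 := (zmod2 _).resolve_left ht
  obtain ⟨j1, hj1⟩ := vec_surj D ((0, ap (rho D y) t + t) : VV)
  have hA1 : InA D y (vec D j1) :=
    ⟨(0, t), by rw [hj1]; exact Prod.ext (by simp [phiV]) rfl⟩
  have hQ1 : QV D (vec D j1) = 1 := by
    rw [hj1]
    show D.qU 0 + q6 _ = 1
    rw [D.polU.2, ht1, zero_add]
  have hC1 := inA_inC D hy2 hA1
  have hne : (j1 : Cz z) * y ≠ y * j1 := by
    intro hcomm
    obtain ⟨d, j0, hdv, hd⟩ := exists_conj_elem D hy2 hA1
    have hdy : (d : Cz z) * y = y * d := by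
      rcases (vec_eq_iff D d j1).1 hdv with e | e
      · rw [← e]; exact hcomm
      · rw [e] at hcomm; exact (zmul_comm_iff _).1 hcomm
    have h2 : (y * d : Cz z) * (y * d) = 1 := by
      rw [hd, show (j0 : Cz z) * y * (j0 : Cz z)⁻¹ * (j0 * y * (j0 : Cz z)⁻¹) =
        j0 * (y * y) * (j0 : Cz z)⁻¹ by group, hy2]
      group
    have h3 : (d : Cz z) * d = 1 := by
      calc (d : Cz z) * d = y * y * ((d : Cz z) * d) := by rw [hy2, one_mul]
        _ = y * (y * (d : Cz z)) * d := by group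
        _ = y * ((d : Cz z) * y) * d := by rw [hdy]
        _ = (y * d : Cz z) * (y * d) := by group
        _ = 1 := h2
    rw [sq_one_iff D, hdv, hQ1] at h3
    exact one_ne_zero h3
  have hall : All D y := all_of D hy2 hconj (Or.inl ⟨j1, hC1, hne⟩)
  have hinj : (psi D Q).ker = ⊥ := by
    refine (Subgroup.eq_bot_iff_forall _).2 fun k hk => ?_
    by_contra hk1
    have hA : InA D y (vec D ⟨(k.1 : Cz z), k.2⟩) := by
      refine perp_fixed (f := phiV D y) (phiV_add D y) (phiV_inv_of_sq D hy2) (BV_phiV D y) fun v hv => ?_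
      obtain ⟨j, rfl⟩ := vec_surj D v
      have hk0 : ∀ (i : P.J) (hi : (i : Cz z) * y = y * i), BV (vec D ⟨(k.1 : Cz z), k.2⟩) (vec D i) = 0 :=
        fun i hi => ker_central D Q hy hk (inR i hi)
      by_cases hj : (j : Cz z) * y = y * j
      · exact hk0 j hj
      · have h2 := hk0 _ (comm_of_two D hy2 hv hC1 hj hne)
        rw [vec_mul, BV_add, BV_comm _ (vec D j1),
          BV_inA_inC D hA1 (inC_of_comm D (j := ⟨(k.1 : Cz z), k.2⟩) (mem_cy.1 k.1.2)), add_zero] at h2
        exact h2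
    obtain ⟨w, hw, hwz, hwr⟩ := psi_ne_one D Q hall hA hk1
    exact not_mem_J D hw hwz ((rho_eq_one_iff D _).1 (hwr.trans hk))
  have hR : 64 ≤ Nat.card ↥(P.J.subgroupOf (Subgroup.centralizer ({y} : Set (Cz z)))) :=
    hbad.2.trans (card_R_ge D hy2 hne hC1)
  refine commutators (psi D Q).range (isPGroup_range D Q) ?_ (rho D Q.y') ?_
  · rw [Nat.card_congr (MonoidHom.ofInjective ((MonoidHom.ker_eq_bot_iff _).1 hinj)).toEquiv.symm]
    exact hR
  · rintro _ ⟨a, rfl⟩ _ ⟨b, rfl⟩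
    rcases P.xc.commEl _ a.2 _ b.2 with h | h <;> rw [mul_inv_eq_iff_eq_mul] at h
    · exact Or.inl (by rw [← map_mul, ← map_mul]; exact congrArg (psi D Q) (Subtype.ext (Subtype.ext h)))
    · right
      rw [← psi_zC, ← map_mul, ← map_mul, ← map_mul]
      exact congrArg (psi D Q) (Subtype.ext (Subtype.ext (h.trans (mul_assoc _ _ _))))

end CfsgLib.U62Cent.Six
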