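import Cfsg.Agent.Lib.U62Cent.SixCode
import Cfsg.Agent.Lib.Classical.PSpFourThree

/-!
The orthogonal group of minus type in dimension six over two elements, and what the codes say about
its two-subgroups.
-/

set_option autoImplicit false
set_option maxRecDepth 100000

namespace CfsgLib.U62Cent.Six

/-- code of a vector -/
def vc6 (v : V6) : ℕ :=
  (v 0).val + 2 * (v 1).val + 4 * (v 2).val + 8 * (v 3).val + 16 * (v 4).val + 32 * (v 5).val

/-- vector of a code -/
def vo6 (c : ℕ) : V6 := fun i => (bit c i : ZMod 2)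

theorem two_zero : (2 : ZMod 2) = 0 := rfl

theorem V6_two (v : V6) : v + v = 0 := funext fun i => CharTwo.add_self_eq_zero (v i)

theorem vc6_lt (v : V6) : vc6 v < 64 := by
  have := ZMod.val_lt (v 0); have := ZMod.val_lt (v 1); have := ZMod.val_lt (v 2)
  have := ZMod.val_lt (v 3); have := ZMod.val_lt (v 4); have := ZMod.val_lt (v 5)
  unfold vc6; omega

theorem vo6_aux : ∀ a b c d e f : ZMod 2, ∀ i : Fin 6,
    vo6 (vc6 ![a, b, c, d, e, f]) i = ![a, b, c, d, e, f] i := by decide +kernel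

theorem vo6_vc6 (v : V6) : vo6 (vc6 v) = v := by
  have h : v = ![v 0, v 1, v 2, v 3, v 4, v 5] := by funext i; fin_cases i <;> rfl
  rw [h]
  exact funext (vo6_aux _ _ _ _ _ _)

theorem vc6_vo6 : ∀ c < 64, vc6 (vo6 c) = c := by decide +kernel

theorem vc6_inj {u v : V6} (h : vc6 u = vc6 v) : u = v := by rw [← vo6_vc6 u, ← vo6_vc6 v, h]

theorem vo6_inj {a b : ℕ} (ha : a < 64) (hb : b < 64) (h : vo6 a = vo6 b) : a = b := by
  rw [← vc6_vo6 a ha, ← vc6_vo6 b hb, h]

theorem xor_lt64 {a b : ℕ} (ha : a < 64) (hb : b < 64) : Nat.xor a b < 64 :=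
  Nat.xor_lt_two_pow (n := 6) ha hb

theorem vo6_xor (a b : ℕ) : vo6 (Nat.xor a b) = vo6 a + vo6 b := by
  have h : ∀ x < 2, ∀ y < 2, ((Nat.xor x y : ℕ) : ZMod 2) = (x : ZMod 2) + y := by decide +kernel
  funext i
  have hl : ∀ x : ℕ, bit x i < 2 := fun x => Nat.lt_succ_of_le Nat.and_le_right
  show ((bit (Nat.xor a b) i : ℕ) : ZMod 2) = (bit a i : ZMod 2) + bit b i
  rw [← h _ (hl a) _ (hl b)]
  congr 1
  show ((a ^^^ b) >>> (i : ℕ)) &&& 1 = ((a >>> (i : ℕ)) &&& 1) ^^^ ((b >>> (i : ℕ)) &&& 1)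
  rw [Nat.shiftRight_xor_distrib, Nat.and_xor_distrib_right]

theorem vc6_add (u v : V6) : vc6 (u + v) = Nat.xor (vc6 u) (vc6 v) :=
  vo6_inj (vc6_lt _) (xor_lt64 (vc6_lt u) (vc6_lt v)) (by rw [vo6_xor, vo6_vc6, vo6_vc6, vo6_vc6])

theorem vc6_eq_zero {v : V6} : vc6 v = 0 ↔ v = 0 :=
  ⟨fun h => vc6_inj (h.trans (by rfl)), fun h => by rw [h]; rfl⟩

/-! ### the form -/

/-- the polar form -/
def B6 (u v : V6) : ZMod 2 := u 0 * v 1 + u 1 * v 0 + u 2 * v 3 + u 3 * v 2 + u 4 * v 5 + u 5 * v 4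

theorem q6_add (u v : V6) : q6 (u + v) = q6 u + q6 v + B6 u v := by
  simp only [q6, B6, Pi.add_apply]
  linear_combination (u 4 * v 4 + u 5 * v 5) * two_zero

theorem B6_add (u v w : V6) : B6 u (v + w) = B6 u v + B6 u w := by
  simp only [B6, Pi.add_apply]; ring

theorem B6_comm (u v : V6) : B6 u v = B6 v u := by simp only [B6]; ring

theorem B6_add_left (u v w : V6) : B6 (u + v) w = B6 u w + B6 v w := by
  rw [B6_comm, B6_add, B6_comm w, B6_comm w]

theorem B6_self (u : V6) : B6 u u = 0 := by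
  simp only [B6]
  linear_combination (u 0 * u 1 + u 2 * u 3 + u 4 * u 5) * two_zero

theorem B6_zero (u : V6) : B6 u 0 = 0 := by simp [B6]

theorem q6_zero : q6 0 = 0 := rfl

theorem qC_lt (c : ℕ) : qC c < 2 := Nat.lt_succ_of_le Nat.and_le_right

theorem qC_vc (v : V6) : (qC (vc6 v) : ZMod 2) = q6 v := by
  have h : ∀ c < 64, (qC c : ZMod 2) = q6 (vo6 c) := by decide +kernel
  rw [h _ (vc6_lt v), vo6_vc6]

theorem bC_lt (a b : ℕ) : bC a b < 2 :=
  Nat.xor_lt_two_pow (n := 1) (Nat.xor_lt_two_pow (n := 1) (qC_lt _) (qC_lt _)) (qC_lt _)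

theorem bC_vc (u v : V6) : (bC (vc6 u) (vc6 v) : ZMod 2) = B6 u v := by
  have h : ∀ x < 2, ∀ y < 2, ((Nat.xor x y : ℕ) : ZMod 2) = (x : ZMod 2) + y := by decide +kernel
  have hx : ∀ a b, Nat.xor (qC a) (qC b) < 2 := fun a b =>
    Nat.xor_lt_two_pow (n := 1) (qC_lt a) (qC_lt b)
  rw [bC, ← vc6_add, h _ (hx _ _) _ (qC_lt _),
    h _ (qC_lt _) _ (qC_lt _), qC_vc, qC_vc, qC_vc, q6_add]
  linear_combination (q6 u + q6 v) * two_zero

theorem cast_eq_iff {x : ℕ} (hx : x < 2) {y : ℕ} (hy : y < 2) : (x : ZMod 2) = (y : ZMod 2) ↔ x = y :=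
  ⟨fun h => (by decide : ∀ a : ℕ, a < 2 → ∀ b : ℕ, b < 2 → (a : ZMod 2) = (b : ZMod 2) → a = b) x hx y hy h,
    fun h => by rw [h]⟩

theorem q_eq_one {v : V6} : q6 v = 1 ↔ qC (vc6 v) = 1 := by
  rw [← qC_vc, ← cast_eq_iff (qC_lt _) Nat.one_lt_two, Nat.cast_one]

theorem q_eq_zero {v : V6} : q6 v = 0 ↔ qC (vc6 v) = 0 := by
  rw [← qC_vc, ← cast_eq_iff (qC_lt _) Nat.zero_lt_two, Nat.cast_zero]

theorem B_eq_one {u v : V6} : B6 u v = 1 ↔ bC (vc6 u) (vc6 v) = 1 := by
  rw [← bC_vc, ← cast_eq_iff (bC_lt _ _) Nat.one_lt_two, Nat.cast_one]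

theorem B_eq_zero {u v : V6} : B6 u v = 0 ↔ bC (vc6 u) (vc6 v) = 0 := by
  rw [← bC_vc, ← cast_eq_iff (bC_lt _ _) Nat.zero_lt_two, Nat.cast_zero]

theorem zmod2 (x : ZMod 2) : x = 0 ∨ x = 1 := (by decide : ∀ y : ZMod 2, y = 0 ∨ y = 1) x

/-! ### the group -/

/-- the orthogonal group -/
def O6 : Subgroup (AddMonoid.End V6)ˣ where
  carrier := {u | ∀ v, q6 ((u : AddMonoid.End V6) v) = q6 v}
  one_mem' _ := rfl
  mul_mem' {a b} ha hb v := (ha ((b : AddMonoid.End V6) v)).trans (hb v)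
  inv_mem' {a} ha v := by
    have h := ha (((a⁻¹ : (AddMonoid.End V6)ˣ) : AddMonoid.End V6) v)
    have e : ((a * a⁻¹ : (AddMonoid.End V6)ˣ) : AddMonoid.End V6) v = v := by
      rw [mul_inv_cancel]; rfl
    rw [Units.val_mul] at e
    exact h.symm.trans (congrArg q6 e)

/-- the action -/
def ap (u : O6) (v : V6) : V6 := ((u : (AddMonoid.End V6)ˣ) : AddMonoid.End V6) v

theorem ap_add (u : O6) (v w : V6) : ap u (v + w) = ap u v + ap u w := map_add _ v w

theorem ap_zero (u : O6) : ap u 0 = 0 := map_zero _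

theorem ap_mul (u u' : O6) (v : V6) : ap (u * u') v = ap u (ap u' v) := rfl

theorem ap_one (v : V6) : ap 1 v = v := rfl

theorem ap_q (u : O6) (v : V6) : q6 (ap u v) = q6 v := u.2 v

theorem ap_B (u : O6) (v w : V6) : B6 (ap u v) (ap u w) = B6 v w := by
  have h := ap_q u (v + w)
  rw [ap_add, q6_add, q6_add, ap_q, ap_q] at h
  linear_combination h

theorem O6_ext {u u' : O6} (h : ∀ v, ap u v = ap u' v) : u = u' :=
  Subtype.ext (Units.ext (DFunLike.ext _ _ h))

theorem ap_inv_ap (u : O6) (v : V6) : ap u⁻¹ (ap u v) = v := by rw [← ap_mul, inv_mul_cancel, ap_one]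

theorem ap_ap_inv (u : O6) (v : V6) : ap u (ap u⁻¹ v) = v := by rw [← ap_mul, mul_inv_cancel, ap_one]

theorem ap_injective (u : O6) : Function.Injective (ap u) := fun a b h => by
  rw [← ap_inv_ap u a, h, ap_inv_ap]

instance O6_finite : Finite O6 :=
  Finite.of_injective (fun u v => ap u v) fun _ _ h => O6_ext (congrFun h)

/-! ### codes of maps -/

/-- code of a map -/
def cd (u : O6) : ℕ := pack fun i => vc6 (ap u (vo6 (2 ^ i)))

theorem ent_pack (f : ℕ → ℕ) (hf : ∀ i, f i < 64) : ∀ i < 6, ent (pack f) i = f i := by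
  intro i hi
  have h0 := hf 0; have h1 := hf 1; have h2 := hf 2; have h3 := hf 3; have h4 := hf 4; have h5 := hf 5
  show (pack f >>> (6 * i)) &&& (2 ^ 6 - 1) = f i
  rw [Nat.and_two_pow_sub_one_eq_mod, Nat.shiftRight_eq_div_pow]
  interval_cases i <;> simp only [pack] <;> omega

theorem app_cd (u : O6) (v : V6) : app (cd u) (vc6 v) = vc6 (ap u v) := by
  obtain ⟨f, hf⟩ : ∃ f : ℕ → ℕ, f = fun i => vc6 (ap u (vo6 i)) := ⟨_, rfl⟩
  have hadd : ∀ a b, f (Nat.xor a b) = Nat.xor (f a) (f b) := fun a b => by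
    simp only [hf]; rw [vo6_xor, ap_add, vc6_add]
  have h0 : f 0 = 0 := by
    simp only [hf]; rw [show vo6 0 = 0 from by decide +kernel, ap_zero]; rfl
  have hb : ∀ c i, f (bit c i * 2 ^ i) = bit c i * f (2 ^ i) := fun c i => by
    rcases Nat.le_one_iff_eq_zero_or_eq_one.1 (show bit c i ≤ 1 from Nat.and_le_right) with h | h
    · rw [h, zero_mul, zero_mul, h0]
    · rw [h, one_mul, one_mul]
  have hsplit : ∀ c < 64, Nat.xor (Nat.xor (Nat.xor (Nat.xor (Nat.xor (bit c 0 * 2 ^ 0)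
      (bit c 1 * 2 ^ 1)) (bit c 2 * 2 ^ 2)) (bit c 3 * 2 ^ 3)) (bit c 4 * 2 ^ 4)) (bit c 5 * 2 ^ 5)
      = c := by decide +kernel
  have he : ∀ i < 6, ent (cd u) i = f (2 ^ i) := fun i hi => by
    rw [cd, ent_pack (fun i => vc6 (ap u (vo6 (2 ^ i)))) (fun _ => vc6_lt _) i hi, hf]
  have key := congrArg f (hsplit _ (vc6_lt v))
  rw [hadd, hadd, hadd, hadd, hadd, hb, hb, hb, hb, hb, hb] at key
  rw [app, he 0 (by norm_num), he 1 (by norm_num), he 2 (by norm_num), he 3 (by norm_num),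
    he 4 (by norm_num), he 5 (by norm_num), key, hf]
  simp only [vo6_vc6]

theorem cd_inj {u u' : O6} (h : cd u = cd u') : u = u' :=
  O6_ext fun v => vc6_inj (by rw [← app_cd, ← app_cd, h])

theorem cd_one : cd 1 = oneC := by decide +kernel

theorem pack_congr {f g : ℕ → ℕ} (h : ∀ i < 6, f i = g i) : pack f = pack g := by
  simp only [pack, h 0 (by norm_num), h 1 (by norm_num), h 2 (by norm_num), h 3 (by norm_num),
    h 4 (by norm_num), h 5 (by norm_num)]

theorem cd_mul (u u' : O6) : cd (u * u') = mulC (cd u) (cd u') := pack_congr fun i hi => by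
  have e : ent (cd u') i = vc6 (ap u' (vo6 (2 ^ i))) := ent_pack _ (fun _ => vc6_lt _) i hi
  rw [e, app_cd]
  rfl

theorem cd_eq_one {u : O6} : cd u = oneC ↔ u = 1 :=
  ⟨fun h => cd_inj (h.trans cd_one.symm), fun h => by rw [h, cd_one]⟩

theorem cd_comm {u u' : O6} : mulC (cd u) (cd u') = mulC (cd u') (cd u) ↔ u * u' = u' * u := by
  rw [← cd_mul, ← cd_mul]
  exact ⟨cd_inj, fun h => by rw [h]⟩

/-! ### reflections -/

theorem rfl_add (a u v : V6) :
    u + v + B6 a (u + v) • a = (u + B6 a u • a) + (v + B6 a v • a) := by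
  rw [B6_add, add_smul]; abel

/-- the reflection as an endomorphism -/
def rfEnd (a : V6) : AddMonoid.End V6 := AddMonoidHom.mk' (fun v => v + B6 a v • a) (rfl_add a)

theorem rfEnd_sq (a : V6) : rfEnd a * rfEnd a = 1 := by
  refine DFunLike.ext _ _ fun v => ?_
  show (v + B6 a v • a) + B6 a (v + B6 a v • a) • a = v
  rcases zmod2 (B6 a v) with h | h
  · simp [h]
  · rw [h, one_smul, B6_add, h, B6_self, add_zero, one_smul, add_assoc, V6_two, add_zero]

/-- the reflection -/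
def rf (a : V6) (ha : q6 a = 1) : O6 :=
  ⟨⟨rfEnd a, rfEnd a, rfEnd_sq a, rfEnd_sq a⟩, fun v => by
    show q6 (v + B6 a v • a) = q6 v
    rcases zmod2 (B6 a v) with h | h
    · simp [h]
    · rw [h, one_smul, q6_add, ha, B6_comm, h, add_assoc, CharTwo.add_self_eq_zero, add_zero]⟩

theorem rf_sq (a : V6) (ha : q6 a = 1) : rf a ha * rf a ha = 1 :=
  Subtype.ext (Units.ext (rfEnd_sq a))

theorem vc_rf (a : V6) (ha : q6 a = 1) (v : V6) : vc6 (ap (rf a ha) v) = rC (vc6 a) (vc6 v) := by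
  show vc6 (v + B6 a v • a) = _
  rcases zmod2 (B6 a v) with h | h
  · rw [rC, B_eq_zero.1 h, h, zero_smul, add_zero]; rfl
  · rw [rC, B_eq_one.1 h, h, one_smul, vc6_add]; rfl

/-- a product of two reflections -/
def sP (a b : V6) (ha : q6 a = 1) (hb : q6 b = 1) : O6 := rf a ha * rf b hb

theorem vc_sP (a b : V6) (ha : q6 a = 1) (hb : q6 b = 1) (v : V6) :
    vc6 (ap (sP a b ha hb) v) = sC (vc6 a) (vc6 b) (vc6 v) := by
  rw [sP, ap_mul, vc_rf, vc_rf]; rfl

theorem cd_sP (a b : V6) (ha : q6 a = 1) (hb : q6 b = 1) :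
    cd (sP a b ha hb) = sPack (vc6 a) (vc6 b) := by
  have e : ∀ i < 6, vc6 (vo6 (2 ^ i)) = 2 ^ i := by decide +kernel
  simp only [cd, sPack, pack, vc_sP]
  rw [e 0 (by norm_num), e 1 (by norm_num), e 2 (by norm_num), e 3 (by norm_num), e 4 (by norm_num),
    e 5 (by norm_num)]

theorem ap_sP_fix {a b v : V6} (ha : q6 a = 1) (hb : q6 b = 1) (h1 : B6 a v = 0) (h2 : B6 b v = 0) :
    ap (sP a b ha hb) v = v := by
  show (v + B6 b v • b) + B6 a (v + B6 b v • b) • a = v
  simp [h2, h1]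

theorem sP_cube {a b : V6} (ha : q6 a = 1) (hb : q6 b = 1) (h : B6 a b = 1) :
    sP a b ha hb * (sP a b ha hb * sP a b ha hb) = 1 := by
  refine O6_ext fun v => vc6_inj ?_
  rw [ap_mul, ap_mul, vc_sP, vc_sP, vc_sP, ap_one]
  have key : ((List.range 64).all fun x => (List.range 64).all fun y =>
      !(Nat.beq (qC x) 1 && Nat.beq (qC y) 1 && Nat.beq (bC x y) 1) || (List.range 64).all fun w =>
        Nat.beq (sC x y (sC x y (sC x y w))) w) = true := by decide +kernel
  simp only [List.all_eq_true, List.mem_range] at key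
  have h' := key _ (vc6_lt a) _ (vc6_lt b)
  simp only [q_eq_one.1 ha, q_eq_one.1 hb, B_eq_one.1 h, Nat.beq_refl, Bool.and_self, Bool.not_true,
    Bool.false_or, List.all_eq_true, List.mem_range] at h'
  exact Nat.eq_of_beq_eq_true (h' _ (vc6_lt v))

/-- A subgroup of index at most two contains the products of two reflections meeting each other. -/
theorem sP_mem {M : Subgroup O6} (hM : M.index = 1 ∨ M.index = 2) {a b : V6} (ha : q6 a = 1)
    (hb : q6 b = 1) (h : B6 a b = 1) : sP a b ha hb ∈ M := by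
  rcases hM with hM | hM
  · rw [Subgroup.index_eq_one.1 hM]; exact Subgroup.mem_top _
  · have e : sP a b ha hb = (sP a b ha hb * sP a b ha hb) * (sP a b ha hb * sP a b ha hb) := by
      conv_lhs => rw [← one_mul (sP a b ha hb), ← sP_cube ha hb h]
      simp only [mul_assoc]
    rw [e]
    exact M.mul_mem (Subgroup.mul_self_mem_of_index_two hM _) (Subgroup.mul_self_mem_of_index_two hM _)

/-- coordinates of the standard form -/
def iotaSix : CfsgLib.Classical.ESix.I2 → Fin 6 := Sum.elim (Sum.elim ![0, 2] ![1, 3]) ![4, 5]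

theorem iotaSix_bij : Function.Bijective iotaSix := by decide +kernel

/-- the coordinate change -/
noncomputable def stdEquiv : V6 ≃ₗ[ZMod 2] CfsgLib.Classical.ESix.V2 :=
  LinearEquiv.funCongrLeft (ZMod 2) (ZMod 2) (Equiv.ofBijective iotaSix iotaSix_bij)

theorem f2_stdEquiv (v : V6) : CfsgLib.Classical.ESix.f2 (stdEquiv v) = q6 v := by
  show Cfsg.quadFormMinus 2 (ZMod 2) 1 1 (fun i => v (iotaSix i)) = q6 v
  simp [Cfsg.quadFormMinus, q6, Fin.sum_univ_two, iotaSix]
  generalize v 0 = a, v 1 = b, v 2 = c, v 3 = d, v 4 = e, v 5 = f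
  revert a b c d e f
  decide

theorem card_O6 : Nat.card O6 = 51840 := by
  rw [← CfsgLib.Classical.ESix.card_orth_two]
  symm
  refine Nat.card_congr
    { toFun := fun g => ⟨⟨AddMonoidHom.mk' (fun v => stdEquiv.symm (g.1 (stdEquiv v)))
          (fun a b => by simp [map_add]),
        AddMonoidHom.mk' (fun v => stdEquiv.symm (g.1.symm (stdEquiv v)))
          (fun a b => by simp [map_add]),
        DFunLike.ext _ _ fun v => by
          show stdEquiv.symm (g.1 (stdEquiv (stdEquiv.symm (g.1.symm (stdEquiv v))))) = v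
          simp,
        DFunLike.ext _ _ fun v => by
          show stdEquiv.symm (g.1.symm (stdEquiv (stdEquiv.symm (g.1 (stdEquiv v))))) = v
          simp⟩, fun v => by
        show q6 (stdEquiv.symm (g.1 (stdEquiv v))) = q6 v
        rw [← f2_stdEquiv, LinearEquiv.apply_symm_apply, ← CfsgLib.Classical.ESix.Q2_apply, g.2,
          CfsgLib.Classical.ESix.Q2_apply, f2_stdEquiv]⟩
      invFun := fun u => ⟨
        { toFun := fun w => stdEquiv (ap u (stdEquiv.symm w))
          map_add' := fun a b => by simp [ap_add, map_add]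
          map_smul' := fun c a => by
            rcases zmod2 c with rfl | rfl <;> simp [ap_zero]
          invFun := fun w => stdEquiv (ap u⁻¹ (stdEquiv.symm w))
          left_inv := fun w => by simp [ap_inv_ap]
          right_inv := fun w => by simp [ap_ap_inv] }, fun w => by
        show CfsgLib.Classical.ESix.Q2 (stdEquiv (ap u (stdEquiv.symm w))) = _
        rw [CfsgLib.Classical.ESix.Q2_apply, CfsgLib.Classical.ESix.Q2_apply, f2_stdEquiv, ap_q,
          ← f2_stdEquiv, LinearEquiv.apply_symm_apply]⟩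
      left_inv := fun g => Subtype.ext (LinearEquiv.ext fun w => by
        show stdEquiv (stdEquiv.symm (g.1 (stdEquiv (stdEquiv.symm w)))) = _
        simp)
      right_inv := fun u => O6_ext fun v => by
        show stdEquiv.symm (stdEquiv (ap u (stdEquiv.symm (stdEquiv v)))) = ap u v
        simp }

end CfsgLib.U62Cent.Six
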