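import Cfsg.Agent.Lib.U62Cent.SixTwo

/-!
Involutions of the orthogonal group by their fixed vectors, read off from the coded Sylow subgroup.
-/

set_option autoImplicit false
set_option linter.style.haveILetI false
set_option maxRecDepth 100000

namespace CfsgLib.U62Cent.Six

/-- number of fixed vectors -/
noncomputable def nFix (u : O6) : ℕ := Nat.card {v // ap u v = v}

/-- the image of `u + 1` is totally singular -/
def Qz (u : O6) : Prop := ∀ v, q6 (ap u v + v) = 0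

/-- the types left by the first reduction -/
def Okay (u : O6) : Prop := u * u = 1 ∧ u ≠ 1 ∧ (nFix u = 8 ∨ (nFix u = 16 ∧ Qz u))

theorem nFix_conj (g u : O6) : nFix (g * u * g⁻¹) = nFix u := by
  refine Nat.card_congr
    { toFun := fun v => ⟨ap g⁻¹ v.1, ?_⟩
      invFun := fun v => ⟨ap g v.1, ?_⟩
      left_inv := fun v => Subtype.ext (ap_ap_inv g v.1)
      right_inv := fun v => Subtype.ext (ap_inv_ap g v.1) }
  · have h := congrArg (ap g⁻¹) v.2
    rwa [ap_mul, ap_mul, ap_inv_ap] at h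
  · rw [ap_mul, ap_mul, ap_inv_ap, v.2]

theorem Qz_conj (g u : O6) : Qz (g * u * g⁻¹) ↔ Qz u := by
  constructor
  · intro h v
    have := h (ap g v)
    rwa [ap_mul, ap_mul, ap_inv_ap, ← ap_add, ap_q] at this
  · intro h v
    rw [ap_mul, ap_mul]
    conv_lhs => arg 1; arg 2; rw [← ap_ap_inv g v]
    rw [← ap_add, ap_q]
    exact h _

theorem inv_conj {g u : O6} (h : u * u = 1) : g * u * g⁻¹ * (g * u * g⁻¹) = 1 := by
  rw [show g * u * g⁻¹ * (g * u * g⁻¹) = g * (u * u) * g⁻¹ by group, h]; group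

theorem ne_one_conj {g u : O6} (h : u ≠ 1) : g * u * g⁻¹ ≠ 1 := fun e => h (by
  rw [show u = g⁻¹ * (g * u * g⁻¹) * g by group, e]; group)

theorem Okay.conj {u : O6} (h : Okay u) (g : O6) : Okay (g * u * g⁻¹) :=
  ⟨inv_conj h.1, ne_one_conj h.2.1, by rw [nFix_conj, Qz_conj]; exact h.2.2⟩

theorem fixN_cd (u : O6) : fixN (cd u) = nFix u := by
  rw [nFix, count_eq (f := fun c => Nat.beq (app (cd u) c) c) fun v => ?_]
  · rfl
  · rw [app_cd]
    exact ⟨fun h => by rw [h]; exact Nat.beq_refl _, fun h => vc6_inj (Nat.eq_of_beq_eq_true h)⟩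

theorem qz_cd (u : O6) : qz (cd u) = true ↔ Qz u := by
  constructor
  · intro h v
    have h' := of_all h v
    rw [app_cd, ← vc6_add] at h'
    exact q_eq_zero.2 (Nat.eq_of_beq_eq_true h')
  · intro h
    simp only [qz, List.all_eq_true, List.mem_range]
    intro c hc
    have := q_eq_zero.1 (h (vo6 c))
    rw [vc6_add, ← app_cd, vc6_vo6 c hc] at this
    rw [this]; rfl

theorem invC_cd {u : O6} : invC (cd u) = true ↔ u * u = 1 ∧ u ≠ 1 := by
  simp only [invC, Bool.and_eq_true, Bool.not_eq_true', ← cd_mul]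
  constructor
  · rintro ⟨h1, h2⟩
    exact ⟨cd_eq_one.1 (Nat.eq_of_beq_eq_true h1), fun e => Nat.ne_of_beq_eq_false h2 (cd_eq_one.2 e)⟩
  · rintro ⟨h1, h2⟩
    refine ⟨by rw [cd_eq_one.2 h1]; exact Nat.beq_refl _, ?_⟩
    rw [← Bool.not_eq_true]
    exact fun e => h2 (cd_eq_one.1 (Nat.eq_of_beq_eq_true e))

theorem mem_okl {u : O6} (hu : u ∈ Syl) (h : Okay u) : cd u ∈ okl := by
  refine List.mem_filter.2 ⟨cd_mem_el hu, ?_⟩
  rw [Bool.and_eq_true, okType, fixN_cd]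
  refine ⟨invC_cd.2 ⟨h.1, h.2.1⟩, ?_⟩
  rcases h.2.2 with e | ⟨e, q⟩
  · rw [e]; rfl
  · rw [e, (qz_cd u).2 q]; rfl

/-- The three types of involutions. -/
theorem types (u : O6) (h2 : u * u = 1) (h1 : u ≠ 1) :
    (nFix u = 32 ∧ ¬ Qz u) ∨ (nFix u = 16 ∧ (Qz u ∨ ∀ M : Subgroup O6, (M.index = 1 ∨ M.index = 2) → u ∈ M)) ∨
      (nFix u = 8 ∧ ¬ Qz u) := by
  haveI : Fact (Nat.Prime 2) := ⟨Nat.prime_two⟩
  have hX : IsPGroup 2 (Subgroup.zpowers u) := IsPGroup.of_card (n := 1) (by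
    rw [Nat.card_zpowers, orderOf_eq_prime (by rw [pow_two, h2]) h1, pow_one])
  obtain ⟨g, hg⟩ := exists_conj_el _ hX
  have hu' := hg u (Subgroup.mem_zpowers u)
  have h := List.all_eq_true.1 el_types _ (cd_mem_el hu')
  simp only [invC_cd.2 ⟨inv_conj h2, ne_one_conj h1⟩, Bool.not_true, Bool.false_or, Bool.or_eq_true,
    Bool.and_eq_true, Bool.not_eq_true', fixN_cd, nFix_conj] at h
  rcases h with (⟨h3, h4⟩ | ⟨h3, h4⟩) | ⟨h3, h5⟩
  · refine Or.inl ⟨Nat.eq_of_beq_eq_true h3, fun hq => ?_⟩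
    rw [(qz_cd _).2 ((Qz_conj g u).2 hq)] at h4
    cases h4
  · refine Or.inr (Or.inl ⟨Nat.eq_of_beq_eq_true h3, ?_⟩)
    rcases h4 with h4 | h4
    · exact Or.inl ((Qz_conj g u).1 ((qz_cd _).1 h4))
    refine Or.inr fun M hM => ?_
    obtain ⟨r, -, hr⟩ := List.any_eq_true.1 h4
    simp only [Bool.and_eq_true, decide_eq_true_eq] at hr
    obtain ⟨⟨⟨⟨⟨⟨⟨-, hc⟩, hq1⟩, hqc⟩, hq2⟩, hb1⟩, hb2⟩, hl1, hlc, hl2⟩ := hr
    rw [← vc6_vo6 _ hl1] at hc hq1 hb1
    rw [← vc6_vo6 _ hlc] at hqc hb1 hb2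
    rw [← vc6_vo6 _ hl2] at hc hq2 hb2
    have a1 := q_eq_one.2 (Nat.eq_of_beq_eq_true hq1)
    have ac := q_eq_one.2 (Nat.eq_of_beq_eq_true hqc)
    have a2 := q_eq_one.2 (Nat.eq_of_beq_eq_true hq2)
    rw [← cd_sP _ _ a1 a2] at hc
    have he : g * u * g⁻¹ = sP _ _ a1 a2 := (cd_inj (Nat.eq_of_beq_eq_true hc)).symm
    have e2 : sP _ _ a1 a2 = sP _ _ a1 ac * sP _ _ ac a2 := by
      simp only [sP]
      rw [mul_assoc, ← mul_assoc (rf _ ac), rf_sq, one_mul]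
    have hm : g * u * g⁻¹ ∈ M := by
      rw [he, e2]
      exact mul_mem (sP_mem hM a1 ac (B_eq_one.2 (Nat.eq_of_beq_eq_true hb1)))
        (sP_mem hM ac a2 (B_eq_one.2 (Nat.eq_of_beq_eq_true hb2)))
    rcases hM with hM | hM
    · rw [Subgroup.index_eq_one.1 hM]; exact Subgroup.mem_top _
    · haveI := Subgroup.normal_of_index_eq_two hM
      have := (inferInstance : M.Normal).conj_mem _ hm g⁻¹
      simpa [mul_assoc] using this
  · refine Or.inr (Or.inr ⟨Nat.eq_of_beq_eq_true h3, fun hq => ?_⟩)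
    rw [(qz_cd _).2 ((Qz_conj g u).2 hq)] at h5
    cases h5

/-- No elementary subgroup of order eight consists of the remaining types. -/
theorem eight_le_false (Y : Subgroup O6) (h8 : 8 ≤ Nat.card Y) (hY : ∀ y ∈ Y, y ≠ 1 → Okay y) : False := by
  classical
  haveI : Fact (Nat.Prime 2) := ⟨Nat.prime_two⟩
  have hp : IsPGroup 2 Y := fun y => ⟨1, by
    rw [pow_one, pow_two]
    by_cases e : (y : O6) = 1
    · exact Subtype.ext (by rw [Subgroup.coe_mul, e, mul_one]; rfl)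
    · exact Subtype.ext (hY _ y.2 e).1⟩
  obtain ⟨g, hg⟩ := exists_conj_el Y hp
  haveI := Fintype.ofFinite Y
  have hpick : ∀ s : Finset Y, s.card < 8 → ∃ y, y ∉ s := by
    intro s hs
    by_contra hall
    push Not at hall
    rw [Nat.card_eq_fintype_card] at h8
    have := Finset.card_le_card (s := (Finset.univ : Finset Y)) (t := s) (fun y _ => hall y)
    rw [Finset.card_univ] at this
    omega
  have hc : ∀ y : Y, y ≠ 1 → cd (g * y * g⁻¹) ∈ okl := fun y hy =>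
    mem_okl (hg _ y.2) ((hY _ y.2 fun e => hy (Subtype.ext e)).conj g)
  have hsq : ∀ y : Y, y * y = 1 := fun y => by
    by_cases e : y = 1
    · rw [e, mul_one]
    · exact Subtype.ext (hY _ y.2 fun e' => e (Subtype.ext e')).1
  obtain ⟨x, hx⟩ := hpick {1} (by simp)
  obtain ⟨y, hy⟩ := hpick {1, x} ((Finset.card_le_two).trans_lt (by norm_num))
  obtain ⟨w, hw⟩ := hpick {1, x, y, x * y} ((Finset.card_le_four).trans_lt (by norm_num))
  simp only [Finset.mem_singleton, Finset.mem_insert, not_or] at hx hy hw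
  have hmul : ∀ a b : Y, a ≠ b → a * b ≠ 1 := fun a b h e => h (by
    calc a = a * (b * b) := by rw [hsq, mul_one]
      _ = b := by rw [← mul_assoc, e, one_mul])
  have hinj : ∀ a b : Y, cd (g * a * g⁻¹) = cd (g * b * g⁻¹) → a = b := fun a b e => Subtype.ext (by
    have := cd_inj e
    exact mul_left_cancel (mul_right_cancel this))
  have hm : ∀ a b : Y, cd (g * (a * b : Y) * g⁻¹) = mulC (cd (g * a * g⁻¹)) (cd (g * b * g⁻¹)) := fun a b => by
    rw [← cd_mul, Subgroup.coe_mul]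
    congr 1
    group
  have h := List.all_eq_true.1 (List.all_eq_true.1 no_eight _ (hc x hx)) _ (hc y hy.1)
  have hxy := hc _ (hmul x y (Ne.symm hy.2))
  rw [hm] at hxy
  have hne : ∀ a b : Y, a ≠ b → Nat.beq (cd (g * a * g⁻¹)) (cd (g * b * g⁻¹)) = false := fun a b hab => by
    rw [← Bool.not_eq_true]
    exact fun e => hab (hinj a b (Nat.eq_of_beq_eq_true e))
  simp only [hne x y (Ne.symm hy.2), List.contains_iff_mem.2 hxy, Bool.not_true, Bool.false_or] at h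
  have h' := List.all_eq_true.1 h _ (hc w hw.1)
  have k1 := hne w _ hw.2.2.2
  rw [hm] at k1
  have m1 := hc _ (hmul x w (Ne.symm hw.2.1))
  have m2 := hc _ (hmul y w (Ne.symm hw.2.2.1))
  have m3 := hc _ (hmul (x * y) w (Ne.symm hw.2.2.2))
  rw [hm] at m1 m2
  rw [hm, hm] at m3
  simp only [hne w x hw.2.1, hne w y hw.2.2.1, k1, List.contains_iff_mem.2 m1,
    List.contains_iff_mem.2 m2, List.contains_iff_mem.2 m3, Bool.and_self, Bool.not_true,
    Bool.or_self] at h'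
  cases h'

/-- Only `1` and `t` centralise all reflection pairs fixed by `t`. -/
theorem centraliser_three (t x : O6) (X : Subgroup O6) (hX : IsPGroup 2 X) (htX : t ∈ X) (hxX : x ∈ X)
    (h2 : t * t = 1) (h1 : t ≠ 1) (h16 : nFix t = 16) (hq : Qz t) (hxt : x * t = t * x)
    (hcomm : ∀ a b (ha : q6 a = 1) (hb : q6 b = 1), B6 a b = 1 → ap t a = a → ap t b = b →
      x * sP a b ha hb = sP a b ha hb * x) : x = 1 ∨ x = t := by
  obtain ⟨g, hg⟩ := exists_conj_el X hX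
  have hinj : ∀ p r : O6, g * p * g⁻¹ = g * r * g⁻¹ → p = r := fun p r e =>
    mul_left_cancel (mul_right_cancel e)
  have h := List.all_eq_true.1 cent_three _ (cd_mem_el (hg t htX))
  simp only [invC_cd.2 ⟨inv_conj h2, ne_one_conj h1⟩, fixN_cd, nFix_conj, h16,
    (qz_cd _).2 ((Qz_conj g t).2 hq), Nat.beq_refl, Bool.and_self, Bool.not_true, Bool.false_or] at h
  have h' := List.all_eq_true.1 h _ (cd_mem_el (hg x hxX))
  by_contra hne
  push Not at hne
  have e1 : Nat.beq (cd (g * x * g⁻¹)) oneC = false := by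
    rw [← Bool.not_eq_true]
    exact fun e => ne_one_conj hne.1 (cd_eq_one.1 (Nat.eq_of_beq_eq_true e))
  have e2 : Nat.beq (cd (g * x * g⁻¹)) (cd (g * t * g⁻¹)) = false := by
    rw [← Bool.not_eq_true]
    exact fun e => hne.2 (hinj _ _ (cd_inj (Nat.eq_of_beq_eq_true e)))
  have e3 : mulC (cd (g * x * g⁻¹)) (cd (g * t * g⁻¹)) = mulC (cd (g * t * g⁻¹)) (cd (g * x * g⁻¹)) := by
    rw [cd_comm, show g * x * g⁻¹ * (g * t * g⁻¹) = g * (x * t) * g⁻¹ by group, hxt]; group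
  simp only [e1, e2, e3, Nat.beq_refl, Bool.not_true, Bool.false_or] at h'
  obtain ⟨a, ha⟩ := of_any h'
  simp only [Bool.and_eq_true, app_cd] at ha
  obtain ⟨⟨hqa, hfa⟩, hb'⟩ := ha
  obtain ⟨b, hb⟩ := of_any hb'
  simp only [Bool.and_eq_true, app_cd, Bool.not_eq_true'] at hb
  obtain ⟨⟨⟨hqb, hfb⟩, hab⟩, hnc⟩ := hb
  have a1 := q_eq_one.2 (Nat.eq_of_beq_eq_true hqa)
  have b1 := q_eq_one.2 (Nat.eq_of_beq_eq_true hqb)
  have hfix : ∀ c, Nat.beq (vc6 (ap (g * t * g⁻¹) c)) (vc6 c) = true → ap t (ap g⁻¹ c) = ap g⁻¹ c :=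
    fun c hc => by
      have := congrArg (ap g⁻¹) (vc6_inj (Nat.eq_of_beq_eq_true hc))
      rwa [ap_mul, ap_mul, ap_inv_ap] at this
  have a1' : q6 (ap g⁻¹ a) = 1 := by rw [ap_q, a1]
  have b1' : q6 (ap g⁻¹ b) = 1 := by rw [ap_q, b1]
  have hc := hcomm _ _ a1' b1' (by rw [ap_B]; exact B_eq_one.2 (Nat.eq_of_beq_eq_true hab))
    (hfix a hfa) (hfix b hfb)
  have hrf : ∀ c (hc : q6 c = 1) (hc' : q6 (ap g⁻¹ c) = 1), g * rf (ap g⁻¹ c) hc' * g⁻¹ = rf c hc := by
    intro c hc hc'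
    refine O6_ext fun v => ?_
    rw [ap_mul, ap_mul]
    show ap g (ap g⁻¹ v + B6 (ap g⁻¹ c) (ap g⁻¹ v) • ap g⁻¹ c) = v + B6 c v • c
    rw [ap_B, ap_add, ap_ap_inv]
    rcases zmod2 (B6 c v) with k | k <;> simp [k, ap_zero, ap_ap_inv]
  have he : g * sP _ _ a1' b1' * g⁻¹ = sP a b a1 b1 := by
    rw [sP, sP, ← hrf a a1 a1', ← hrf b b1 b1']; group
  refine Nat.ne_of_beq_eq_false hnc ?_
  rw [← cd_sP a b a1 b1, cd_comm, ← he,
    show g * x * g⁻¹ * (g * sP _ _ a1' b1' * g⁻¹) = g * (x * sP _ _ a1' b1') * g⁻¹ by group, hc]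
  group

end CfsgLib.U62Cent.Six
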