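import Cfsg.Agent.Lib.U62Cent.Base
import Cfsg.Agent.Lib.U62Cent.SixTypes

/-!
The module of the centraliser in case B: coordinates, forms and the action.
-/

set_option autoImplicit false
set_option linter.style.haveILetI false
set_option maxRecDepth 100000

namespace CfsgLib.U62Cent.Six

open CfsgLib.ThreeTransp

universe u

/-- the module -/
abbrev VV : Type := (ZMod 2 × ZMod 2) × V6

/-- the polar form of the small summand -/
def BU (u v : ZMod 2 × ZMod 2) : ZMod 2 := u.1 * v.2 + u.2 * v.1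

/-- the polar form -/
def BV (u v : VV) : ZMod 2 := BU u.1 v.1 + B6 u.2 v.2

theorem U_two (u : ZMod 2 × ZMod 2) : u + u = 0 :=
  Prod.ext (CharTwo.add_self_eq_zero _) (CharTwo.add_self_eq_zero _)

theorem VV_two (v : VV) : v + v = 0 := Prod.ext (U_two _) (V6_two _)

theorem BV_comm (u v : VV) : BV u v = BV v u := by rw [BV, BV, B6_comm, BU, BU]; ring

theorem BV_add (u v w : VV) : BV u (v + w) = BV u v + BV u w := by
  simp only [BV, BU, Prod.fst_add, Prod.snd_add, B6_add]; ring

theorem BV_add_left (u v w : VV) : BV (u + v) w = BV u w + BV v w := by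
  rw [BV_comm, BV_add, BV_comm w, BV_comm w]

theorem BV_zero (u : VV) : BV u 0 = 0 := by simp [BV, BU, B6_zero]

theorem B6_nondeg {v : V6} (h : v ≠ 0) : ∃ w, B6 v w = 1 := by
  have h' := of_all partner_all v
  simp only [vc6_ne_zero h, Bool.false_or] at h'
  obtain ⟨w, hw⟩ := of_any h'
  exact ⟨w, B_eq_one.2 (Nat.eq_of_beq_eq_true hw)⟩

theorem BU_nondeg : ∀ u : ZMod 2 × ZMod 2, u ≠ 0 → ∃ w, BU u w = 1 := by
  unfold BU; decide

theorem BV_nondeg {v : VV} (h : v ≠ 0) : ∃ w, BV v w = 1 := by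
  rcases eq_or_ne v.1 0 with h1 | h1
  · obtain ⟨w, hw⟩ := B6_nondeg (v := v.2) fun h2 => h (Prod.ext h1 h2)
    exact ⟨(0, w), by simp [BV, BU, hw, h1]⟩
  · obtain ⟨w, hw⟩ := BU_nondeg v.1 h1
    exact ⟨(w, 0), by simp [BV, B6_zero, hw]⟩

variable {G : Type u} [Group G] {z : G} {P : Hyp z} (D : CfsgLib.U62Cent.Six P)

theorem qU_add (u v : ZMod 2 × ZMod 2) : D.qU (u + v) = D.qU u + D.qU v + BU u v := by
  obtain ⟨h1, h0⟩ := D.polU
  obtain ⟨u1, u2⟩ := u
  obtain ⟨v1, v2⟩ := v
  have h00 : D.qU (0, 0) = 0 := h0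
  rcases zmod2 u1 with rfl | rfl <;> rcases zmod2 u2 with rfl | rfl <;>
    rcases zmod2 v1 with rfl | rfl <;> rcases zmod2 v2 with rfl | rfl <;>
    simp only [Prod.mk_add_mk, BU, show (1 : ZMod 2) + 1 = 0 from rfl, zero_add, add_zero, mul_zero,
      mul_one, h00] <;>
    revert h1 <;> generalize D.qU (1, 1) = p <;> generalize D.qU (1, 0) = q <;>
    generalize D.qU (0, 1) = r <;> revert p q r <;> decide

/-- the coordinates -/
def vec (j : P.J) : VV := (D.sml j, D.big j)

/-- the form -/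
def QV (v : VV) : ZMod 2 := D.qU v.1 + q6 v.2

theorem QV_add (u v : VV) : QV D (u + v) = QV D u + QV D v + BV u v := by
  simp only [QV, BV, Prod.fst_add, Prod.snd_add, qU_add, q6_add]; ring

theorem QV_zero : QV D 0 = 0 := by
  show D.qU 0 + q6 0 = 0
  rw [D.polU.2, q6_zero, add_zero]

theorem vec_mul (a b : P.J) : vec D (a * b) = vec D a + vec D b := Prod.ext (D.sml_mul a b) (D.big_mul a b)

theorem vec_eq_zero (a : P.J) : vec D a = 0 ↔ (a : Cz z) = 1 ∨ (a : Cz z) = zC z := by
  rw [← D.eq_zero]; exact Prod.ext_iff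

theorem vec_one : vec D 1 = 0 := (vec_eq_zero D 1).2 (Or.inl rfl)

theorem vec_surj (v : VV) : ∃ a : P.J, vec D a = v := by
  obtain ⟨a, h1, h2⟩ := D.surj v.1 v.2
  exact ⟨a, Prod.ext h1 h2⟩

theorem vec_inv (a : P.J) : vec D a⁻¹ = vec D a := by
  have h := vec_mul D a a⁻¹
  rw [mul_inv_cancel, vec_one] at h
  calc vec D a⁻¹ = vec D a + (vec D a + vec D a⁻¹) := by rw [← add_assoc, VV_two, zero_add]
    _ = vec D a := by rw [← h, add_zero]

theorem vec_eq_iff (a b : P.J) :
    vec D a = vec D b ↔ (b : Cz z) = a ∨ (b : Cz z) = zC z * a := by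
  constructor
  · intro h
    have h0 : vec D (b * a⁻¹) = 0 := by rw [vec_mul, vec_inv, ← h, VV_two]
    rcases (vec_eq_zero D _).1 h0 with e | e <;>
      rw [Subgroup.coe_mul, Subgroup.coe_inv, mul_inv_eq_iff_eq_mul] at e
    · exact Or.inl (by rw [e, one_mul])
    · exact Or.inr e
  · rintro (h | h)
    · rw [Subtype.ext h]
    · rw [show b = ⟨zC z, P.zC_mem⟩ * a from Subtype.ext h, vec_mul,
        (vec_eq_zero D ⟨zC z, P.zC_mem⟩).2 (Or.inr rfl), zero_add]

/-- a bit as a central element -/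
def zp (z : G) (r : ZMod 2) : Cz z := if r = 0 then 1 else zC z

theorem zp_zero : zp z 0 = 1 := if_pos rfl

theorem zp_one : zp z 1 = zC z := if_neg one_ne_zero

theorem zp_comm (r : ZMod 2) (x : Cz z) : x * zp z r = zp z r * x := by
  rcases zmod2 r with rfl | rfl
  · simp [zp_zero]
  · rw [zp_one]; exact comm_zC x

include P in
theorem zp_add (r s : ZMod 2) : zp z (r + s) = zp z r * zp z s := by
  rcases zmod2 r with rfl | rfl <;> rcases zmod2 s with rfl | rfl <;>
    simp only [zero_add, add_zero, show (1 : ZMod 2) + 1 = 0 from rfl, zp_zero, zp_one, one_mul, mul_one,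
      P.zC_sq]

include P in
theorem zp_inj {r s : ZMod 2} (h : zp z r = zp z s) : r = s := by
  rcases zmod2 r with rfl | rfl <;> rcases zmod2 s with rfl | rfl <;> simp only [zp_zero, zp_one] at h ⊢
  · exact absurd h.symm P.zC_ne_one
  · exact absurd h P.zC_ne_one

theorem sq_eq (a : P.J) : (a : Cz z) * a = zp z (QV D (vec D a)) := by
  rcases zmod2 (QV D (vec D a)) with h | h
  · rw [h, zp_zero]; exact congrArg Subtype.val ((D.sq a).2 h)
  · rw [h, zp_one]
    refine (P.xc.sq _ a.2).resolve_left fun e => ?_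
    have := (D.sq a).1 (Subtype.ext e)
    exact zero_ne_one (this.symm.trans h)

theorem sq_one_iff (a : P.J) : (a : Cz z) * a = 1 ↔ QV D (vec D a) = 0 := by
  rw [sq_eq D, ← zp_zero]
  exact ⟨zp_inj (P := P), fun h => by rw [h]⟩

/-- The commutator of two elements of `J`. -/
theorem mul_comm_zp (a b : P.J) : (a : Cz z) * b = zp z (BV (vec D a) (vec D b)) * (b * a) := by
  obtain ⟨c, hc⟩ : ∃ c : ZMod 2, (a : Cz z) * b = zp z c * (b * a) := by
    rcases P.xc.commEl _ a.2 _ b.2 with h | h <;> rw [mul_inv_eq_iff_eq_mul] at h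
    · exact ⟨0, by rw [h, zp_zero, one_mul]⟩
    · exact ⟨1, by rw [h, zp_one, mul_assoc]⟩
  have e : ((a : Cz z) * b) * (a * b) = zp z (c + (QV D (vec D a) + QV D (vec D b))) := by
    have hba : (b : Cz z) * a = zp z c * (a * b) := by
      rw [hc, ← mul_assoc, ← zp_add (P := P), CharTwo.add_self_eq_zero, zp_zero, one_mul]
    calc ((a : Cz z) * b) * (a * b) = a * ((b * a) * b) := by group
      _ = a * (zp z c * (a * b) * b) := by rw [hba]
      _ = (a * zp z c) * a * (b * b) := by group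
      _ = zp z c * ((a * a) * (b * b)) := by rw [zp_comm]; group
      _ = _ := by rw [sq_eq D, sq_eq D, zp_add (P := P), zp_add (P := P)]
  have e2 := sq_eq D (a * b)
  rw [Subgroup.coe_mul, vec_mul, QV_add, e] at e2
  have := zp_inj (P := P) e2
  rw [hc]
  congr 2
  linear_combination this

theorem comm_iff (a b : P.J) : (a : Cz z) * b = b * a ↔ BV (vec D a) (vec D b) = 0 := by
  rw [mul_comm_zp D a b]
  constructor
  · intro h
    refine zp_inj (P := P) ?_
    rw [zp_zero]
    exact mul_eq_right.1 h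
  · intro h; rw [h, zp_zero, one_mul]

/-- An element of `J` outside the centre has a conjugate under `J` different from it. -/
theorem exists_move (a : P.J) (h : vec D a ≠ 0) : ∃ j : P.J, (j : Cz z) * a * (j : Cz z)⁻¹ = zC z * a := by
  obtain ⟨w, hw⟩ := BV_nondeg h
  obtain ⟨j, rfl⟩ := vec_surj D w
  exact ⟨j, by rw [mul_comm_zp D j a, BV_comm, hw, zp_one]; group⟩

/-! ### the action -/

/-- the action on the module -/
def phiV (h : Cz z) (v : VV) : VV := (D.actU h v.1, D.act h v.2)

theorem phiV_add (h : Cz z) (u v : VV) : phiV D h (u + v) = phiV D h u + phiV D h v :=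
  Prod.ext (map_add _ _ _) (map_add _ _ _)

theorem phiV_mul (h k : Cz z) (v : VV) : phiV D (h * k) v = phiV D h (phiV D k v) := by
  refine Prod.ext ?_ ?_ <;> (simp only [phiV, map_mul]; rfl)

theorem phiV_one (v : VV) : phiV D 1 v = v := by
  refine Prod.ext ?_ ?_ <;> (simp only [phiV, map_one]; rfl)

theorem vec_conj (h : Cz z) (a : P.J) :
    vec D ⟨h * a * h⁻¹, P.conj_mem h a.2⟩ = phiV D h (vec D a) := by
  have e : (⟨h * a * h⁻¹, P.conj_mem h a.2⟩ : P.J) = MulAut.conjNormal h a :=
    Subtype.ext (MulAut.conjNormal_apply h a).symm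
  rw [e]
  exact Prod.ext (D.sml_conj h a) (D.big_conj h a)

theorem QV_phiV (h : Cz z) (v : VV) : QV D (phiV D h v) = QV D v := by
  obtain ⟨a, rfl⟩ := vec_surj D v
  rw [← vec_conj]
  refine zp_inj (P := P) ?_
  rw [← sq_eq, ← sq_eq]
  show h * a * h⁻¹ * (h * a * h⁻¹) = _
  rw [show h * a * h⁻¹ * (h * a * h⁻¹) = h * ((a : Cz z) * a) * h⁻¹ by group, sq_eq D, zp_comm]
  group

theorem BV_phiV (h : Cz z) (u v : VV) : BV (phiV D h u) (phiV D h v) = BV u v := by
  have k := QV_add D (phiV D h u) (phiV D h v)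
  rw [← phiV_add, QV_phiV, QV_phiV, QV_phiV, QV_add] at k
  linear_combination -k

theorem qU_act (h : Cz z) (u : ZMod 2 × ZMod 2) : D.qU (D.actU h u) = D.qU u := by
  have := QV_phiV D h (u, 0)
  simpa [QV, phiV, q6_zero] using this

/-- the image in the orthogonal group -/
def rho : Cz z →* O6 := D.act.toHomUnits.codRestrict O6 fun h v => D.act_q h v

theorem ap_rho (h : Cz z) (v : V6) : ap (rho D h) v = D.act h v := rfl

theorem phiV_snd (h : Cz z) (v : VV) : (phiV D h v).2 = ap (rho D h) v.2 := rfl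

theorem phiV_J {h : Cz z} (hh : h ∈ P.J) (v : VV) : phiV D h v = v := by
  obtain ⟨a, rfl⟩ := vec_surj D v
  rw [← vec_conj]
  refine ((vec_eq_iff D _ _).2 ?_).symm
  exact P.xc.commEl _ hh _ a.2

theorem rho_eq_one_iff (h : Cz z) : rho D h = 1 ↔ h ∈ P.J := by
  constructor
  · intro e
    refine P.faithful h fun x hx => ?_
    refine D.ker_act _ (mul_mem (P.normH.conj_mem x hx h) (inv_mem hx)) (DFunLike.ext _ _ fun v => ?_)
    show ap (rho D (h * x * h⁻¹ * x⁻¹)) v = v
    rw [map_mul, map_mul, map_mul, map_inv, map_inv, e]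
    simp [ap_one]
  · intro hh
    refine O6_ext fun v => ?_
    have := congrArg Prod.snd (phiV_J D hh (0, v))
    rwa [phiV_snd] at this

/-- The inner image. -/
theorem index_image [Finite G] : ((P.H₁).map (rho D)).index = 2 := by
  have e : Nat.card ((P.H₁).map (rho D)) = 25920 := by
    have hm : ((P.H₁).map (rho D)).map O6.subtype = (P.H₁).map D.act.toHomUnits := by
      rw [Subgroup.map_map]; rfl
    rw [← D.card_range, ← hm, Subgroup.card_map_of_injective O6.subtype_injective]
  have h := ((P.H₁).map (rho D)).card_mul_index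
  rw [e, card_O6] at h
  omega

theorem exists_lift [Finite G] {a b : V6} (ha : q6 a = 1) (hb : q6 b = 1) (h : B6 a b = 1) :
    ∃ x ∈ P.H₁, rho D x = sP a b ha hb :=
  sP_mem (M := (P.H₁).map (rho D)) (Or.inr (index_image D)) ha hb h

theorem mem_H₁_of_image {h : Cz z} (hh : rho D h ∈ (P.H₁).map (rho D)) : h ∈ P.H₁ := by
  obtain ⟨x, hx, e⟩ := hh
  have : x⁻¹ * h ∈ P.J := (rho_eq_one_iff D _).1 (by rw [map_mul, map_inv, e, inv_mul_cancel])
  simpa using mul_mem hx (P.le this)

theorem actU_inner' {h : Cz z} (hh : h ∈ P.H₁) (u : ZMod 2 × ZMod 2) : D.actU h u = u := by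
  rw [D.actU_inner h hh]; rfl

/-- A functional vanishing on the fixed space comes from the image. -/
theorem perp_fixed {f : VV → VV} (hadd : ∀ u v, f (u + v) = f u + f v) (hinv : ∀ v, f (f v) = v)
    (hiso : ∀ u v, BV (f u) (f v) = BV u v) {k : VV} (hk : ∀ v, f v = v → BV k v = 0) :
    ∃ t, f t + t = k := by
  classical
  let T : VV →ₗ[ZMod 2] VV := AddMonoidHom.toZModLinearMap 2
    (AddMonoidHom.mk' (fun v => f v + v) fun u v => by rw [hadd]; abel)
  let β : VV →ₗ[ZMod 2] Module.Dual (ZMod 2) VV := AddMonoidHom.toZModLinearMap 2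
    (AddMonoidHom.mk' (fun u => AddMonoidHom.toZModLinearMap 2 (AddMonoidHom.mk' (BV u) (BV_add u)))
      fun u v => LinearMap.ext fun w => BV_add_left u v w)
  have hinj : Function.Injective β := by
    rw [injective_iff_map_eq_zero]
    intro v hv
    by_contra hne
    obtain ⟨w, hw⟩ := BV_nondeg hne
    exact one_ne_zero (hw.symm.trans (LinearMap.congr_fun hv w))
  have hsurj : Function.Surjective β :=
    (LinearMap.injective_iff_surjective_of_finrank_eq_finrank Subspace.dual_finrank_eq.symm).1 hinj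
  have hmem : β k ∈ T.ker.dualAnnihilator := by
    rw [Submodule.mem_dualAnnihilator]
    intro v hv
    refine hk v ?_
    have e : f v + v = 0 := hv
    calc f v = f v + v + v := by rw [add_assoc, VV_two, add_zero]
      _ = v := by rw [e, zero_add]
  rw [← LinearMap.range_dualMap_eq_dualAnnihilator_ker] at hmem
  obtain ⟨g, hg⟩ := hmem
  obtain ⟨t, rfl⟩ := hsurj g
  refine ⟨t, ?_⟩
  by_contra hne
  obtain ⟨w, hw⟩ := BV_nondeg (v := f t + t + k) fun e => hne (by
    calc f t + t = f t + t + (k + k) := by rw [VV_two, add_zero]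
      _ = k := by rw [← add_assoc, e, zero_add])
  have hgw : BV t (f w + w) = BV k w := LinearMap.congr_fun hg w
  have hsym : BV t (f w) = BV (f t) w := by rw [← hiso t (f w), hinv]
  rw [BV_add, hsym] at hgw
  rw [BV_add_left, BV_add_left, hgw, CharTwo.add_self_eq_zero] at hw
  exact zero_ne_one hw

theorem phiV_inv_of_sq {y : Cz z} (hy : y * y = 1) (v : VV) : phiV D y (phiV D y v) = v := by
  rw [← phiV_mul, hy, phiV_one]

end CfsgLib.U62Cent.Six
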