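import Cfsg.Agent.Lib.U62Cent.SixOrth

/-!
Two-subgroups of the orthogonal group of minus type in dimension six over two elements.
-/

set_option autoImplicit false
set_option linter.style.haveILetI false
set_option maxRecDepth 100000

namespace CfsgLib.U62Cent.Six

/-- nonsingular, orthogonal to `v` and different from it -/
def Good (v a : V6) : Prop := q6 a = 1 ∧ B6 v a = 0 ∧ a ≠ v

theorem good_iff {v a : V6} : Good v a ↔ good (vc6 v) (vc6 a) = true := by
  simp only [Good, good, Bool.and_eq_true, Bool.not_eq_true', q_eq_one, B_eq_zero]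
  constructor
  · rintro ⟨h1, h2, h3⟩
    refine ⟨⟨by rw [h1]; rfl, by rw [h2]; rfl⟩, ?_⟩
    rw [← Bool.not_eq_true]
    exact fun e => h3 (vc6_inj (Nat.eq_of_beq_eq_true e))
  · rintro ⟨⟨h1, h2⟩, h3⟩
    exact ⟨Nat.eq_of_beq_eq_true h1, Nat.eq_of_beq_eq_true h2,
      fun e => Nat.ne_of_beq_eq_false h3 (congrArg vc6 e)⟩

theorem of_any {p : ℕ → Bool} (h : (List.range 64).any p = true) : ∃ v : V6, p (vc6 v) = true := by
  obtain ⟨c, hc, hp⟩ := List.any_eq_true.1 h
  exact ⟨vo6 c, by rwa [vc6_vo6 c (List.mem_range.1 hc)]⟩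

theorem of_all {p : ℕ → Bool} (h : (List.range 64).all p = true) (v : V6) : p (vc6 v) = true :=
  List.all_eq_true.1 h _ (List.mem_range.2 (vc6_lt v))

theorem vc6_ne_zero {v : V6} (h : v ≠ 0) : Nat.beq (vc6 v) 0 = false := by
  rw [← Bool.not_eq_true]
  exact fun e => h (vc6_eq_zero.1 (Nat.eq_of_beq_eq_true e))

theorem vc6_beq {u v : V6} (h : u ≠ v) : Nat.beq (vc6 u) (vc6 v) = false := by
  rw [← Bool.not_eq_true]
  exact fun e => h (vc6_inj (Nat.eq_of_beq_eq_true e))

/-- A pair of reflections around `v` moves any other vector by a nonsingular one. -/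
theorem moves (v y : V6) (h0 : y ≠ 0) (hv : y ≠ v) : ∃ a b, ∃ (ha : Good v a) (hb : Good v b),
    B6 a b = 1 ∧ q6 (ap (sP a b ha.1 hb.1) y + y) = 1 := by
  have h := of_all (of_all moves_all v) y
  simp only [vc6_ne_zero h0, vc6_beq hv, Bool.false_or, movesQ] at h
  obtain ⟨a, ha⟩ := of_any h
  rw [Bool.and_eq_true] at ha
  obtain ⟨b, hb⟩ := of_any ha.2
  simp only [Bool.and_eq_true] at hb
  refine ⟨a, b, good_iff.2 ha.1, good_iff.2 hb.1.1, B_eq_one.2 (Nat.eq_of_beq_eq_true hb.1.2), ?_⟩
  rw [q_eq_one, vc6_add, vc_sP]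
  exact Nat.eq_of_beq_eq_true hb.2

/-- A subgroup of vectors, orthogonal to `v` and stable under the reflection pairs around `v`, is everything
orthogonal to `v` as soon as it is larger than the line of `v`. -/
theorem stable_all (v : V6) (F : V6 → Prop) (h0 : F 0) (hv : F v)
    (hadd : ∀ a b, F a → F b → F (a + b))
    (hst : ∀ a b (ha : Good v a) (hb : Good v b), B6 a b = 1 → ∀ y, F y → F (ap (sP a b ha.1 hb.1) y))
    {y : V6} (hy : F y) (hy0 : y ≠ 0) (hyv : y ≠ v) (hyB : B6 v y = 0) :
    ∀ t, B6 v t = 0 → F t := by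
  have key : ∀ a, Good v a → F a := by
    intro a ha
    have h := of_all (of_all reach_all v) y
    simp only [vc6_ne_zero hy0, vc6_beq hyv, B_eq_zero.1 hyB, Nat.beq_refl, Bool.not_true, Bool.false_or] at h
    have h' := of_all h a
    simp only [good_iff.1 ha, Bool.not_true, Bool.false_or] at h'
    obtain ⟨b, hb⟩ := of_any h'
    simp only [Bool.and_eq_true, Bool.or_eq_true] at hb
    obtain ⟨⟨hgb, hab⟩, hor⟩ := hb
    have hb' : Good v b := good_iff.2 hgb
    have hab' : B6 a b = 1 := B_eq_one.2 (Nat.eq_of_beq_eq_true hab)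
    have hba : B6 b a = 1 := by rw [B6_comm, hab']
    have hcancel : ∀ p q : V6, F (q + p) → F q → F p := fun p q h1 h2 => by
      have := hadd _ _ h1 h2
      rwa [add_right_comm, V6_two, zero_add] at this
    have e : ∀ x, ap (sP a b ha.1 hb'.1) x = (x + B6 b x • b) + B6 a (x + B6 b x • b) • a := fun x => rfl
    have hs := hst a b ha hb' hab' y hy
    rw [e] at hs
    rcases zmod2 (B6 b y) with h1 | h1
    · have h2 : B6 a y = 1 := by
        rcases hor with k | k
        · exact B_eq_one.2 (Nat.eq_of_beq_eq_true k)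
        · exact absurd (h1.symm.trans (B_eq_one.2 (Nat.eq_of_beq_eq_true k))) (by decide)
      simp only [h1, h2, zero_smul, add_zero, one_smul] at hs
      exact hcancel a y hs hy
    · rcases zmod2 (B6 a y) with h2 | h2
      · simp only [h1, h2, one_smul, B6_add, hab', zero_add, add_assoc] at hs
        have hba' := hcancel (b + a) y hs hy
        have h4 := hst a b ha hb' hab' _ hba'
        have e4 : ap (sP a b ha.1 hb'.1) (b + a) = a := by
          rw [e]
          simp only [B6_add, B6_self, hba, zero_add, one_smul]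
          have k : b + a + b = a := by rw [add_comm b a, add_assoc, V6_two, add_zero]
          simp only [k, B6_self, hab', zero_add, add_zero]
          first
            | rfl
            | simp [show (1 : ZMod 2) + 1 = 0 from rfl, k]
        rwa [e4] at h4
      · simp only [h1, h2, one_smul, B6_add, hab', show (1 : ZMod 2) + 1 = 0 from rfl, zero_smul,
          add_zero] at hs
        have hFb := hcancel b y hs hy
        have h4 := hst a b ha hb' hab' _ hFb
        have e4 : ap (sP a b ha.1 hb'.1) b = b + a := by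
          rw [e]
          simp only [B6_self, zero_smul, add_zero, hab', one_smul]
        rw [e4] at h4
        exact hcancel a b h4 hFb
  intro t ht
  rcases eq_or_ne t 0 with rfl | ht0
  · exact h0
  rcases eq_or_ne t v with rfl | htv
  · exact hv
  have h := of_all (of_all span_all v) t
  simp only [B_eq_zero.1 ht, Nat.beq_refl, Bool.not_true, Bool.false_or, vc6_ne_zero ht0, vc6_beq htv] at h
  obtain ⟨a, ha⟩ := of_any h
  simp only [Bool.and_eq_true, Bool.or_eq_true, ← vc6_add] at ha
  obtain ⟨hga, h4⟩ := ha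
  have hFa := key a (good_iff.2 hga)
  have hback : F (t + a) → F t := fun hh => by
    have := hadd _ _ hh hFa
    rwa [add_assoc, V6_two, add_zero] at this
  rcases h4 with ((k | k) | k) | k
  · rw [vc6_inj (Nat.eq_of_beq_eq_true k)]; exact hFa
  · exact hback (key _ (good_iff.2 k))
  · refine hback ?_
    have := hadd _ _ (key _ (good_iff.2 k)) hv
    rwa [add_assoc, V6_two, add_zero] at this
  · exact hback (by rw [vc6_inj (Nat.eq_of_beq_eq_true k)]; exact hv)

theorem eq_of_add_zero {a b : V6} (h : a + b = 0) : a = b := by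
  rw [← add_zero a, ← V6_two b, ← add_assoc, h, zero_add]

theorem add_two_left (a b : V6) : a + (a + b) = b := by rw [← add_assoc, V6_two, zero_add]

theorem add_one_ne : ∀ r : ZMod 2, r + 1 ≠ r := by decide

theorem card_V6 : Nat.card V6 = 64 := by simp [V6]

theorem count_le {p : V6 → Prop} {f : ℕ → Bool} (h : ∀ v, p v → f (vc6 v) = true) :
    Nat.card {v // p v} ≤ ((List.range 64).filter f).length := by
  classical
  rw [← List.toFinset_card_of_nodup (List.nodup_range.filter _), ← Nat.card_eq_finsetCard]
  exact Nat.card_le_card_of_injective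
    (fun v => (⟨vc6 v.1, by simp [vc6_lt, h v.1 v.2]⟩ : ↥((List.range 64).filter f).toFinset))
    fun a b e => Subtype.ext (vc6_inj (congrArg Subtype.val e))

theorem count_eq {p : V6 → Prop} {f : ℕ → Bool} (h : ∀ v, p v ↔ f (vc6 v) = true) :
    Nat.card {v // p v} = ((List.range 64).filter f).length := by
  classical
  rw [← List.toFinset_card_of_nodup (List.nodup_range.filter _), ← Nat.card_eq_finsetCard]
  refine Nat.card_eq_of_bijective
    (fun v => (⟨vc6 v.1, by simp [vc6_lt, (h v.1).1 v.2]⟩ : ↥((List.range 64).filter f).toFinset))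
    ⟨fun a b e => Subtype.ext (vc6_inj (congrArg Subtype.val e)), fun c => ?_⟩
  have hc := c.2
  simp only [List.mem_toFinset, List.mem_filter, List.mem_range] at hc
  exact ⟨⟨vo6 c, (h _).2 (by rw [vc6_vo6 _ hc.1]; exact hc.2)⟩, Subtype.ext (vc6_vo6 _ hc.1)⟩

/-- A two-subgroup normalised by the reflection pairs around a fixed vector is small. -/
theorem small_X (v : V6) (X : Subgroup O6) (hX : IsPGroup 2 X) (hfix : ∀ x ∈ X, ap x v = v)
    (hnorm : ∀ a b (ha : Good v a) (hb : Good v b), B6 a b = 1 → ∀ x ∈ X,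
      (sP a b ha.1 hb.1)⁻¹ * x * sP a b ha.1 hb.1 ∈ X) : Nat.card X < 32 := by
  classical
  haveI : Fact (Nat.Prime 2) := ⟨Nat.prime_two⟩
  let F : V6 → Prop := fun y => B6 v y = 0 ∧ ∀ x ∈ X, ap x y = y ∨ ap x y = y + v
  have hFadd : ∀ a b, F a → F b → F (a + b) := fun a b hA hB =>
    ⟨by rw [B6_add, hA.1, hB.1, add_zero], fun x hx => by
      rw [ap_add]
      rcases hA.2 x hx with e | e <;> rcases hB.2 x hx with e' | e' <;> rw [e, e']
      · exact Or.inl rfl
      · exact Or.inr (add_assoc _ _ _).symm
      · exact Or.inr (by abel)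
      · exact Or.inl (by rw [show a + v + (b + v) = a + b + (v + v) by abel, V6_two, add_zero])⟩
  have hst : ∀ a b (ha : Good v a) (hb : Good v b), B6 a b = 1 →
      ∀ y, F y → F (ap (sP a b ha.1 hb.1) y) := by
    intro a b ha hb hab y hy
    have hsv : ap (sP a b ha.1 hb.1) v = v :=
      ap_sP_fix ha.1 hb.1 (by rw [B6_comm, ha.2.1]) (by rw [B6_comm, hb.2.1])
    refine ⟨?_, fun x hx => ?_⟩
    · exact (congrArg (fun t => B6 t (ap (sP a b ha.1 hb.1) y)) hsv.symm).trans
        ((ap_B _ _ _).trans hy.1)
    · have e : ap x (ap (sP a b ha.1 hb.1) y) =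
          ap (sP a b ha.1 hb.1) (ap ((sP a b ha.1 hb.1)⁻¹ * x * sP a b ha.1 hb.1) y) := by
        simp only [ap_mul, ap_ap_inv]
      rw [e]
      rcases hy.2 _ (hnorm a b ha hb hab x hx) with k | k <;> rw [k]
      · exact Or.inl rfl
      · exact Or.inr (by rw [ap_add, hsv])
  have hBv : ∀ x ∈ X, ∀ t, B6 v (ap x t) = B6 v t := fun x hx t =>
    (congrArg (B6 · _) (hfix x hx).symm).trans (ap_B x v t)
  -- a vector outside the line
  obtain ⟨y, hyF, hy0, hyv⟩ : ∃ y, F y ∧ y ≠ 0 ∧ y ≠ v := by
    by_contra hno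
    push Not at hno
    letI : MulAction X V6 :=
      { smul := fun x y => ap (x : O6) y, one_smul := fun _ => rfl, mul_smul := fun _ _ _ => rfl }
    rcases eq_or_ne v 0 with hv0 | hv0
    · have h1 : ∀ y : V6, y ∈ MulAction.fixedPoints X V6 → y = 0 := fun y hy => by
        by_contra h
        exact h (hv0 ▸ hno y ⟨by rw [hv0, B6_comm, B6_zero], fun x hx => Or.inl (hy ⟨x, hx⟩)⟩ h)
      have hm := hX.card_modEq_card_fixedPoints V6
      have : MulAction.fixedPoints X V6 = {0} := Set.eq_singleton_iff_unique_mem.2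
        ⟨fun x => ap_zero _, h1⟩
      rw [this, card_V6, Nat.card_unique] at hm
      exact absurd hm (by decide)
    · let Om := {y : V6 // B6 v y = 0 ∧ y ≠ 0 ∧ y ≠ v}
      letI : MulAction X Om :=
        { smul := fun x y => ⟨ap (x : O6) y.1, (hBv _ x.2 _).trans y.2.1, fun e => y.2.2.1 (ap_injective _ (e.trans (ap_zero _).symm)),
            fun e => y.2.2.2 (ap_injective _ (e.trans (hfix _ x.2).symm))⟩
          one_smul := fun _ => rfl
          mul_smul := fun _ _ _ => rfl }
      have h30 : Nat.card Om = 30 := by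
        rw [count_eq (f := fun u => Nat.beq (bC (vc6 v) u) 0 && !Nat.beq u 0 && !Nat.beq u (vc6 v))
          (fun u => ?_)]
        · have h := of_all (show ((List.range 64).all fun v => Nat.beq v 0 ||
            Nat.beq ((List.range 64).filter fun u => Nat.beq (bC v u) 0 && !Nat.beq u 0 &&
              !Nat.beq u v).length 30) = true by decide +kernel) v
          simp only [vc6_ne_zero hv0, Bool.false_or] at h
          exact Nat.eq_of_beq_eq_true h
        · constructor
          · rintro ⟨h1, h2, h3⟩
            simp [B_eq_zero.1 h1, vc6_ne_zero h2, vc6_beq h3]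
          · intro h
            simp only [Bool.and_eq_true, Bool.not_eq_true'] at h
            exact ⟨B_eq_zero.2 (Nat.eq_of_beq_eq_true h.1.1),
              fun e => Nat.ne_of_beq_eq_false h.1.2 (vc6_eq_zero.2 e),
              fun e => Nat.ne_of_beq_eq_false h.2 (congrArg vc6 e)⟩
      have h4 : 4 ∣ Nat.card Om := by
        rw [Nat.card_congr (MulAction.selfEquivSigmaOrbits X Om), Nat.card_sigma]
        refine Finset.dvd_sum fun o _ => ?_
        obtain ⟨k, hk⟩ := hX.card_orbit (Quotient.out o)
        rw [hk]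
        rcases k with _ | _ | k
        · exfalso
          have h1 := Nat.card_eq_one_iff_unique.1 (hk.trans (pow_zero 2))
          refine hno (Quotient.out o).1 ⟨(Quotient.out o).2.1, fun x hx => Or.inl ?_⟩
            (Quotient.out o).2.2.1 |> (Quotient.out o).2.2.2
          have := h1.1.elim (⟨_, MulAction.mem_orbit _ (⟨x, hx⟩ : X)⟩ : MulAction.orbit X _)
            ⟨_, MulAction.mem_orbit_self _⟩
          exact congrArg (fun t => t.1.1) this
        · exfalso
          obtain ⟨w, hw⟩ : ∃ w : Om, w = Quotient.out o := ⟨_, rfl⟩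
          rw [← hw] at hk
          have horb : ∀ x y : X, x • w ≠ w → y • w ≠ w → x • w = y • w := by
            intro x y hx hy
            obtain ⟨p, r, hpr, htop⟩ := Nat.card_eq_two_iff.1 (hk.trans (pow_one 2))
            have hall : ∀ t : MulAction.orbit X w, t = p ∨ t = r := fun t => by
              have := htop.ge (Set.mem_univ t)
              simpa using this
            rcases hall ⟨_, MulAction.mem_orbit w x⟩ with a | a <;>
              rcases hall ⟨_, MulAction.mem_orbit w y⟩ with b | b <;>
                rcases hall ⟨_, MulAction.mem_orbit_self w⟩ with c | c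
            all_goals first
              | exact congrArg Subtype.val (a.trans b.symm)
              | exact absurd (congrArg Subtype.val (a.trans c.symm)) hx
              | exact absurd (congrArg Subtype.val (b.trans c.symm)) hy
          obtain ⟨x0, hx0⟩ : ∃ x0 : X, x0 • w ≠ w := by
            by_contra hall
            push Not at hall
            refine hno w.1 ⟨w.2.1, fun x hx => Or.inl ?_⟩ w.2.2.1 |> w.2.2.2
            exact congrArg Subtype.val (hall ⟨x, hx⟩)
          obtain ⟨d, hd⟩ : ∃ d, d = w.1 + ap (x0 : O6) w.1 := ⟨_, rfl⟩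
          have hdfix : ∀ x ∈ X, ap x d = d := by
            intro x hx
            rw [hd, ap_add]
            by_cases hxw : (⟨x, hx⟩ : X) • w = w
            · rw [show ap x w.1 = w.1 from congrArg Subtype.val hxw]
              congr 1
              by_cases hxx : (⟨x, hx⟩ : X) • (x0 • w) = w
              · exact absurd (smul_left_cancel _ (hxw.trans hxx.symm)).symm hx0
              · have := horb (⟨x, hx⟩ * x0) x0 (by rw [mul_smul]; exact hxx) hx0
                rw [mul_smul] at this
                exact congrArg Subtype.val this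
            · have e1 := congrArg Subtype.val (horb ⟨x, hx⟩ x0 hxw hx0)
              rw [show ap x w.1 = ap (x0 : O6) w.1 from e1, add_comm w.1]
              congr 1
              by_cases hxx : (⟨x, hx⟩ : X) • (x0 • w) = w
              · exact congrArg Subtype.val hxx
              · have h2 := horb (⟨x, hx⟩ * x0) ⟨x, hx⟩ (by rw [mul_smul]; exact hxx) hxw
                rw [mul_smul] at h2
                exact absurd (smul_left_cancel _ h2) hx0
          have hdB : B6 v d = 0 := by
            rw [hd, B6_add, w.2.1, zero_add]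
            exact (x0 • w).2.1
          rcases eq_or_ne d 0 with e0 | e0
          · exact hx0 (Subtype.ext (eq_of_add_zero (hd.symm.trans e0)).symm)
          have edv : d = v := hno d ⟨hdB, fun x hx => Or.inl (hdfix x hx)⟩ e0
          refine hno w.1 ⟨w.2.1, fun x hx => ?_⟩ w.2.2.1 |> w.2.2.2
          by_cases hxw : (⟨x, hx⟩ : X) • w = w
          · exact Or.inl (congrArg Subtype.val hxw)
          · right
            refine (congrArg Subtype.val (horb ⟨x, hx⟩ x0 hxw hx0) : ap x w.1 = ap (x0 : O6) w.1).trans ?_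
            exact (add_two_left _ _).symm.trans (congrArg (w.1 + ·) (hd.symm.trans edv))
        · exact ⟨2 ^ k, by ring⟩
      rw [h30] at h4
      omega
  have hall : ∀ t, B6 v t = 0 → F t :=
    stable_all v F ⟨B6_zero v, fun x _ => Or.inl (ap_zero x)⟩
      ⟨B6_self v, fun x hx => Or.inl (hfix x hx)⟩ hFadd hst hyF hy0 hyv hyF.1
  rcases eq_or_ne v 0 with hv0 | hv0
  · have : X = ⊥ := (Subgroup.eq_bot_iff_forall _).2 fun x hx => O6_ext fun t => by
      rcases (hall t (by rw [hv0, B6_comm, B6_zero])).2 x hx with e | e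
      · exact e
      · rw [e, hv0, add_zero]; rfl
    rw [this, Subgroup.card_bot]
    norm_num
  obtain ⟨y0, hy0'⟩ := of_any (p := fun y => Nat.beq (bC (vc6 v) y) 1) (by
    have h := of_all partner_all v
    simpa only [vc6_ne_zero hv0, Bool.false_or] using h)
  have hB0 : B6 v y0 = 1 := B_eq_one.2 (Nat.eq_of_beq_eq_true hy0')
  have hinj : Function.Injective fun x : X => (⟨ap (x : O6) y0, by
      exact (hBv _ x.2 _).trans hB0, ap_q _ _⟩ : {u // B6 v u = 1 ∧ q6 u = q6 y0}) := by
    intro x x' h
    have h0 : ap (x : O6) y0 = ap (x' : O6) y0 := congrArg (fun t => t.1) h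
    refine Subtype.ext (O6_ext fun t => ?_)
    have hperp : ∀ t, B6 v t = 0 → ap (x : O6) t = ap (x' : O6) t := by
      intro t ht
      have k1 := ap_B (x : O6) y0 t
      have k2 := ap_B (x' : O6) y0 t
      rw [← k2, h0] at k1
      have hne : ∀ c, B6 (ap (x' : O6) y0) (c + v) ≠ B6 (ap (x' : O6) y0) c := fun c e => by
        have e1 : B6 (ap (x' : O6) y0) v = 1 := by
          conv_lhs => rw [← hfix _ x'.2]
          rw [ap_B, B6_comm, hB0]
        rw [B6_add, e1] at e
        exact add_one_ne _ e
      rcases (hall t ht).2 _ x.2 with e | e <;> rcases (hall t ht).2 _ x'.2 with e' | e'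
      all_goals rw [e, e'] at k1
      · rw [e, e']
      · exact absurd k1.symm (hne t)
      · exact absurd k1 (hne t)
      · rw [e, e']
    rcases zmod2 (B6 v t) with ht | ht
    · exact hperp t ht
    · have := hperp (t + y0) (by rw [B6_add, ht, hB0]; rfl)
      rw [ap_add, ap_add, h0] at this
      exact add_right_cancel this
  have hc := of_all shadow_card v
  simp only [List.all_eq_true, List.mem_range] at hc
  have hc' := hc (qC (vc6 y0)) (qC_lt _)
  simp only [vc6_ne_zero hv0, Bool.false_or, Nat.ble_eq] at hc'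
  have hle := count_le (p := fun u => B6 v u = 1 ∧ q6 u = q6 y0)
    (f := fun u => Nat.beq (bC (vc6 v) u) 1 && Nat.beq (qC u) (qC (vc6 y0))) (fun u hu => by
      rw [← qC_vc, ← qC_vc, cast_eq_iff (qC_lt _) (qC_lt _)] at hu
      simp [B_eq_one.1 hu.1, hu.2])
  have := (Nat.card_le_card_of_injective _ hinj).trans (hle.trans hc')
  omega

/-! ### the Sylow subgroup -/

/-- the map of a coded isometry -/
def endOf (c : ℕ) (h : ∀ a < 64, ∀ b < 64, app c (Nat.xor a b) = Nat.xor (app c a) (app c b)) :
    AddMonoid.End V6 :=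
  AddMonoidHom.mk' (fun v => vo6 (app c (vc6 v))) fun a b => by
    rw [vc6_add, h _ (vc6_lt a) _ (vc6_lt b), vo6_xor]

theorem exists_gen (i : ℕ) (hi : i < 3) : ∃ u : O6, cd u = gl.getD i 0 := by
  have hadd : ∀ i < 3, ∀ a < 64, ∀ b < 64,
      app (gl.getD i 0) (Nat.xor a b) = Nat.xor (app (gl.getD i 0) a) (app (gl.getD i 0) b) := by
    decide +kernel
  have hc : ∀ i < 3, ∀ a < 64, app (gl.getD i 0) a < 64 ∧ qC (app (gl.getD i 0) a) = qC a ∧
      app (gl.getD i 0) (app (gl.getD i 0) (app (gl.getD i 0) (app (gl.getD i 0) (app (gl.getD i 0)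
        (app (gl.getD i 0) (app (gl.getD i 0) (app (gl.getD i 0) a))))))) = a := by decide +kernel
  obtain ⟨f, hf⟩ : ∃ f, f = endOf (gl.getD i 0) (hadd i hi) := ⟨_, rfl⟩
  have happ : ∀ v, vc6 (f v) = app (gl.getD i 0) (vc6 v) := fun v => by
    rw [hf]; exact vc6_vo6 _ (hc i hi _ (vc6_lt v)).1
  have h8 : f * (f * f * f * f * f * f * f) = 1 := DFunLike.ext _ _ fun v => vc6_inj (by
    simp only [AddMonoid.End.coe_mul, Function.comp_apply, happ]
    exact (hc i hi _ (vc6_lt v)).2.2)
  have h8' : (f * f * f * f * f * f * f) * f = 1 := by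
    simp only [mul_assoc] at h8 ⊢; exact h8
  let u : (AddMonoid.End V6)ˣ := ⟨f, f * f * f * f * f * f * f, h8, h8'⟩
  have hu : u ∈ O6 := fun v => by
    show q6 (f v) = q6 v
    rw [← qC_vc, ← qC_vc, happ, (hc i hi _ (vc6_lt v)).2.1]
  refine ⟨⟨u, hu⟩, ?_⟩
  have hpk : ∀ i < 3, pack (fun j => app (gl.getD i 0) (vc6 (vo6 (2 ^ j)))) = gl.getD i 0 := by
    decide +kernel
  rw [← hpk i hi]
  exact pack_congr fun j _ => happ _

/-- the generators -/
noncomputable def gen (i : ℕ) : O6 := if hi : i < 3 then (exists_gen i hi).choose else 1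

theorem cd_gen {i : ℕ} (hi : i < 3) : cd (gen i) = gl.getD i 0 := by
  rw [gen, dif_pos hi]; exact (exists_gen i hi).choose_spec

/-- the subgroup they generate -/
noncomputable def Syl : Subgroup O6 := Subgroup.closure {gen 0, gen 1, gen 2}

theorem gen_mem {i : ℕ} (hi : i < 3) : gen i ∈ Syl := by
  refine Subgroup.subset_closure ?_
  interval_cases i <;> simp

theorem getD_mem_el {k : ℕ} (hk : k < 128) : el.getD k 0 ∈ el := by
  have h : k < el.length := by rw [el_length.1]; exact hk
  rw [List.getD_eq_getElem _ _ h]; exact List.getElem_mem h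

theorem cd_mem_el {u : O6} (hu : u ∈ Syl) : cd u ∈ el := by
  rw [Syl, ← Subgroup.mem_toSubmonoid, Subgroup.closure_toSubmonoid_of_finite] at hu
  induction hu using Submonoid.closure_induction_right with
  | one => rw [cd_one, ← el_length.2.2]; exact getD_mem_el (by norm_num)
  | mul_right x _ y hy hx =>
    rw [cd_mul]
    have h := List.all_eq_true.1 el_closed _ hx
    simp only [List.all_eq_true, List.contains_iff_mem] at h
    have hg : ∀ i < 3, mulC (cd x) (cd (gen i)) ∈ el := fun i hi => by
      rw [cd_gen hi]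
      refine h _ ?_
      have hl : i < gl.length := by simp [gl]; omega
      rw [List.getD_eq_getElem _ _ hl]; exact List.getElem_mem hl
    rcases hy with rfl | rfl | rfl
    exacts [hg 0 (by norm_num), hg 1 (by norm_num), hg 2 (by norm_num)]

theorem exists_el {k : ℕ} (hk : k < 128) : ∃ u ∈ Syl, cd u = el.getD k 0 := by
  induction k using Nat.strong_induction_on with
  | _ k ih =>
    rcases k with _ | k
    · exact ⟨1, one_mem _, by rw [cd_one, el_length.2.2]⟩
    · obtain ⟨h1, h2, h3⟩ := el_step k (by omega)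
      obtain ⟨u, hu, hcu⟩ := ih (step.getD (k + 1) (0, 0)).1 (by omega) (by omega)
      exact ⟨u * gen _, mul_mem hu (gen_mem h2), by rw [cd_mul, hcu, cd_gen h2, h3]⟩

theorem card_Syl : Nat.card Syl = 128 := by
  classical
  let f : Syl → {c // c ∈ el.toFinset} := fun u => ⟨cd u.1, List.mem_toFinset.2 (cd_mem_el u.2)⟩
  have hf : Function.Bijective f := ⟨fun a b h => Subtype.ext (cd_inj (congrArg Subtype.val h)),
    fun c => by
      obtain ⟨k, hk, hck⟩ := List.getElem_of_mem (List.mem_toFinset.1 c.2)
      obtain ⟨u, hu, hcu⟩ := exists_el (k := k) (by rw [el_length.1] at hk; exact hk)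
      exact ⟨⟨u, hu⟩, Subtype.ext (by show cd u = c.1; rw [hcu, List.getD_eq_getElem _ _ hk, hck])⟩⟩
  rw [Nat.card_eq_of_bijective f hf, Nat.card_eq_finsetCard,
    List.toFinset_card_of_nodup el_nodup, el_length.1]

/-- Every two-subgroup is conjugate into the coded one. -/
theorem exists_conj_el (X : Subgroup O6) (hX : IsPGroup 2 X) :
    ∃ g : O6, ∀ x ∈ X, g * x * g⁻¹ ∈ Syl := by
  haveI : Fact (Nat.Prime 2) := ⟨Nat.prime_two⟩
  have hS : IsPGroup 2 Syl := IsPGroup.of_card (n := 7) (by rw [card_Syl]; norm_num)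
  obtain ⟨P, hP⟩ := hS.exists_le_sylow
  obtain ⟨Q, hQ⟩ := hX.exists_le_sylow
  have hPeq : (P : Subgroup O6) = Syl := by
    refine (Subgroup.eq_of_le_of_card_ge hP (Nat.le_of_eq ?_)).symm
    have e : (51840 : ℕ) = 2 ^ 7 * 405 := by norm_num
    rw [card_Syl, Sylow.card_eq_multiplicity, card_O6, e,
      Nat.factorization_mul (by norm_num) (by norm_num)]
    rw [Nat.Prime.factorization_pow Nat.prime_two, Finsupp.add_apply, Finsupp.single_eq_same,
      Nat.factorization_eq_zero_of_not_dvd (by norm_num : ¬ 2 ∣ 405)]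
    norm_num
  obtain ⟨g, hg⟩ := MulAction.exists_smul_eq O6 Q P
  refine ⟨g, fun x hx => ?_⟩
  rw [← hPeq, ← hg, Sylow.smul_def, Sylow.pointwise_smul_def]
  exact ⟨x, hQ hx, by simp⟩

/-- A two-subgroup of order at least `64` has two different non-trivial commutators. -/
theorem commutators (X : Subgroup O6) (hX : IsPGroup 2 X) (h64 : 64 ≤ Nat.card X) (k : O6)
    (hall : ∀ a ∈ X, ∀ b ∈ X, a * b = b * a ∨ a * b = k * (b * a)) : False := by
  classical
  haveI : Fact (Nat.Prime 2) := ⟨Nat.prime_two⟩
  obtain ⟨g, hg⟩ := exists_conj_el X hX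
  let X' : Subgroup Syl := (X.map (MulAut.conj g).toMonoidHom).subgroupOf Syl
  have hmem : ∀ w : Syl, w ∈ X' → g⁻¹ * (w : O6) * g ∈ X := by
    rintro w ⟨x, hx, e⟩
    rw [← show g * x * g⁻¹ = (w : O6) from e]
    simpa [mul_assoc] using hx
  have hidx : X'.index = 1 ∨ X'.index = 2 := by
    have hc : Nat.card X' = Nat.card X := by
      refine (Nat.card_congr (Subgroup.subgroupOfEquivOfLe ?_).toEquiv).trans
        (Subgroup.card_map_of_injective (MulAut.conj g).injective)
      rintro _ ⟨x, hx, rfl⟩
      exact hg x hx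
    have h := X'.card_mul_index
    rw [hc, card_Syl] at h
    have hpos : 0 < X'.index := Nat.pos_of_ne_zero Subgroup.index_ne_zero_of_finite
    have : X'.index ≤ 2 := by nlinarith
    omega
  let gs : ℕ → Syl := fun i => if hi : i < 3 then ⟨gen i, gen_mem hi⟩ else 1
  let e : ℕ → ℕ := fun i => if gs i ∈ X' then 0 else 1
  have he : ∀ i, e i < 2 := fun i => by dsimp only [e]; split_ifs <;> norm_num
  have hwit := wit_all
  simp only [List.all_eq_true, List.mem_range, List.any_eq_true, Bool.and_eq_true,
    Bool.not_eq_true'] at hwit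
  obtain ⟨r, -, ⟨h1, h2⟩, h3⟩ := hwit (e 0) (he 0) (e 1) (he 1) (e 2) (he 2)
  let val : List ℕ → Syl := fun w => (w.map gs).prod
  have hval : ∀ w : List ℕ, w.all (fun i => decide (i < 3)) = true →
      cd (val w : O6) = wordC w ∧ (val w ∈ X' ↔ parityW (e 0, e 1, e 2) w = 0) := by
    intro w hw
    induction w with
    | nil => exact ⟨cd_one, iff_of_true (one_mem _) rfl⟩
    | cons i w ih =>
      simp only [List.all_cons, Bool.and_eq_true, decide_eq_true_eq] at hw
      obtain ⟨ih1, ih2⟩ := ih hw.2
      have hv : val (i :: w) = gs i * val w := by simp [val]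
      refine ⟨?_, ?_⟩
      · rw [hv, Subgroup.coe_mul, cd_mul, ih1]
        show mulC (cd ((gs i : Syl) : O6)) _ = _
        rw [show ((gs i : Syl) : O6) = gen i by simp only [gs, dif_pos hw.1], cd_gen hw.1]
        rfl
      · have hp : parityW (e 0, e 1, e 2) (i :: w) = (e i + parityW (e 0, e 1, e 2) w) % 2 := by
          obtain ⟨hi, -⟩ := hw
          simp only [parityW, List.map_cons, List.sum_cons]
          interval_cases i <;> simp [Nat.add_mod]
        rw [hv, hp]
        have hpw : parityW (e 0, e 1, e 2) w < 2 := Nat.mod_lt _ two_pos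
        rcases hidx with hx | hx
        · have htop : ∀ a : Syl, a ∈ X' := fun a => by
            rw [Subgroup.index_eq_one.1 hx]; exact Subgroup.mem_top a
          have he0 : e i = 0 := by simp only [e, if_pos (htop _)]
          have hw0 := ih2.1 (htop _)
          exact iff_of_true (htop _) (by rw [he0, hw0])
        · rw [Subgroup.mul_mem_iff_of_index_two hx, ih2]
          by_cases hgi : gs i ∈ X'
          · have he0 : e i = 0 := by simp only [e, if_pos hgi]
            simp only [hgi, true_iff, he0, zero_add, Nat.mod_eq_of_lt hpw]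
          · have he1 : e i = 1 := by simp only [e, if_neg hgi]
            simp only [hgi, false_iff, he1]
            omega
  have main : ∀ u v : List ℕ, ∀ d, witB (e 0, e 1, e 2) u v d = true →
      el.getD d 0 = cd (g * k * g⁻¹) := by
    intro u v d hd
    have W := wit_of_witB hd
    have hs := W.small
    rw [List.all_append, Bool.and_eq_true] at hs
    obtain ⟨hu1, hu2⟩ := hval u hs.1
    obtain ⟨hv1, hv2⟩ := hval v hs.2
    obtain ⟨x, hxS, hx⟩ := exists_el W.lt
    have heq : (val u : O6) * (val v : O6) = x * ((val v : O6) * (val u : O6)) :=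
      cd_inj (by rw [cd_mul, cd_mul, cd_mul, hu1, hv1, hx, W.eq])
    have hne : x ≠ 1 := fun h => by
      rw [h, cd_one, ← el_length.2.2] at hx
      have hl : d < el.length := by rw [el_length.1]; exact W.lt
      have hl0 : 0 < el.length := by rw [el_length.1]; norm_num
      rw [List.getD_eq_getElem _ _ hl, List.getD_eq_getElem _ _ hl0] at hx
      exact W.ne ((List.Nodup.getElem_inj_iff el_nodup).1 hx).symm
    have ha := hmem _ (hu2.2 W.par_left)
    have hb := hmem _ (hv2.2 W.par_right)
    rcases hall _ ha _ hb with h | h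
    · exfalso
      refine hne ?_
      have : (val u : O6) * (val v : O6) = (val v : O6) * (val u : O6) := by
        calc (val u : O6) * (val v : O6)
            = g * ((g⁻¹ * (val u : O6) * g) * (g⁻¹ * (val v : O6) * g)) * g⁻¹ := by group
          _ = _ := by rw [h]; group
      rw [this] at heq
      exact mul_eq_right.1 heq.symm
    · have : (val u : O6) * (val v : O6) = g * k * g⁻¹ * ((val v : O6) * (val u : O6)) := by
        calc (val u : O6) * (val v : O6)
            = g * ((g⁻¹ * (val u : O6) * g) * (g⁻¹ * (val v : O6) * g)) * g⁻¹ := by group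
          _ = _ := by rw [h]; group
      rw [this] at heq
      rw [← hx, mul_right_cancel heq]
  have e1 := main _ _ _ h1
  have e2 := main _ _ _ h2
  have hl1 : r.2.2.2.1 < el.length := by rw [el_length.1]; exact (wit_of_witB h1).lt
  have hl2 : r.2.2.2.2.2.2 < el.length := by rw [el_length.1]; exact (wit_of_witB h2).lt
  rw [← e2, List.getD_eq_getElem _ _ hl1, List.getD_eq_getElem _ _ hl2] at e1
  exact Nat.ne_of_beq_eq_false h3 ((List.Nodup.getElem_inj_iff el_nodup).1 e1)

end CfsgLib.U62Cent.Six
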