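import Cfsg.Agent.Lib.U62Cent.SplitAlg

/-!
Faithful orthogonal actions of `SU₄(2)` on eight bits with four components: the natural module.
-/

set_option autoImplicit false
set_option maxRecDepth 100000
set_option linter.style.haveILetI false

namespace CfsgLib.U62Cent.Split

open Matrix

universe u

/-- the indices of the natural orbit -/
abbrev j4 (j : Fin 4) : Fin 14 := j.castLE (by norm_num)

/-- elements with value one at a character -/
def yv : Fin 4 → T := ![(1, 0, 0), (0, 1, 0), (0, 0, 1), (2, 0, 0)]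

/-- the rotation in the torus algebra -/
def oc (z : T) : ZMod 2 := ∑ j, cls (j4 j) (z - yv j)

theorem oc_sq : ∀ z, cv oc oc z + oc z + ∑ j, cls (j4 j) z = 0 := by decide +kernel

theorem oc_perm : ∀ σ x, oc (sm σ x) = oc x := by decide +kernel

theorem oc_act : ∀ j x z, cls (j4 j) (z - x) =
    (pw (co x j)).re * cls (j4 j) z + (pw (co x j)).im * cv oc (cls (j4 j)) z := by decide +kernel

theorem cls_perm₄ : ∀ σ : Equiv.Perm (Fin 4), ∀ j x,
    cls (j4 (σ j)) (sm σ x) = cls (j4 j) x := by decide +kernel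

theorem stab_zero : ∀ s : Equiv.Perm (Fin 4), s 0 = 0 → ∃ i j k l : Fin 4,
    i ≠ 0 ∧ j ≠ 0 ∧ k ≠ 0 ∧ l ≠ 0 ∧ s = Equiv.swap i j * Equiv.swap k l := by decide +kernel

/-- the norm of a field element -/
def nm (c : K4) : ZMod 2 := c.re + c.im + c.re * c.im

/-- the sum of norms -/
def nm4 (c : V4) : ZMod 2 := ∑ j, nm (c j)

theorem k4_two (x : K4) : x + x = 0 := by
  have : ∀ a b : ZMod 2, (⟨a, b⟩ : K4) + ⟨a, b⟩ = 0 := by decide +kernel
  exact this x.re x.im

theorem t0_mulVec (c : V4) (i : Fin 4) :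
    (t0.1.1 *ᵥ c) i = c i + (c 0 + c 1 + c 2 + c 3) := by
  rw [t0, tr_mulVec]
  simp [tv, x4, hf, Cfsg.hermForm, Fin.sum_univ_four]

theorem t0_sq : t0 * t0 = 1 := by
  refine Classical.Unitary.su_ext fun c => funext fun i => ?_
  rw [Classical.Unitary.su_mul_mulVec, Classical.Unitary.su_one_mulVec]
  simp only [t0_mulVec]
  linear_combination 3 * k4_two (c 0 + c 1 + c 2 + c 3)

theorem t0_perm (σ : Equiv.Perm (Fin 4)) : t0 * perm σ = perm σ * t0 := by
  refine Classical.Unitary.su_ext fun c => funext fun i => ?_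
  rw [Classical.Unitary.su_mul_mulVec, Classical.Unitary.su_mul_mulVec, t0_mulVec, perm_mulVec,
    perm_mulVec, perm_mulVec, perm_mulVec, perm_mulVec, perm_mulVec, t0_mulVec]
  congr 1
  have h := Equiv.sum_comp σ⁻¹ c
  rwa [Fin.sum_univ_four, Fin.sum_univ_four] at h

theorem t0_ne : t0 ≠ 1 := fun h => by
  have h1 := congrArg (fun g : S4U => (g.1.1 *ᵥ (Pi.single 0 1 : V4)) 1) h
  simp only [t0_mulVec, Classical.Unitary.su_one_mulVec] at h1
  simp at h1

theorem chi_j4 : ∀ j x, chi (j4 j) x = co x j := by decide +kernel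

theorem hf_eq (u v : V4) : (hf u v).im = ∑ j, (u j * v j ^ 2).im := by
  simp [hf, Cfsg.hermForm, Fin.sum_univ_four]

theorem hf_self (v : V4) : hf v v = ⟨nm4 v, 0⟩ := by
  have h : ∀ a b : ZMod 2, (⟨a, b⟩ : K4) * (⟨a, b⟩ : K4) ^ 2 = ⟨nm ⟨a, b⟩, 0⟩ := by decide +kernel
  have h' : ∀ j, v j * v j ^ 2 = ⟨nm (v j), 0⟩ := fun j => h (v j).re (v j).im
  simp only [hf, Cfsg.hermForm, Fin.sum_univ_four, nm4, h']
  exact QuadraticAlgebra.ext rfl rfl

theorem nm_polar (a b : K4) : nm (a + b) = nm a + nm b + (a * b ^ 2).im := by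
  have h : ∀ p r s t : ZMod 2, nm ((⟨p, r⟩ : K4) + ⟨s, t⟩) =
      nm ⟨p, r⟩ + nm ⟨s, t⟩ + ((⟨p, r⟩ : K4) * (⟨s, t⟩ : K4) ^ 2).im := by decide +kernel
  exact h a.re a.im b.re b.im

variable {V : Type u} [AddCommGroup V] [Module (ZMod 2) V] (R : Rep V)

/-- the rotation -/
noncomputable def Rep.om : Module.End (ZMod 2) V := R.Φ oc

/-- the scalars -/
noncomputable def Rep.kap (c : K4) : Module.End (ZMod 2) V := c.re • 1 + c.im • R.om

/-- an action with four components -/
structure IsNat : Prop where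
  card_W : ∀ j : Fin 4, Nat.card (R.W (j4 j)) = 4
  other : ∀ k : Fin 14, (∀ j : Fin 4, k ≠ j4 j) → R.E k = 0

/-- the natural module inside the action -/
structure NatIso where
  /-- the coordinates -/
  e : V4 ≃+ V
  equiv : ∀ (g : S4U) (c : V4), R.ψ g (e c) = e (g.1.1 *ᵥ c)
  q_iff : ∀ c, R.q (e c) = 0 ↔ hf c c = 0
  B_iff : ∀ c d, R.B (e c) (e d) = 0 ↔ (hf c d).im = 0
  commutant : ∀ D : Module.End (ZMod 2) V, (∀ g, Commute D (R.ψ g)) →
    ∃ k : K4, ∀ c, D (e c) = e (k • c)

variable {R}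

theorem IsNat.sum_E (N : IsNat R) : ∑ j : Fin 4, R.E (j4 j) = 1 := by
  rw [← R.E_sum]
  refine ((Finset.sum_image fun i _ j _ h => Fin.castLE_injective _ h).symm.trans
    (Finset.sum_subset (Finset.subset_univ _) fun k _ hk => N.other k fun j hj => hk ?_))
  exact Finset.mem_image.2 ⟨j, Finset.mem_univ _, hj.symm⟩

theorem IsNat.om_sq (N : IsNat R) : R.om * R.om = 1 + R.om := by
  have h : R.Φ (fun z => cv oc oc z + oc z + ∑ j, cls (j4 j) z) = 0 := by
    rw [show (fun z => cv oc oc z + oc z + ∑ j, cls (j4 j) z) = fun _ => 0 from funext oc_sq,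
      R.Φ_zero]
  rw [R.Φ_add, R.Φ_add, R.Φ_cv, R.Φ_sum] at h
  change R.om * R.om + R.om + ∑ j, R.E (j4 j) = 0 at h
  rw [N.sum_E] at h
  refine LinearMap.ext fun v => ?_
  have h1 := LinearMap.congr_fun h v
  simp only [LinearMap.add_apply, LinearMap.zero_apply, Module.End.one_apply] at h1 ⊢
  rw [add_assoc, add_eq_zero_iff_eq_neg] at h1
  rw [h1, eq_comm, eq_neg_iff_add_eq_zero, add_comm (R.om v) v]
  exact two_V _

theorem IsNat.kap_mul (N : IsNat R) (c d : K4) : R.kap (c * d) = R.kap c * R.kap d := by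
  simp only [Rep.kap, QuadraticAlgebra.re_mul, QuadraticAlgebra.im_mul, add_mul, mul_add,
    smul_mul_smul_comm, one_mul, mul_one, N.om_sq, smul_add, add_smul]
  abel

theorem Rep.kap_one : R.kap 1 = 1 := by
  rw [Rep.kap, show (1 : K4).re = 1 from rfl, show (1 : K4).im = 0 from rfl, one_smul, zero_smul,
    add_zero]

theorem Rep.kap_add (c d : K4) : R.kap (c + d) = R.kap c + R.kap d := by
  simp [Rep.kap, add_smul]; abel

theorem Rep.kap_zero : R.kap 0 = 0 := by simp [Rep.kap]

theorem Rep.kap_om : R.kap om4 = R.om := by simp [Rep.kap, om4]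

theorem Rep.commute_kap {f : Module.End (ZMod 2) V} (hf : Commute f R.om) (c : K4) :
    Commute f (R.kap c) :=
  ((Commute.one_right f).smul_right _).add_right (hf.smul_right _)

theorem Rep.om_Φ (c : T → ZMod 2) : Commute (R.Φ c) R.om := R.Φ_comm c oc

theorem Rep.om_A (x : T) : Commute (R.ψ (A x)) R.om := by
  rw [← R.Φ_dlt]; exact R.om_Φ _

theorem Rep.om_perm (σ : Equiv.Perm (Fin 4)) : Commute (R.ψ (perm σ)) R.om :=
  R.perm_Φ σ (oc_perm σ)

theorem Rep.act_E (j : Fin 4) (x : T) :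
    R.ψ (A x) * R.E (j4 j) = R.kap (pw (co x j)) * R.E (j4 j) := by
  rw [Rep.E, R.Φ_dlt_mul, Rep.kap, add_mul, smul_mul_assoc, smul_mul_assoc, one_mul, Rep.om,
    ← R.Φ_cv]
  rw [show (fun z => cls (j4 j) (z - x)) = fun z =>
    (pw (co x j)).re * cls (j4 j) z + (pw (co x j)).im * cv oc (cls (j4 j)) z from funext (oc_act j x),
    R.Φ_add]
  have hsc : ∀ (a : ZMod 2) (c : T → ZMod 2), R.Φ (fun z => a * c z) = a • R.Φ c := fun a c => by
    simp [Rep.Φ, Finset.smul_sum, smul_smul]
  rw [hsc, hsc]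

theorem IsNat.kap_inj (N : IsNat R) {v : V} (hv : v ≠ 0) {c d : K4}
    (h : R.kap c v = R.kap d v) : c = d := by
  by_contra hne
  have h1 : R.kap (c - d) v = 0 := by
    have h2 : R.kap c v = R.kap (c - d) v + R.kap d v := by
      rw [← LinearMap.add_apply, ← R.kap_add, sub_add_cancel]
    rw [← h] at h2
    exact add_eq_right.mp h2.symm
  refine hv ?_
  rw [← Module.End.one_apply (R := ZMod 2) v, ← R.kap_one,
    ← inv_mul_cancel₀ (sub_ne_zero.2 hne), N.kap_mul, Module.End.mul_apply, h1, map_zero]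

theorem Rep.kap_mem {k : Fin 14} {v : V} (hv : v ∈ R.W k) (c : K4) : R.kap c v ∈ R.W k := by
  have h : Commute (R.E k) (R.kap c) := R.commute_kap (R.om_Φ _) c
  rw [R.mem_W, ← Module.End.mul_apply, h.eq, Module.End.mul_apply, R.mem_W.1 hv]

variable [Finite V]

theorem IsNat.span_W (N : IsNat R) {j : Fin 4} {v : V} (hv : v ∈ R.W (j4 j)) (hv0 : v ≠ 0) {w : V}
    (hw : w ∈ R.W (j4 j)) : ∃ c, w = R.kap c v := by
  have hbij : Function.Bijective (fun c : K4 => (⟨R.kap c v, R.kap_mem hv c⟩ : R.W (j4 j))) :=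
    (Nat.bijective_iff_injective_and_card _).2
      ⟨fun c d h => N.kap_inj hv0 (congrArg Subtype.val h), by rw [Spor.U62.card_K4, N.card_W]⟩
  obtain ⟨c, hc⟩ := hbij.2 ⟨w, hw⟩
  exact ⟨c, (congrArg Subtype.val hc).symm⟩

theorem IsNat.om_y (N : IsNat R) : Commute (R.ψ y) R.om := by
  set a : T := (1, 1, 1) with ha
  set P : Module.End (ZMod 2) V := 1 + R.ψ (A a) + R.ψ (A (a + a)) with hP
  have hchi : ∀ j : Fin 4, chi (j4 j) a = 0 ↔ j = 3 := by decide +kernel
  have hPE : ∀ j : Fin 4, P * R.E (j4 j) = if j = 3 then R.E (j4 j) else 0 := by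
    intro j
    rw [hP, add_mul, add_mul, one_mul]
    split_ifs with h
    · have h2 : chi (j4 j) (a + a) = 0 := by subst h; decide
      rw [R.E_fix ((hchi j).2 h), R.E_fix h2]
      refine LinearMap.ext fun v => ?_
      rw [LinearMap.add_apply, LinearMap.add_apply, two_V, zero_add]
    · exact R.E_rot ((hchi j).not.2 h)
  have hPeq : P = R.E (j4 3) := by
    rw [← mul_one P, ← N.sum_E, Finset.mul_sum, Finset.sum_congr rfl fun j _ => hPE j,
      Finset.sum_ite_eq' Finset.univ (3 : Fin 4), if_pos (Finset.mem_univ _)]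
  have hya : Commute y (A a) := y_comm
  have hyP : Commute (R.ψ y) (R.E (j4 3)) := by
    rw [← hPeq, hP]
    refine ((Commute.one_right _).add_right (hya.map R.ψ)).add_right ?_
    rw [A_add]
    exact (hya.mul_right hya).map R.ψ
  have hom : R.om = R.ψ (A a) + R.ψ (A a) * R.E (j4 3) + R.om * R.E (j4 3) := by
    rw [← mul_one R.om, ← mul_one (R.ψ (A a)), ← N.sum_E, Finset.mul_sum, Finset.mul_sum,
      Finset.sum_mul, Finset.sum_mul]
    simp only [Fin.sum_univ_four, mul_assoc, R.E_mul, R.act_E, reduceIte,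
      show (j4 0 = j4 3) = False from eq_false (by decide), show (j4 1 = j4 3) = False from eq_false (by decide),
      show (j4 2 = j4 3) = False from eq_false (by decide), mul_zero, zero_add]
    rw [show pw (co a 0) = om4 by rw [ha]; decide +kernel,
      show pw (co a 1) = om4 by rw [ha]; decide +kernel,
      show pw (co a 2) = om4 by rw [ha]; decide +kernel,
      show pw (co a 3) = 1 by rw [ha]; decide +kernel, R.kap_om, R.kap_one, one_mul]
    refine LinearMap.ext fun v => ?_
    simp only [LinearMap.add_apply]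
    have h2 := two_V ((R.E (j4 3)) v)
    calc _ = (R.om * R.E (j4 0)) v + (R.om * R.E (j4 1)) v + (R.om * R.E (j4 2)) v +
          ((R.E (j4 3)) v + (R.E (j4 3)) v) + (R.om * R.E (j4 3)) v := by rw [h2, add_zero]
      _ = _ := by abel
  -- on the fourth component
  have hlast : Commute (R.ψ y) (R.om * R.E (j4 3)) := by
    refine LinearMap.ext fun v => ?_
    rw [Module.End.mul_apply, Module.End.mul_apply, Module.End.mul_apply, Module.End.mul_apply,
      show R.E (j4 3) (R.ψ y v) = R.ψ y (R.E (j4 3) v) from (LinearMap.congr_fun hyP v).symm]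
    set w := R.E (j4 3) v with hw'
    have hwW : w ∈ R.W (j4 3) := ⟨v, rfl⟩
    by_cases hw0 : w = 0
    · simp [hw0]
    have hmem : ∀ u ∈ R.W (j4 3), R.ψ y u ∈ R.W (j4 3) := fun u hu => by
      rw [R.mem_W, ← Module.End.mul_apply, ← hyP.eq, Module.End.mul_apply, R.mem_W.1 hu]
    obtain ⟨c, hc⟩ := N.span_W hwW hw0 (hmem w hwW)
    have homW : R.om w ∈ R.W (j4 3) := by rw [← R.kap_om]; exact R.kap_mem hwW _
    obtain ⟨d, hd⟩ := N.span_W hwW hw0 (hmem _ homW)
    let f : K4 → K4 := fun e => ⟨e.re * c.re + e.im * d.re, e.re * c.im + e.im * d.im⟩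
    have hf : ∀ e, R.ψ y (R.kap e w) = R.kap (f e) w := fun e => by
      rw [Rep.kap, LinearMap.add_apply, LinearMap.smul_apply, LinearMap.smul_apply,
        Module.End.one_apply, map_add, map_smul, map_smul, hc, hd]
      simp only [Rep.kap, LinearMap.add_apply, LinearMap.smul_apply, Module.End.one_apply, f,
        add_smul, smul_add, smul_smul]
      abel
    have h3 : ∀ e, f (f (f e)) = e := fun e => N.kap_inj hw0 (by
      rw [← hf, ← hf, ← hf, ← Module.End.mul_apply, ← Module.End.mul_apply, ← map_mul, ← map_mul,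
        mul_assoc, ← pow_three, y_cube, map_one, Module.End.one_apply])
    have hdec : ∀ c1 c2 d1 d2 : ZMod 2,
        (let f : K4 → K4 := fun e => ⟨e.re * c1 + e.im * d1, e.re * c2 + e.im * d2⟩
         f (f (f 1)) = 1 ∧ f (f (f om4)) = om4) → (⟨d1, d2⟩ : K4) = om4 * ⟨c1, c2⟩ := by
      decide +kernel
    have hdc : d = om4 * c := hdec c.re c.im d.re d.im ⟨h3 1, h3 om4⟩
    rw [hd, hdc, N.kap_mul, Module.End.mul_apply, ← hc, R.kap_om]
  rw [hom]
  exact ((hya.map R.ψ).add_right ((hya.map R.ψ).mul_right hyP)).add_right hlast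

theorem IsNat.om_t0 (N : IsNat R) : Commute (R.ψ t0) R.om := by
  have hinv : ∀ g : S4U, Commute (R.ψ g) R.om → Commute (R.ψ g⁻¹) R.om := fun g h => by
    refine LinearMap.ext fun v => ?_
    have h1 := congrArg (R.ψ g⁻¹) (LinearMap.congr_fun h.eq (R.ψ g⁻¹ v))
    rw [Module.End.mul_apply, Module.End.mul_apply, R.ψ_inv, R.inv_ψ] at h1
    exact h1.symm
  rw [t0_word, map_mul, map_mul, map_mul, map_mul]
  exact ((hinv _ (R.om_A _)).mul_left ((N.om_y.mul_left (R.om_perm _)).mul_left
    (hinv _ N.om_y))).mul_left (R.om_A _)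

theorem IsNat.natIso (N : IsNat R) : Nonempty (NatIso R) := by
  classical
  obtain ⟨v₀, hv₀, hv₀0⟩ : ∃ v ∈ R.W (j4 0), v ≠ 0 := by
    by_contra hh
    push Not at hh
    haveI : Subsingleton (R.W (j4 0)) :=
      ⟨fun a b => Subtype.ext ((hh a a.2).trans (hh b b.2).symm)⟩
    have h := N.card_W 0
    rw [Nat.card_unique] at h
    norm_num at h
  -- the basis
  let vv : Fin 4 → V := fun j => R.ψ (perm (Equiv.swap 0 j)) v₀
  have hpW : ∀ (σ : Equiv.Perm (Fin 4)) (j : Fin 4) (v : V), v ∈ R.W (j4 j) →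
      R.ψ (perm σ) v ∈ R.W (j4 (σ j)) := fun σ j v hv => by
    have h : R.ψ (perm σ) * R.E (j4 j) = R.E (j4 (σ j)) * R.ψ (perm σ) :=
      R.perm_Φ σ (cls_perm₄ σ j)
    rw [R.mem_W, ← Module.End.mul_apply, ← h, Module.End.mul_apply, R.mem_W.1 hv]
  have hswap0 : ∀ i j : Fin 4, i ≠ 0 → j ≠ 0 → R.ψ (perm (Equiv.swap i j)) v₀ = v₀ := by
    intro i j hi hj
    have hm := hpW (Equiv.swap i j) 0 v₀ hv₀
    rw [Equiv.swap_apply_of_ne_of_ne hi.symm hj.symm] at hm
    obtain ⟨c, hc⟩ := N.span_W hv₀ hv₀0 hm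
    have h1 := congrArg (R.ψ (perm (Equiv.swap i j))) hc
    rw [← Module.End.mul_apply, ← map_mul, ← map_mul, Equiv.swap_mul_self, map_one, map_one,
      Module.End.one_apply, ← Module.End.mul_apply, (R.commute_kap (R.om_perm _) c).eq,
      Module.End.mul_apply, hc, ← Module.End.mul_apply, ← N.kap_mul] at h1
    have hcc : c * c = 1 := N.kap_inj hv₀0 (by rw [← h1, R.kap_one, Module.End.one_apply])
    have hc1 : c = 1 := by
      have : ∀ a b : ZMod 2, (⟨a, b⟩ : K4) * ⟨a, b⟩ = 1 → (⟨a, b⟩ : K4) = 1 := by decide +kernel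
      exact this c.re c.im hcc
    rw [hc, hc1, R.kap_one, Module.End.one_apply]
  have hfix : ∀ s : Equiv.Perm (Fin 4), s 0 = 0 → R.ψ (perm s) v₀ = v₀ := by
    intro s hs
    obtain ⟨i, j, k, l, hi, hj, hk, hl, rfl⟩ := stab_zero s hs
    rw [map_mul, map_mul, Module.End.mul_apply, hswap0 k l hk hl, hswap0 i j hi hj]
  have hperm : ∀ σ j, R.ψ (perm σ) (vv j) = vv (σ j) := by
    intro σ j
    have hs : (Equiv.swap 0 (σ j) * σ * Equiv.swap 0 j) 0 = 0 := by simp
    show R.ψ (perm σ) (R.ψ (perm (Equiv.swap 0 j)) v₀) = R.ψ (perm (Equiv.swap 0 (σ j))) v₀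
    conv_rhs => rw [← hfix _ hs]
    rw [← Module.End.mul_apply, ← map_mul, ← map_mul, ← Module.End.mul_apply, ← map_mul, ← map_mul,
      ← mul_assoc, ← mul_assoc, Equiv.swap_mul_self, one_mul]
  have hvW : ∀ j, vv j ∈ R.W (j4 j) := fun j => by
    have h := hpW (Equiv.swap 0 j) 0 v₀ hv₀
    rwa [Equiv.swap_apply_left] at h
  have hv0 : ∀ j, vv j ≠ 0 := fun j h => hv₀0 (by
    rw [← R.inv_ψ (perm (Equiv.swap 0 j)) v₀]
    show R.ψ _ (vv j) = 0
    rw [h, map_zero])
  -- the coordinates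
  let ι : V4 →+ V := AddMonoidHom.mk' (fun c => ∑ j, R.kap (c j) (vv j)) fun c d => by
    simp only [Pi.add_apply, R.kap_add, LinearMap.add_apply, Finset.sum_add_distrib]
  have hι : ∀ c, ι c = ∑ j, R.kap (c j) (vv j) := fun c => rfl
  have hEι : ∀ c j, R.E (j4 j) (ι c) = R.kap (c j) (vv j) := fun c j => by
    rw [hι, map_sum, Finset.sum_eq_single j (fun i _ hi => R.E_ne
      (fun h => hi (Fin.castLE_injective _ h).symm) (R.kap_mem (hvW i) _))
      (fun h => absurd (Finset.mem_univ j) h), R.mem_W.1 (R.kap_mem (hvW j) _)]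
  have hbij : Function.Bijective ι := by
    refine (Nat.bijective_iff_injective_and_card _).2 ⟨fun c d h => funext fun j => ?_, ?_⟩
    · exact N.kap_inj (hv0 j) (by rw [← hEι, h, hEι])
    · rw [R.card, Nat.card_pi]
      simp [Spor.U62.card_K4]
  let e : V4 ≃+ V := AddEquiv.ofBijective ι hbij
  have he : ∀ c, e c = ι c := fun c => rfl
  have hsmul : ∀ (k : K4) c, ι (k • c) = R.kap k (ι c) := fun k c => by
    rw [hι, hι, map_sum]
    exact Finset.sum_congr rfl fun j _ => by
      rw [Pi.smul_apply, smul_eq_mul, N.kap_mul, Module.End.mul_apply]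
  have eA : ∀ x c, R.ψ (A x) (ι c) = ι ((A x).1.1 *ᵥ c) := fun x c => by
    rw [hι, hι, map_sum]
    refine Finset.sum_congr rfl fun j _ => ?_
    rw [A_mulVec, N.kap_mul, Module.End.mul_apply]
    have h := LinearMap.congr_fun (R.act_E j x) (R.kap (c j) (vv j))
    rwa [Module.End.mul_apply, Module.End.mul_apply, R.mem_W.1 (R.kap_mem (hvW j) _)] at h
  have eP : ∀ σ c, R.ψ (perm σ) (ι c) = ι ((perm σ).1.1 *ᵥ c) := fun σ c => by
    rw [hι, hι, map_sum]
    refine Fintype.sum_equiv σ _ _ fun j => ?_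
    rw [perm_mulVec, show σ⁻¹ (σ j) = j from σ.symm_apply_apply j, ← Module.End.mul_apply,
      (R.commute_kap (R.om_perm σ) (c j)).eq, Module.End.mul_apply, hperm]
  -- the forms
  have hnorm : ∀ j k, R.q (R.kap k (vv j)) = nm k := by
    intro j k
    obtain ⟨x, hx⟩ := (⟨yv j, by revert j; decide⟩ : ∃ x, co x j = 1)
    have hA : R.ψ (A x) (vv j) = R.om (vv j) := by
      have h := LinearMap.congr_fun (R.act_E j x) (vv j)
      rw [Module.End.mul_apply, Module.End.mul_apply, R.mem_W.1 (hvW j), hx,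
        show pw 1 = om4 from rfl, R.kap_om] at h
      exact h
    have h1 : R.q (R.om (vv j)) = R.q (vv j) := by rw [← hA, R.act_q]
    have h2 : R.q (vv j + R.om (vv j)) = R.q (vv j) := by
      have h := R.act_q (A x) (R.ψ (A x) (vv j))
      have hx' : chi (j4 j) x ≠ 0 := by
        rw [chi_j4, hx]; decide
      rw [R.rot_apply hx' (hvW j), hA] at h
      exact h.trans h1
    have hq1 : R.q (vv j) = 1 := by
      refine (z2_cases _).resolve_left fun h0 => hv0 j (R.nondeg _ fun w => ?_)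
      have hB1 : R.B (vv j) (R.om (vv j)) = 0 := by
        have h := R.polar (vv j) (R.om (vv j))
        rw [h2, h1, h0] at h
        simpa using h.symm
      have hB0 : R.B (vv j) (vv j) = 0 := by
        have h := R.polar (vv j) (vv j)
        rw [two_V, R.q_zero, h0] at h
        simpa using h.symm
      obtain ⟨c, rfl⟩ := hbij.2 w
      rw [R.B_symm, hι, R.B_sum]
      refine Finset.sum_eq_zero fun i _ => ?_
      rcases eq_or_ne i j with rfl | hij
      · rw [Rep.kap, LinearMap.add_apply, LinearMap.smul_apply, LinearMap.smul_apply,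
          Module.End.one_apply, R.bil, R.B_smul, R.B_smul, R.B_symm _ (vv i), hB0,
          R.B_symm _ (vv i), hB1, mul_zero, mul_zero, add_zero]
      · exact R.W_orth (fun h => hij (Fin.castLE_injective _ h)) (R.kap_mem (hvW i) _) (hvW j)
    rw [Rep.kap, LinearMap.add_apply, LinearMap.smul_apply, LinearMap.smul_apply,
      Module.End.one_apply]
    rcases z2_cases k.re with a | a <;> rcases z2_cases k.im with b | b <;>
      simp [nm, a, b, R.q_zero, hq1, h1, h2, show (1 : ZMod 2) + 1 + 1 = 1 from rfl]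
  have hq : ∀ c, R.q (ι c) = nm4 c := by
    intro c
    rw [hι, Fin.sum_univ_four, nm4, Fin.sum_univ_four, R.polar, R.polar, R.polar, hnorm, hnorm,
      hnorm, hnorm]
    have o : ∀ i k : Fin 4, i ≠ k → R.B (R.kap (c i) (vv i)) (R.kap (c k) (vv k)) = 0 := fun i k h =>
      R.W_orth (fun e => h (Fin.castLE_injective _ e)) (R.kap_mem (hvW i) _) (R.kap_mem (hvW k) _)
    simp only [R.bil, o 0 1 (by decide), o 0 2 (by decide), o 0 3 (by decide), o 1 2 (by decide),
      o 1 3 (by decide), o 2 3 (by decide), add_zero]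
  have hq' : ∀ c, R.q (ι c) = 0 ↔ hf c c = 0 := fun c => by
    rw [hq, hf_self]
    exact ⟨fun h => by rw [h]; rfl, fun h => congrArg QuadraticAlgebra.re h⟩
  have hB : ∀ c d, R.B (ι c) (ι d) = (hf c d).im := fun c d => by
    have h := R.polar (ι c) (ι d)
    rw [← map_add, hq, hq, hq] at h
    have h2 : nm4 (c + d) = nm4 c + nm4 d + (hf c d).im := by
      simp only [nm4, Pi.add_apply, nm_polar, Finset.sum_add_distrib, hf_eq]
    exact add_left_cancel (h.symm.trans h2)
  -- the last generator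
  have et : ∀ c, R.ψ t0 (ι c) = ι (t0.1.1 *ᵥ c) := by
    let Tm : V4 →+ V4 := AddMonoidHom.mk' (fun c => e.symm (R.ψ t0 (ι c))) fun c d => by
      rw [map_add, map_add, map_add]
    have hT : ∀ c, ι (Tm c) = R.ψ t0 (ι c) := fun c => e.apply_symm_apply _
    have hTk : ∀ (k : K4) c, Tm (k • c) = k • Tm c := fun k c => hbij.1 (by
      rw [hT, hsmul, hsmul, hT, ← Module.End.mul_apply, (R.commute_kap N.om_t0 k).eq,
        Module.End.mul_apply])
    have hTP : ∀ σ c, Tm ((perm σ).1.1 *ᵥ c) = (perm σ).1.1 *ᵥ Tm c := fun σ c => hbij.1 (by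
      rw [hT, ← eP, ← eP, hT, ← Module.End.mul_apply, ← Module.End.mul_apply, ← map_mul, ← map_mul]
      congr 2
      exact t0_perm σ)
    have hTsq : ∀ c, Tm (Tm c) = c := fun c => hbij.1 (by
      rw [hT, hT, ← Module.End.mul_apply, ← map_mul, t0_sq, map_one, Module.End.one_apply])
    set u := Tm (Pi.single 0 1) with hu
    have hsym : ∀ i j : Fin 4, i ≠ 0 → j ≠ 0 → u i = u j := fun i j hi hj => by
      have h := congrFun (hTP (Equiv.swap i j) (Pi.single 0 1)) j
      rw [perm_mulVec, Equiv.swap_inv, Equiv.swap_apply_right] at h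
      rw [show (perm (Equiv.swap i j)).1.1 *ᵥ (Pi.single (0 : Fin 4) (1 : K4)) = Pi.single 0 1 from
        funext fun l => by
          rw [perm_mulVec, Equiv.swap_inv]
          rcases eq_or_ne l 0 with rfl | hl
          · rw [Equiv.swap_apply_of_ne_of_ne hi.symm hj.symm]
          · have hne : Equiv.swap i j l ≠ 0 := fun e => hl (by
              rw [← Equiv.swap_apply_self i j l, e, Equiv.swap_apply_of_ne_of_ne hi.symm hj.symm])
            rw [Pi.single_eq_of_ne hne, Pi.single_eq_of_ne hl], ← hu] at h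
      exact h.symm
    have hform : ∀ c : V4, Tm c = fun i => (u 0 + u 1) * c i + u 1 * (c 0 + c 1 + c 2 + c 3) := by
      intro c
      have hej : ∀ j : Fin 4, Tm (Pi.single j 1) = fun i => u (Equiv.swap 0 j i) := fun j => by
        have h := hTP (Equiv.swap 0 j) (Pi.single 0 1)
        rw [show (perm (Equiv.swap 0 j)).1.1 *ᵥ (Pi.single (0 : Fin 4) (1 : K4)) = Pi.single j 1 from
          funext fun l => by
            rw [perm_mulVec, Equiv.swap_inv]
            rcases eq_or_ne l j with rfl | hl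
            · rw [Equiv.swap_apply_right, Pi.single_eq_same, Pi.single_eq_same]
            · have hne : Equiv.swap 0 j l ≠ 0 := fun e => hl (by
                rw [← Equiv.swap_apply_self 0 j l, e, Equiv.swap_apply_left])
              rw [Pi.single_eq_of_ne hne, Pi.single_eq_of_ne hl]] at h
        rw [h]
        funext i
        rw [perm_mulVec, Equiv.swap_inv]
      conv_lhs => rw [pi_eq_sum_univ c, map_sum]
      funext i
      have hsingle : ∀ j : Fin 4, (fun k => if j = k then (1 : K4) else 0) = Pi.single j 1 := fun j =>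
        funext fun k => by simp [Pi.single_apply, eq_comm]
      simp only [Finset.sum_apply, hTk, hsingle, hej, Pi.smul_apply, smul_eq_mul, Fin.sum_univ_four]
      have k4two : ∀ x : K4, x + x = 0 := by
        have : ∀ a b : ZMod 2, (⟨a, b⟩ : K4) + ⟨a, b⟩ = 0 := by decide +kernel
        exact fun x => this x.re x.im
      have h2 := hsym 2 1 (by decide) (by decide)
      have h3 := hsym 3 1 (by decide) (by decide)
      have two0 : (2 : K4) = 0 := by decide +kernel
      fin_cases i <;> simp [Equiv.swap_apply_def, h2, h3] <;> rw [← sub_eq_zero] <;> ring_nf <;>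
        simp [two0]
    have hp : u 0 + u 1 = 1 := by
      have h := congrFun (hTsq (Pi.single 0 1)) 1
      have h' := congrFun (hTsq (Pi.single 0 1)) 0
      rw [← hu, hform u] at h h'
      simp only [Pi.single_apply] at h h'
      rw [show u 2 = u 1 from hsym 2 1 (by decide) (by decide),
        show u 3 = u 1 from hsym 3 1 (by decide) (by decide)] at h h'
      revert h h'
      have : ∀ a b a' b' : ZMod 2, let p : K4 := ⟨a, b⟩; let r : K4 := ⟨a', b'⟩
          (p + r) * r + r * (p + r + r + r) = 0 → (p + r) * p + r * (p + r + r + r) = 1 →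
            p + r = 1 := by decide +kernel
      intro h h'
      exact this (u 0).re (u 0).im (u 1).re (u 1).im (by simpa using h) (by simpa using h')
    have hb : u 1 = 1 := by
      have hn : nm4 u = 1 := by
        rw [← hq, hu, hT, R.act_q, hq]
        decide +kernel
      have hu0 : u 1 ≠ 0 := by
        intro h0
        have hid : ∀ c, Tm c = c := fun c => by
          rw [hform c]; funext i; rw [hp, h0]; simp
        have h1 : R.ψ t0 = 1 := LinearMap.ext fun v => by
          obtain ⟨c, rfl⟩ := hbij.2 v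
          rw [← hT, hid, Module.End.one_apply]
        exact t0_ne (R.inj (h1.trans (map_one R.ψ).symm))
      have : ∀ a b : ZMod 2, let r : K4 := ⟨a, b⟩
          r ≠ 0 → nm (1 + r) + nm r + nm r + nm r = 1 → r = 1 := by decide +kernel
      refine this (u 1).re (u 1).im hu0 ?_
      rw [nm4, Fin.sum_univ_four, hsym 2 1 (by decide) (by decide),
        hsym 3 1 (by decide) (by decide)] at hn
      have h0 : u 0 = 1 + u 1 := by rw [← hp, add_assoc, k4_two, add_zero]
      rwa [h0] at hn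
    intro c
    rw [← hT, hform c, hp, hb]
    congr 1
    funext i
    rw [t0_mulVec]
    simp
  let K : Subgroup S4U :=
    { carrier := {g | ∀ c, R.ψ g (ι c) = ι (g.1.1 *ᵥ c)}
      mul_mem' := fun {g h} hg hh c => by
        rw [map_mul, Module.End.mul_apply, hh, hg, Classical.Unitary.su_mul_mulVec]
      one_mem' := fun c => by rw [map_one, Module.End.one_apply, Classical.Unitary.su_one_mulVec]
      inv_mem' := fun {g} hg c => by
        conv_lhs => rw [← Classical.Unitary.su_mulVec_inv g c, ← hg, R.inv_ψ] }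
  have hK : K = ⊤ := gen eA eP et
  refine ⟨⟨e, fun g c => (hK ▸ Subgroup.mem_top g : g ∈ K) c, hq', fun c d => by
    rw [he, he, hB], fun D hD => ?_⟩⟩
  have hDΦ : ∀ c : T → ZMod 2, Commute D (R.Φ c) := fun c =>
    Commute.sum_right _ _ _ fun x _ => (hD _).smul_right _
  have hDW : D (vv 0) ∈ R.W (j4 0) := by
    have h : Commute D (R.E (j4 0)) := hDΦ _
    rw [R.mem_W, ← Module.End.mul_apply, ← h.eq, Module.End.mul_apply, R.mem_W.1 (hvW 0)]
  obtain ⟨k, hk⟩ := N.span_W (hvW 0) (hv0 0) hDW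
  refine ⟨k, fun c => ?_⟩
  rw [he, he, hsmul, hι, map_sum, map_sum]
  refine Finset.sum_congr rfl fun j _ => ?_
  have hj : vv j = R.ψ (perm (Equiv.swap 0 j)) (vv 0) := by
    rw [hperm, Equiv.swap_apply_left]
  rw [hj, ← Module.End.mul_apply D, (R.commute_kap (hDΦ oc) (c j)).eq, Module.End.mul_apply,
    ← Module.End.mul_apply D, (hD _).eq, Module.End.mul_apply, hk,
    ← Module.End.mul_apply (R.ψ _) (R.kap k), (R.commute_kap (R.om_perm _) k).eq,
    Module.End.mul_apply, ← Module.End.mul_apply, ← N.kap_mul, mul_comm, N.kap_mul,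
    Module.End.mul_apply]

end CfsgLib.U62Cent.Split
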