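import Cfsg.Agent.Lib.U62Cent.SplitAlg

/-!
Faithful orthogonal actions of `SU₄(2)` on eight bits with three components and a fixed plane:
the orthogonal module of minus type.
-/

set_option autoImplicit false
set_option maxRecDepth 100000
set_option linter.style.haveILetI false

namespace CfsgLib.U62Cent.Split

universe u

variable {V : Type u} [AddCommGroup V] [Module (ZMod 2) V] (R : Rep V)

/-- the indices of the three components -/
abbrev j3 (j : Fin 3) : Fin 14 := ![4, 5, 6] j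

/-- an action with three components and a fixed plane -/
structure IsSix : Prop where
  card_W : ∀ j : Fin 3, Nat.card (R.W (j3 j)) = 4
  card_U : Nat.card (R.W 13) = 4
  other : ∀ k : Fin 14, (∀ j : Fin 4, k ≠ ![4, 5, 6, 13] j) → R.E k = 0

/-- a fixed plane and the orthogonal module inside the action -/
structure SixIso where
  /-- the coordinates -/
  e : (ZMod 2 × ZMod 2) × V6 ≃+ V
  /-- the form on the plane -/
  qU : ZMod 2 × ZMod 2 → ZMod 2
  polU : qU (1, 1) + qU (1, 0) + qU (0, 1) = 1 ∧ qU 0 = 0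
  q_eq : ∀ p, R.q (e p) = qU p.1 + q6 p.2
  /-- the action on the large summand -/
  act : S4U →* AddMonoid.End V6
  equiv : ∀ g p, R.ψ g (e p) = e (p.1, act g p.2)
  act_inj : Function.Injective act
  fix_zero : ∀ x, (∀ g, act g x = x) → x = 0

variable {R}

theorem IsSix.E_sum' (N : IsSix R) (v : V) :
    v = R.E 4 v + R.E 5 v + R.E 6 v + R.E 13 v := by
  have h : ∀ k : Fin 14, k ∉ ({4, 5, 6, 13} : Finset (Fin 14)) → R.E k v = 0 := fun k hk => by
    rw [N.other k (fun j hj => hk (by subst hj; revert j; decide)), LinearMap.zero_apply]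
  conv_lhs => rw [← Module.End.one_apply (R := ZMod 2) v, ← R.E_sum, LinearMap.sum_apply,
    ← Finset.sum_subset (Finset.subset_univ ({4, 5, 6, 13} : Finset (Fin 14))) fun k _ hk => h k hk]
  rw [Finset.sum_insert (by decide), Finset.sum_insert (by decide), Finset.sum_insert (by decide),
    Finset.sum_singleton]
  abel

theorem Rep.B_right (u v w : V) : R.B u (v + w) = R.B u v + R.B u w := by
  rw [R.B_symm, R.bil, R.B_symm v, R.B_symm w]

theorem IsSix.comp_nondeg (N : IsSix R) {k : Fin 14} {v : V} (hv : v ∈ R.W k)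
    (h : ∀ w ∈ R.W k, R.B v w = 0) : v = 0 := by
  refine R.nondeg v fun w => ?_
  have h0 : ∀ l : Fin 14, R.B v (R.E l w) = 0 := fun l => by
    rcases eq_or_ne k l with rfl | hne
    · exact h _ ⟨w, rfl⟩
    · exact R.W_orth hne hv ⟨w, rfl⟩
  rw [N.E_sum' w, Rep.B_right, Rep.B_right, Rep.B_right, h0, h0, h0, h0]
  rfl

theorem Rep.B_self (v : V) : R.B v v = 0 := by
  have h := R.polar v v
  rw [two_V, R.q_zero] at h
  rcases z2_cases (R.q v) with e | e <;> rw [e] at h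
  · simpa using h.symm
  · have : ∀ b : ZMod 2, 0 = 1 + 1 + b → b = 0 := by decide
    exact this _ h

variable [Finite V]

/-- Two independent vectors span a component. -/
theorem Rep.plane {k : Fin 14} (hk : Nat.card (R.W k) = 4) {a b : V} (ha : a ∈ R.W k)
    (hb : b ∈ R.W k) (ha0 : a ≠ 0) (hb0 : b ≠ 0) (hab : a ≠ b) :
    (∀ w ∈ R.W k, ∃ s t : ZMod 2, w = s • a + t • b) ∧
      ∀ s t : ZMod 2, s • a + t • b = 0 → s = 0 ∧ t = 0 := by
  have hab' : a + b ≠ 0 := fun h => hab (by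
    rw [add_eq_zero_iff_eq_neg] at h
    rw [h, neg_eq_iff_add_eq_zero]; exact two_V _)
  have hind : ∀ s t : ZMod 2, s • a + t • b = 0 → s = 0 ∧ t = 0 := by
    intro s t h
    rcases z2_cases s with rfl | rfl <;> rcases z2_cases t with rfl | rfl <;>
      simp_all [zero_smul, one_smul]
  refine ⟨fun w hw => ?_, hind⟩
  let f : ZMod 2 × ZMod 2 → R.W k := fun p =>
    ⟨p.1 • a + p.2 • b, (R.W k).add_mem ((R.W k).smul_mem _ ha) ((R.W k).smul_mem _ hb)⟩
  have hf : Function.Bijective f := by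
    refine (Nat.bijective_iff_injective_and_card _).2 ⟨fun p p' h => ?_, by
      rw [hk, Nat.card_prod, Nat.card_zmod]⟩
    have h1 : (p.1 + p'.1) • a + (p.2 + p'.2) • b = 0 := by
      have h2 : p.1 • a + p.2 • b = p'.1 • a + p'.2 • b := congrArg Subtype.val h
      calc _ = (p.1 • a + p.2 • b) + (p'.1 • a + p'.2 • b) := by rw [add_smul, add_smul]; abel
        _ = 0 := by rw [h2, two_V]
    obtain ⟨e1, e2⟩ := hind _ _ h1
    exact Prod.ext ((CharTwo.add_eq_zero).1 e1) ((CharTwo.add_eq_zero).1 e2)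
  obtain ⟨p, hp⟩ := hf.2 ⟨w, hw⟩
  exact ⟨p.1, p.2, (congrArg Subtype.val hp).symm⟩

theorem IsSix.fix_U (N : IsSix R) :
    ∀ (g : S4U) (v : V), R.ψ g (R.E 13 v) = R.E 13 v ∧ R.E 13 (R.ψ g v) = R.E 13 v := by
  let K : Subgroup S4U :=
    { carrier := {g | R.ψ g * R.E 13 = R.E 13 * R.ψ g}
      mul_mem' := fun {g h} hg hh => by
        show R.ψ (g * h) * R.E 13 = R.E 13 * R.ψ (g * h)
        rw [map_mul, mul_assoc, show R.ψ h * R.E 13 = R.E 13 * R.ψ h from hh, ← mul_assoc,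
          show R.ψ g * R.E 13 = R.E 13 * R.ψ g from hg, mul_assoc]
      one_mem' := by show R.ψ 1 * R.E 13 = _; rw [map_one, one_mul, mul_one]
      inv_mem' := fun {g} hg => by
        show R.ψ g⁻¹ * R.E 13 = R.E 13 * R.ψ g⁻¹
        refine LinearMap.ext fun v => ?_
        have h := congrArg (R.ψ g⁻¹) (LinearMap.congr_fun
          (show R.ψ g * R.E 13 = R.E 13 * R.ψ g from hg) (R.ψ g⁻¹ v))
        rw [Module.End.mul_apply, Module.End.mul_apply, R.ψ_inv, R.inv_ψ] at h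
        exact h.symm }
  have hA : ∀ x, A x ∈ K := fun x => R.E_comm 13 x
  have hP : ∀ σ, perm σ ∈ K := fun σ => R.perm_Φ σ fun x => rfl
  have hy : y ∈ K := by
    set a : T := (1, 1, 1) with ha
    have hPE : ∀ v, R.E 13 v = v + R.ψ (A a) v + R.ψ (A (a + a)) v := by
      intro v
      have hv := N.E_sum' v
      have hrot : ∀ k : Fin 14, chi k a ≠ 0 →
          R.E k v + R.ψ (A a) (R.E k v) + R.ψ (A (a + a)) (R.E k v) = 0 := fun k hk =>
        LinearMap.congr_fun (R.E_rot hk) v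
      have h4 := hrot 4 (by rw [ha]; decide +kernel)
      have h5 := hrot 5 (by rw [ha]; decide +kernel)
      have h6 := hrot 6 (by rw [ha]; decide +kernel)
      have h1 : R.ψ (A a) (R.E 13 v) = R.E 13 v :=
        LinearMap.congr_fun (R.E_fix (k := 13) (x := a) (by rw [ha]; decide +kernel)) v
      have h2 : R.ψ (A (a + a)) (R.E 13 v) = R.E 13 v :=
        LinearMap.congr_fun (R.E_fix (k := 13) (x := a + a) (by rw [ha]; decide +kernel)) v
      conv_rhs => rw [hv]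
      simp only [map_add, h1, h2]
      calc R.E 13 v = 0 + 0 + 0 + (R.E 13 v + (R.E 13 v + R.E 13 v)) := by
            rw [two_V (R.E 13 v)]; simp
        _ = (R.E 4 v + R.ψ (A a) (R.E 4 v) + R.ψ (A (a + a)) (R.E 4 v)) +
            (R.E 5 v + R.ψ (A a) (R.E 5 v) + R.ψ (A (a + a)) (R.E 5 v)) +
            (R.E 6 v + R.ψ (A a) (R.E 6 v) + R.ψ (A (a + a)) (R.E 6 v)) +
            (R.E 13 v + (R.E 13 v + R.E 13 v)) := by rw [h4, h5, h6]
        _ = _ := by abel
    show R.ψ y * R.E 13 = R.E 13 * R.ψ y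
    refine LinearMap.ext fun v => ?_
    have hc : Commute y (A a) := y_comm
    have h1 : R.ψ y (R.ψ (A a) v) = R.ψ (A a) (R.ψ y v) := LinearMap.congr_fun (hc.map R.ψ).eq v
    have h2 : R.ψ y (R.ψ (A (a + a)) v) = R.ψ (A (a + a)) (R.ψ y v) := by
      rw [A_add]
      exact LinearMap.congr_fun ((hc.mul_right hc).map R.ψ).eq v
    rw [Module.End.mul_apply, Module.End.mul_apply, hPE, hPE, map_add, map_add, h1, h2]
  have ht : t0 ∈ K := by
    rw [t0_word]
    exact K.mul_mem (K.mul_mem (K.inv_mem (hA _)) (K.mul_mem (K.mul_mem hy (hP _)) (K.inv_mem hy)))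
      (hA _)
  have hK : ∀ g, R.ψ g * R.E 13 = R.E 13 * R.ψ g := fun g =>
    (gen hA hP ht ▸ Subgroup.mem_top g : g ∈ K)
  have hmem : ∀ g, ∀ w ∈ R.W 13, R.ψ g w ∈ R.W 13 := fun g w hw => by
    rw [R.mem_W, ← Module.End.mul_apply, ← hK, Module.End.mul_apply, R.mem_W.1 hw]
  let π : S4U →* Equiv.Perm (R.W 13) :=
    { toFun := fun g =>
        { toFun := fun w => ⟨R.ψ g w, hmem g w w.2⟩
          invFun := fun w => ⟨R.ψ g⁻¹ w, hmem g⁻¹ w w.2⟩
          left_inv := fun w => Subtype.ext (R.inv_ψ g _)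
          right_inv := fun w => Subtype.ext (R.ψ_inv g _) }
      map_one' := Equiv.ext fun w => Subtype.ext (by
        show R.ψ 1 (w : V) = w
        rw [map_one, Module.End.one_apply])
      map_mul' := fun g h => Equiv.ext fun w => Subtype.ext (by
        show R.ψ (g * h) (w : V) = R.ψ g (R.ψ h w)
        rw [map_mul, Module.End.mul_apply]) }
  have hcard : Nat.card (Equiv.Perm (R.W 13)) < 25920 := by
    rw [Nat.card_perm, N.card_U]
    decide
  intro g v
  have hfix : R.ψ g (R.E 13 v) = R.E 13 v := congrArg Subtype.val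
    (Equiv.ext_iff.1 (hom_small π hcard g) ⟨_, ⟨v, rfl⟩⟩)
  exact ⟨hfix, by rw [← Module.End.mul_apply, ← hK, Module.End.mul_apply, hfix]⟩

theorem j3_ne : ∀ j, j3 j ≠ 13 := by decide

/-- the coordinates of the large summand in the bases of the three planes -/
def nc (x : V6) : V6 :=
  ![x 5, x 4, x 0 + x 1 + x 2, x 2 + x 3, x 1 + x 2 + x 3, x 0 + x 2 + x 3]

/-- the form in the bases of the three planes -/
def q3 (y : V6) : ZMod 2 :=
  (y 0 + y 1 + y 0 * y 1) + (y 2 + y 3 + y 2 * y 3) + (y 4 + y 5 + y 4 * y 5)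

theorem q3_nc : ∀ x : V6, q3 (nc x) = q6 x := by decide +kernel

theorem nc_zero : ∀ x : V6, nc x = 0 → x = 0 := by decide +kernel

theorem nc_add (x x' : V6) : nc (x + x') = nc x + nc x' := by
  funext i
  fin_cases i <;> simp [nc] <;> abel

theorem IsSix.sixIso (N : IsSix R) : Nonempty (SixIso R) := by
  classical
  -- the three planes
  have hab : ∀ j : Fin 3, ∃ a b : V, a ∈ R.W (j3 j) ∧ b ∈ R.W (j3 j) ∧ a ≠ 0 ∧ b ≠ 0 ∧ a ≠ b ∧
      R.q a = 1 ∧ R.q b = 1 ∧ R.B a b = 1 := by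
    intro j
    obtain ⟨a, ha, ha0⟩ : ∃ a ∈ R.W (j3 j), a ≠ 0 := by
      by_contra hh
      push Not at hh
      haveI : Subsingleton (R.W (j3 j)) :=
        ⟨fun p p' => Subtype.ext ((hh p p.2).trans (hh p' p'.2).symm)⟩
      have h := N.card_W j
      rw [Nat.card_unique] at h
      norm_num at h
    obtain ⟨x, hx⟩ := chi_ne (j3 j) (j3_ne j)
    obtain ⟨h1, h2⟩ := R.rot_ne hx ha ha0
    set b := R.ψ (A x) a with hb
    have hbW : b ∈ R.W (j3 j) := R.A_mem x ha
    have hqb : R.q b = R.q a := R.act_q _ _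
    have hqab : R.q (a + b) = R.q a := by
      have h := R.act_q (A x) b
      rw [hb, R.rot_apply hx ha, ← hb] at h
      exact h.trans hqb
    have hB : R.B a b = R.q a := by
      have h := R.polar a b
      rw [hqab, hqb] at h
      have : ∀ p r : ZMod 2, p = p + p + r → r = p := by decide
      exact this _ _ h
    have hqa : R.q a = 1 := by
      refine (z2_cases _).resolve_left fun h0 => ha0 (N.comp_nondeg ha fun w hw => ?_)
      obtain ⟨s, t, rfl⟩ := (R.plane (N.card_W j) ha hbW ha0 h2 (Ne.symm h1)).1 w hw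
      rw [Rep.B_right, R.B_symm a (s • a), R.B_smul, R.B_symm a (t • b), R.B_smul, Rep.B_self,
        R.B_symm b, hB, h0,
        mul_zero, mul_zero, add_zero]
    exact ⟨a, b, ha, hbW, ha0, h2, Ne.symm h1, hqa, hqb.trans hqa, hB.trans hqa⟩
  choose a b ha hb ha0 hb0 hne hqa hqb hBab using hab
  -- the fixed plane
  obtain ⟨u₁, hu₁, hu₁0⟩ : ∃ w ∈ R.W 13, w ≠ 0 := by
    by_contra hh
    push Not at hh
    haveI : Subsingleton (R.W 13) :=
      ⟨fun p p' => Subtype.ext ((hh p p.2).trans (hh p' p'.2).symm)⟩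
    have h := N.card_U
    rw [Nat.card_unique] at h
    norm_num at h
  obtain ⟨u₂, hu₂, hB12⟩ : ∃ w ∈ R.W 13, R.B u₁ w ≠ 0 := by
    by_contra hh
    push Not at hh
    exact hu₁0 (N.comp_nondeg hu₁ hh)
  have hu₂0 : u₂ ≠ 0 := fun h => hB12 (by rw [h, R.B_symm, R.B_zero])
  have hu12 : u₁ ≠ u₂ := fun h => hB12 (h ▸ Rep.B_self u₁)
  -- the coordinates
  let pl : (ZMod 2 × ZMod 2) → V := fun p => p.1 • u₁ + p.2 • u₂
  let bg : V6 → V := fun x =>
    (nc x 0 • a 0 + nc x 1 • b 0) + (nc x 2 • a 1 + nc x 3 • b 1) + (nc x 4 • a 2 + nc x 5 • b 2)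
  have hplW : ∀ p, pl p ∈ R.W 13 := fun p =>
    (R.W 13).add_mem ((R.W 13).smul_mem _ hu₁) ((R.W 13).smul_mem _ hu₂)
  have hcW : ∀ (j : Fin 3) (s t : ZMod 2), s • a j + t • b j ∈ R.W (j3 j) := fun j s t =>
    (R.W _).add_mem ((R.W _).smul_mem _ (ha j)) ((R.W _).smul_mem _ (hb j))
  let ε : (ZMod 2 × ZMod 2) × V6 →+ V := AddMonoidHom.mk' (fun p => pl p.1 + bg p.2) fun p p' => by
    simp only [pl, bg, Prod.fst_add, Prod.snd_add, nc_add, Pi.add_apply, add_smul]
    abel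
  have hproj : ∀ p, R.E 13 (ε p) = pl p.1 ∧ R.E 4 (ε p) = nc p.2 0 • a 0 + nc p.2 1 • b 0 ∧
      R.E 5 (ε p) = nc p.2 2 • a 1 + nc p.2 3 • b 1 ∧
      R.E 6 (ε p) = nc p.2 4 • a 2 + nc p.2 5 • b 2 := by
    intro p
    have hz : ∀ k l : Fin 14, k ≠ l → ∀ w ∈ R.W l, R.E k w = 0 := fun k l h w hw => R.E_ne h hw
    have m0 : nc p.2 0 • a 0 + nc p.2 1 • b 0 ∈ R.W 4 := hcW 0 _ _
    have m1 : nc p.2 2 • a 1 + nc p.2 3 • b 1 ∈ R.W 5 := hcW 1 _ _
    have m2 : nc p.2 4 • a 2 + nc p.2 5 • b 2 ∈ R.W 6 := hcW 2 _ _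
    have heq : ∀ k : Fin 14, R.E k (ε p) = R.E k (pl p.1) + (R.E k (nc p.2 0 • a 0 + nc p.2 1 • b 0) +
        R.E k (nc p.2 2 • a 1 + nc p.2 3 • b 1) + R.E k (nc p.2 4 • a 2 + nc p.2 5 • b 2)) := fun k => by
      rw [← map_add, ← map_add, ← map_add]
      rfl
    refine ⟨?_, ?_, ?_, ?_⟩
    · rw [heq, R.mem_W.1 (hplW _), hz 13 4 (by decide) _ m0, hz 13 5 (by decide) _ m1,
        hz 13 6 (by decide) _ m2, add_zero, add_zero, add_zero]
    · rw [heq, hz 4 13 (by decide) _ (hplW _), R.mem_W.1 m0, hz 4 5 (by decide) _ m1,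
        hz 4 6 (by decide) _ m2, add_zero, add_zero, zero_add]
    · rw [heq, hz 5 13 (by decide) _ (hplW _), hz 5 4 (by decide) _ m0, R.mem_W.1 m1,
        hz 5 6 (by decide) _ m2, add_zero, zero_add, zero_add]
    · rw [heq, hz 6 13 (by decide) _ (hplW _), hz 6 4 (by decide) _ m0, hz 6 5 (by decide) _ m1,
        R.mem_W.1 m2, zero_add, zero_add, zero_add]
  have hbij : Function.Bijective ε := by
    refine (Nat.bijective_iff_injective_and_card _).2 ⟨(injective_iff_map_eq_zero ε).2 fun p hp => ?_, ?_⟩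
    · obtain ⟨h13, h4, h5, h6⟩ := hproj p
      rw [hp, map_zero] at h13 h4 h5 h6
      obtain ⟨e1, e2⟩ := (R.plane N.card_U hu₁ hu₂ hu₁0 hu₂0 hu12).2 _ _ h13.symm
      obtain ⟨c0, c1⟩ := (R.plane (N.card_W 0) (ha 0) (hb 0) (ha0 0) (hb0 0) (hne 0)).2 _ _ h4.symm
      obtain ⟨c2, c3⟩ := (R.plane (N.card_W 1) (ha 1) (hb 1) (ha0 1) (hb0 1) (hne 1)).2 _ _ h5.symm
      obtain ⟨c4, c5⟩ := (R.plane (N.card_W 2) (ha 2) (hb 2) (ha0 2) (hb0 2) (hne 2)).2 _ _ h6.symm
      refine Prod.ext (Prod.ext e1 e2) (nc_zero _ ?_)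
      funext i
      fin_cases i <;> assumption
    · rw [R.card, Nat.card_prod, Nat.card_prod, Nat.card_pi]
      simp
  let e : (ZMod 2 × ZMod 2) × V6 ≃+ V := AddEquiv.ofBijective ε hbij
  have he : ∀ p, e p = ε p := fun p => rfl
  -- the form
  have hq2 : ∀ (j : Fin 3) (s t : ZMod 2), R.q (s • a j + t • b j) = s + t + s * t := by
    intro j s t
    rcases z2_cases s with rfl | rfl <;> rcases z2_cases t with rfl | rfl <;>
      simp [R.q_zero, hqa, hqb, R.polar, hBab]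
  let qU : ZMod 2 × ZMod 2 → ZMod 2 := fun p => R.q (pl p)
  have hqe : ∀ p, R.q (ε p) = qU p.1 + q6 p.2 := by
    intro p
    obtain ⟨h13, h4, h5, h6⟩ := hproj p
    have hv := N.E_sum' (ε p)
    rw [h13, h4, h5, h6] at hv
    have g0 := hq2 0 (nc p.2 0) (nc p.2 1)
    have g1 := hq2 1 (nc p.2 2) (nc p.2 3)
    have g2 := hq2 2 (nc p.2 4) (nc p.2 5)
    have m0 := hcW 0 (nc p.2 0) (nc p.2 1)
    have m1 := hcW 1 (nc p.2 2) (nc p.2 3)
    have m2 := hcW 2 (nc p.2 4) (nc p.2 5)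
    generalize nc p.2 0 • a 0 + nc p.2 1 • b 0 = c0 at hv g0 m0
    generalize nc p.2 2 • a 1 + nc p.2 3 • b 1 = c1 at hv g1 m1
    generalize nc p.2 4 • a 2 + nc p.2 5 • b 2 = c2 at hv g2 m2
    rw [hv, R.polar, R.polar, R.polar, g0, g1, g2, ← q3_nc, q3]
    simp only [qU, R.bil]
    have o : ∀ k l : Fin 14, k ≠ l → ∀ v ∈ R.W k, ∀ w ∈ R.W l, R.B v w = 0 :=
      fun k l h v hv w hw => R.W_orth h hv hw
    rw [o 4 5 (by decide) _ m0 _ m1, o 4 6 (by decide) _ m0 _ m2, o 5 6 (by decide) _ m1 _ m2,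
      o 4 13 (by decide) _ m0 _ (hplW _), o 5 13 (by decide) _ m1 _ (hplW _),
      o 6 13 (by decide) _ m2 _ (hplW _)]
    abel
  -- the action
  have hact : ∀ g x, ∃ x', R.ψ g (ε (0, x)) = ε (0, x') := by
    intro g x
    obtain ⟨p, hp⟩ := hbij.2 (R.ψ g (ε (0, x)))
    refine ⟨p.2, ?_⟩
    have h1 := (hproj p).1
    rw [hp, (N.fix_U g (ε (0, x))).2, (hproj (0, x)).1] at h1
    have h2 : pl p.1 = 0 := by rw [← h1]; simp [pl]
    obtain ⟨e1, e2⟩ := (R.plane N.card_U hu₁ hu₂ hu₁0 hu₂0 hu12).2 _ _ h2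
    rw [← hp]
    exact congrArg ε (Prod.ext (Prod.ext e1 e2) rfl)
  choose φ hφ using hact
  have hinj0 : ∀ {x x' : V6}, ε (0, x) = ε (0, x') → x = x' := fun h => (Prod.ext_iff.1 (hbij.1 h)).2
  let act : S4U →* AddMonoid.End V6 :=
    { toFun := fun g => AddMonoidHom.mk' (φ g) fun x x' => hinj0 (by
        rw [← hφ, show ((0 : ZMod 2 × ZMod 2), x + x') = (0, x) + (0, x') by simp, map_add, map_add,
          hφ, hφ, ← map_add]
        simp)
      map_one' := AddMonoidHom.ext fun x => hinj0 (by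
        show ε (0, φ 1 x) = ε (0, x)
        rw [← hφ, map_one, Module.End.one_apply])
      map_mul' := fun g h => AddMonoidHom.ext fun x => hinj0 (by
        show ε (0, φ (g * h) x) = ε (0, φ g (φ h x))
        rw [← hφ, map_mul, Module.End.mul_apply, hφ, hφ]) }
  have heq : ∀ g p, R.ψ g (ε p) = ε (p.1, φ g p.2) := by
    intro g p
    have hsplit : ∀ (u : ZMod 2 × ZMod 2) (x : V6), ε (u, x) = ε (u, 0) + ε (0, x) := fun u x => by
      rw [← map_add]; simp
    conv_lhs => rw [show p = (p.1, p.2) from rfl, hsplit, map_add, hφ]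
    rw [hsplit p.1 (φ g p.2)]
    congr 1
    have hU : R.E 13 (ε (p.1, 0)) = ε (p.1, 0) := by
      rw [(hproj _).1]
      simp [ε, bg, nc]
    rw [← hU]
    exact (N.fix_U g _).1
  refine ⟨⟨e, qU, ⟨?_, ?_⟩, fun p => by rw [he]; exact hqe p, act,
    fun g p => by rw [he, he]; exact heq g p, fun g h hgh => R.inj (LinearMap.ext fun v => ?_),
    fun x hx => ?_⟩⟩
  · simp only [qU, pl, one_smul, zero_smul, add_zero, zero_add]
    rw [R.polar, (z2_cases (R.B u₁ u₂)).resolve_left hB12]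
    have : ∀ p r : ZMod 2, p + r + 1 + p + r = 1 := by decide
    exact this _ _
  · simp [qU, pl, R.q_zero]
  · obtain ⟨p, rfl⟩ := hbij.2 v
    rw [heq, heq, show φ g p.2 = φ h p.2 from DFunLike.congr_fun hgh p.2]
  · have hfix : ∀ g, R.ψ g (ε (0, x)) = ε (0, x) := fun g => by
      rw [heq]; exact congrArg ε (Prod.ext rfl (hx g))
    have hk : ∀ k : Fin 14, k ≠ 13 → R.E k (ε (0, x)) = 0 := by
      intro k hk
      obtain ⟨y, hy⟩ := chi_ne k hk
      have hc : ∀ z, R.ψ (A z) (R.E k (ε (0, x))) = R.E k (ε (0, x)) := fun z => by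
        rw [← Module.End.mul_apply, R.E_comm, Module.End.mul_apply, hfix]
      have h := LinearMap.congr_fun (R.E_rot hy) (ε (0, x))
      rw [LinearMap.add_apply, LinearMap.add_apply, Module.End.mul_apply, Module.End.mul_apply, hc,
        hc, two_V, zero_add, LinearMap.zero_apply] at h
      exact h
    refine hinj0 ?_
    rw [N.E_sum' (ε (0, x)), hk 4 (by decide), hk 5 (by decide), hk 6 (by decide), (hproj _).1]
    simp [ε, pl, bg, nc]

end CfsgLib.U62Cent.Split
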