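import Cfsg.Agent.Lib.U62Cent.Targets
import Cfsg.Agent.Lib.U62Cent.SplitNat
import Cfsg.Agent.Lib.U62Cent.SplitSix
import Cfsg.Agent.Lib.Spor.LargeFi.QuadQuot

/-!
Piece A: the module of the centraliser is the natural module or the orthogonal module plus a plane.
-/

set_option autoImplicit false
set_option maxRecDepth 100000
set_option linter.style.haveILetI false

namespace CfsgLib.U62Cent.Split

open Matrix

universe u v

/-- additive maps as linear maps over two elements -/
def linHom (V : Type v) [AddCommGroup V] [Module (ZMod 2) V] :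
    AddMonoid.End V →* Module.End (ZMod 2) V where
  toFun f := (f : V →+ V).toZModLinearMap 2
  map_one' := LinearMap.ext fun _ => rfl
  map_mul' _ _ := LinearMap.ext fun _ => rfl

theorem linHom_apply {V : Type v} [AddCommGroup V] [Module (ZMod 2) V] (f : AddMonoid.End V) (x : V) :
    linHom V f x = f x := rfl

theorem im_om_mul (x : K4) : (om4 * x).im = x.re + x.im := by simp [om4]

theorem sq_eq (c : K4) : c ^ 2 = ⟨c.re + c.im, c.im⟩ := by
  have : ∀ a b : ZMod 2, (⟨a, b⟩ : K4) ^ 2 = ⟨a + b, b⟩ := by decide +kernel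
  exact this c.re c.im

/-- conjugating endomorphisms along an isomorphism -/
def conjEnd {V : Type v} [AddCommGroup V] {W : Type*} [AddCommGroup W] (e : W ≃+ V) :
    AddMonoid.End V →* AddMonoid.End W where
  toFun f := (e.symm : V →+ W).comp ((f : V →+ V).comp (e : W →+ V))
  map_one' := AddMonoidHom.ext fun w => e.symm_apply_apply w
  map_mul' f g := AddMonoidHom.ext fun w => by
    show e.symm (f (g (e w))) = e.symm (f (e (e.symm (g (e w)))))
    rw [e.apply_symm_apply]

theorem conjEnd_apply {V : Type v} [AddCommGroup V] {W : Type*} [AddCommGroup W] (e : W ≃+ V)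
    (f : AddMonoid.End V) (w : W) : conjEnd e f w = e.symm (f (e w)) := rfl

/-- composing values of an action -/
theorem end_app {H : Type*} [Group H] {W : Type*} [AddCommGroup W] (φ : H →* AddMonoid.End W)
    (h k : H) (v : W) : φ h (φ k v) = φ (h * k) v := by
  rw [map_mul]; rfl

/-- an action value followed by that of the inverse -/
theorem end_inv {H : Type*} [Group H] {W : Type*} [AddCommGroup W] (φ : H →* AddMonoid.End W)
    (h : H) (v : W) : φ h (φ h⁻¹ v) = v := by
  rw [end_app, mul_inv_cancel, map_one]; rfl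

/-- the same in the other order -/
theorem end_inv' {H : Type*} [Group H] {W : Type*} [AddCommGroup W] (φ : H →* AddMonoid.End W)
    (h : H) (v : W) : φ h⁻¹ (φ h v) = v := by
  rw [end_app, inv_mul_cancel, map_one]; rfl

variable {G : Type u} [Group G] {z : G} (P : Hyp z) {V : Type u} [AddCommGroup V] [Finite V]
  [Module (ZMod 2) V] (Q : Spor.LargeFi.QuadQuot P.J (zC z) V) (R : Rep V)

/-- the action of `SU₄(2)` is that of the inner part -/
structure Link : Prop where
  q_eq : ∀ v, R.q v = Q.q v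
  B_eq : ∀ u v, R.B u v = Q.B u v
  down : ∀ h ∈ P.H₁, ∃ g, ∀ v, Q.act h v = R.ψ g v
  up : ∀ g, ∃ h ∈ P.H₁, ∀ v, Q.act h v = R.ψ g v

variable {P Q R}

omit [Finite V] in
theorem Link.nat (L : Link P Q R) (M : NatIso R) : Nonempty (Nat4 P) := by
  let vec : P.J → V4 := fun a => M.e.symm (Q.proj a)
  let act : ↥(Subgroup.centralizer ({z} : Set G)) →* AddMonoid.End V4 :=
    (conjEnd M.e).comp Q.act
  have hact : ∀ h v, M.e (act h v) = Q.act h (M.e v) := fun h v => M.e.apply_symm_apply _
  have hlin : ∀ h ∈ P.H₁, ∃ g : S4U, ∀ v, act h v = g.1.1 *ᵥ v := by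
    intro h hh
    obtain ⟨g, hg⟩ := L.down h hh
    exact ⟨g, fun v => M.e.injective (by rw [hact, hg, M.equiv])⟩
  have hlift : ∀ g : S4U, ∃ h ∈ P.H₁, ∀ v, act h v = g.1.1 *ᵥ v := by
    intro g
    obtain ⟨h, hh, hg⟩ := L.up g
    exact ⟨h, hh, fun v => M.e.injective (by rw [hact, hg, M.equiv])⟩
  have hker : ∀ h, act h = 1 ↔ h ∈ P.J := by
    intro h
    rw [← Q.ker_act]
    refine ⟨fun e => DFunLike.ext _ _ fun v => ?_, fun e => DFunLike.ext _ _ fun v =>
      M.e.injective (by rw [hact, e]; rfl)⟩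
    obtain ⟨w, rfl⟩ := M.e.surjective v
    rw [← hact, e]
    rfl
  have hnorm : ∀ h v, hf (act h v) (act h v) = hf v v := by
    intro h v
    rw [hf_self, hf_self]
    have h1 : ∀ c, R.q (M.e c) = nm4 c := fun c => by
      rcases z2_cases (R.q (M.e c)) with e | e <;> rw [e]
      · exact (congrArg QuadraticAlgebra.re ((hf_self c).symm.trans ((M.q_iff c).1 e))).symm
      · refine ((z2_cases (nm4 c)).resolve_left fun h0 => ?_).symm
        rw [(M.q_iff c).2 (by rw [hf_self, h0]; rfl)] at e
        exact zero_ne_one e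
    rw [← h1, ← h1, hact, L.q_eq, L.q_eq, Q.act_q]
  have him : ∀ h u v, (hf (act h u) (act h v)).im = (hf u v).im := by
    intro h u v
    have e := congrArg QuadraticAlgebra.re (hnorm h (u + v))
    rw [map_add, hf_self, hf_self] at e
    have h2 : ∀ c d, nm4 (c + d) = nm4 c + nm4 d + (hf c d).im := fun c d => by
      simp only [nm4, Pi.add_apply, nm_polar, Finset.sum_add_distrib, hf_eq]
    have e1 := congrArg QuadraticAlgebra.re (hnorm h u)
    have e2 := congrArg QuadraticAlgebra.re (hnorm h v)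
    rw [hf_self, hf_self] at e1 e2
    simp only at e e1 e2
    rw [h2, h2, e1, e2] at e
    exact add_left_cancel e
  have hinv : ∀ h v, act h (act h⁻¹ v) = v := end_inv act
  have hsemi : ∀ h, h ∉ P.H₁ → ∀ (c : K4) v, act h (c • v) = c ^ 2 • act h v := by
    intro h hh
    -- the conjugate of the scalar `ω`
    let S : Module.End (ZMod 2) V := linHom V
      ((M.e : V4 →+ V).comp ((DistribSMul.toAddMonoidHom V4 om4).comp (M.e.symm : V →+ V4)))
    have hS : ∀ c, S (M.e c) = M.e (om4 • c) := fun c => by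
      show M.e (om4 • M.e.symm (M.e c)) = _
      rw [M.e.symm_apply_apply]
    have hSg : ∀ g, Commute S (R.ψ g) := fun g => LinearMap.ext fun v => by
      obtain ⟨c, rfl⟩ := M.e.surjective v
      rw [Module.End.mul_apply, Module.End.mul_apply, M.equiv, hS, hS, M.equiv, mulVec_smul]
    let D : Module.End (ZMod 2) V := linHom V (Q.act h) * S * linHom V (Q.act h⁻¹)
    have hD : ∀ g, Commute D (R.ψ g) := by
      intro g
      obtain ⟨h₁, hh₁, hg⟩ := L.up g
      obtain ⟨g', hg'⟩ := L.down _ (P.normH.conj_mem h₁ hh₁ h⁻¹)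
      have e1 : R.ψ g = linHom V (Q.act h₁) := LinearMap.ext fun v => (hg v).symm
      have e2 : linHom V (Q.act h⁻¹) * R.ψ g = R.ψ g' * linHom V (Q.act h⁻¹) := by
        rw [e1, ← show linHom V (Q.act (h⁻¹ * h₁ * h⁻¹⁻¹)) = R.ψ g' from LinearMap.ext hg', ← map_mul,
          ← map_mul, ← map_mul, ← map_mul]
        congr 2; group
      have e3 : linHom V (Q.act h) * R.ψ g' = R.ψ g * linHom V (Q.act h) := by
        rw [e1, ← show linHom V (Q.act (h⁻¹ * h₁ * h⁻¹⁻¹)) = R.ψ g' from LinearMap.ext hg', ← map_mul,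
          ← map_mul, ← map_mul, ← map_mul]
        congr 2; group
      show D * R.ψ g = R.ψ g * D
      calc linHom V (Q.act h) * S * linHom V (Q.act h⁻¹) * R.ψ g
          = linHom V (Q.act h) * (S * R.ψ g') * linHom V (Q.act h⁻¹) := by
            rw [mul_assoc _ _ (R.ψ g), e2]; simp only [mul_assoc]
        _ = linHom V (Q.act h) * R.ψ g' * S * linHom V (Q.act h⁻¹) := by
            rw [(hSg g').eq]; simp only [mul_assoc]
        _ = R.ψ g * D := by rw [e3]; simp only [D, mul_assoc]
    obtain ⟨k, hk⟩ := M.commutant D hD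
    have hF : ∀ v, act h (om4 • v) = k • act h v := fun v => M.e.injective (by
      rw [hact, ← hk (act h v), hact, ← hS]
      show Q.act h (S (M.e v)) = Q.act h (S (Q.act h⁻¹ (Q.act h (M.e v))))
      rw [end_inv'])
    have hc : ∀ (c : K4) v, act h (c • v) = (⟨c.re, 0⟩ + ⟨c.im, 0⟩ * k : K4) • act h v := by
      intro c v
      have e1 : c • v = (⟨c.re, 0⟩ : K4) • v + (⟨c.im, 0⟩ : K4) • (om4 • v) := by
        rw [smul_smul, ← add_smul]
        congr 1
        have : ∀ a b : ZMod 2, (⟨a, b⟩ : K4) = ⟨a, 0⟩ + ⟨b, 0⟩ * om4 := by decide +kernel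
        exact this c.re c.im
      have hsc : ∀ (a : ZMod 2) w, act h ((⟨a, 0⟩ : K4) • w) = (⟨a, 0⟩ : K4) • act h w := by
        intro a w
        rcases z2_cases a with rfl | rfl
        · rw [show (⟨0, 0⟩ : K4) = 0 from rfl, zero_smul, zero_smul, map_zero]
        · rw [show (⟨1, 0⟩ : K4) = 1 from rfl, one_smul, one_smul]
      rw [e1, map_add, hsc, hsc, hF, add_smul, mul_smul]
    have hk2 : k * k = k + 1 := by
      have e := hF (om4 • Pi.single 0 1)
      rw [smul_smul, show om4 * om4 = om4 + 1 by decide +kernel, add_smul, one_smul, map_add, hF,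
        smul_smul] at e
      have e' : act h (Pi.single 0 1) ≠ 0 := fun h0 => by
        have h1 := congrFun ((injective_iff_map_eq_zero (act h : V4 →+ V4)).1
          (Function.LeftInverse.injective (g := act h⁻¹) fun w => by
            have := hinv h⁻¹ w; rwa [inv_inv] at this) _ h0) 0
        simp at h1
      by_contra hne
      have e3 : (k * k - (k + 1)) • act h (Pi.single 0 1) = 0 := by
        rw [sub_smul, add_smul, one_smul, ← e, sub_self]
      exact e' ((smul_eq_zero.1 e3).resolve_left (sub_ne_zero.2 hne))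
    have hk3 : k = om4 ∨ k = om4 * om4 := by
      have : ∀ a b : ZMod 2, (⟨a, b⟩ : K4) * ⟨a, b⟩ = ⟨a, b⟩ + 1 →
          (⟨a, b⟩ : K4) = om4 ∨ (⟨a, b⟩ : K4) = om4 * om4 := by decide +kernel
      exact this k.re k.im hk2
    rcases hk3 with hk3 | hk3
    swap
    · intro c v
      rw [hc, hk3, sq_eq]
      congr 1
      have : ∀ a b : ZMod 2, (⟨a, 0⟩ : K4) + ⟨b, 0⟩ * (om4 * om4) = ⟨a + b, b⟩ := by decide +kernel
      exact this c.re c.im
    -- a linear map would be inner modulo `J`
    exfalso
    have hlinh : ∀ (c : K4) v, act h (c • v) = c • act h v := fun c v => by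
      rw [hc, hk3]
      congr 1
      have : ∀ a b : ZMod 2, (⟨a, 0⟩ : K4) + ⟨b, 0⟩ * om4 = ⟨a, b⟩ := by decide +kernel
      exact this c.re c.im
    have hlinh' : ∀ (c : K4) v, act h⁻¹ (c • v) = c • act h⁻¹ v := fun c v => by
      conv_lhs => rw [← hinv h v, ← hlinh]
      have := hinv h⁻¹ (c • act h⁻¹ v)
      rwa [inv_inv] at this
    have hhf : ∀ u v, hf (act h u) (act h v) = hf u v := by
      intro u v
      have e1 := him h u v
      have e2 := him h (om4 • u) v
      rw [hlinh] at e2
      have hsm : ∀ (c : K4) u v, hf (c • u) v = c * hf u v := fun c u v => by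
        simp only [hf, Cfsg.hermForm, Pi.smul_apply, smul_eq_mul, Finset.mul_sum, mul_assoc]
      rw [hsm, hsm, im_om_mul, im_om_mul, e1] at e2
      exact QuadraticAlgebra.ext (add_right_cancel e2) e1
    let Mh : Matrix (Fin 4) (Fin 4) K4 := LinearMap.toMatrix'
      { toFun := act h, map_add' := map_add _, map_smul' := hlinh }
    let Mi : Matrix (Fin 4) (Fin 4) K4 := LinearMap.toMatrix'
      { toFun := act h⁻¹, map_add' := map_add _, map_smul' := hlinh' }
    have hMh : ∀ v, Mh *ᵥ v = act h v := fun v => LinearMap.toMatrix'_mulVec _ v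
    have hMi : ∀ v, Mi *ᵥ v = act h⁻¹ v := fun v => LinearMap.toMatrix'_mulVec _ v
    have hdet : Mh.det ≠ 0 := by
      intro h0
      have hmul : Mh * Mi = 1 := Matrix.ext_iff_mulVec.2 fun v => by
        rw [← mulVec_mulVec, hMi, hMh, hinv, one_mulVec]
      have := congrArg Matrix.det hmul
      rw [det_mul, h0, zero_mul, det_one] at this
      exact zero_ne_one this
    set δ := Mh.det with hδ
    have hδ3 : δ * δ ^ 2 = 1 := norm_unit δ hdet
    have hgdet : (δ⁻¹ • Mh).det = 1 := by
      rw [det_smul, Fintype.card_fin, ← hδ]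
      field_simp
      linear_combination -hδ3
    obtain ⟨h₁, hh₁, hg⟩ := hlift ⟨⟨δ⁻¹ • Mh, hgdet⟩, Classical.mem_SU_iff.2 fun u v => by
      show Cfsg.hermForm 4 K4 2 ((δ⁻¹ • Mh) *ᵥ u) ((δ⁻¹ • Mh) *ᵥ v) = _
      rw [smul_mulVec, smul_mulVec, hMh, hMh]
      have e : ∀ (c : K4) a b, hf (c • a) (c • b) = c * c ^ 2 * hf a b := fun c a b => by
        simp only [hf, Cfsg.hermForm, Pi.smul_apply, smul_eq_mul, Finset.mul_sum]
        exact Finset.sum_congr rfl fun i _ => by ring
      exact (e _ _ _).trans (by rw [norm_unit _ (inv_ne_zero hdet), one_mul, hhf])⟩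
    have hh' : ∀ v, act (h₁⁻¹ * h) v = δ • v := by
      intro v
      have e1 : act h v = act h₁ (δ • v) := by
        rw [hg]
        show act h v = (δ⁻¹ • Mh) *ᵥ (δ • v)
        rw [smul_mulVec, mulVec_smul, smul_smul, inv_mul_cancel₀ hdet, one_smul, hMh]
      rw [map_mul]
      show act h₁⁻¹ (act h v) = _
      rw [e1]
      have := hinv h₁⁻¹ (δ • v)
      rwa [inv_inv] at this
    have hhJ : h₁⁻¹ * h ∈ P.J := by
      refine P.faithful _ fun x hx => (hker _).1 (AddMonoidHom.ext fun v => ?_)
      obtain ⟨g, hg'⟩ := hlin x hx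
      have hcomm : act (h₁⁻¹ * h * x) = act (x * (h₁⁻¹ * h)) := AddMonoidHom.ext fun w => by
        rw [map_mul act (h₁⁻¹ * h) x, map_mul act x (h₁⁻¹ * h)]
        show act (h₁⁻¹ * h) (act x w) = act x (act (h₁⁻¹ * h) w)
        rw [hh', hh', hg', hg', mulVec_smul]
      rw [show h₁⁻¹ * h * x * (h₁⁻¹ * h)⁻¹ * x⁻¹ = h₁⁻¹ * h * x * (x * (h₁⁻¹ * h))⁻¹ by group, map_mul,
        hcomm, ← map_mul, mul_inv_cancel, map_one]
    exact hh (by simpa using P.H₁.mul_mem hh₁ (P.le hhJ))
  refine ⟨{
    vec := vec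
    act := act
    vec_mul := fun a b => by simp only [vec, Q.proj_mul, map_add]
    vec_surj := fun v => (Q.proj_surj (M.e v)).imp fun a ha => by simp only [vec, ha, M.e.symm_apply_apply]
    vec_eq_zero := fun a => by rw [← Q.proj_eq_zero]; exact M.e.symm.map_eq_zero_iff
    vec_sq := fun a => by
      rw [← M.q_iff, L.q_eq, M.e.apply_symm_apply, ← Q.proj_sq, Subtype.ext_iff]
      rfl
    vec_comm := fun a b => by
      rw [← M.B_iff, L.B_eq, M.e.apply_symm_apply, M.e.apply_symm_apply, Q.proj_B, Subtype.ext_iff]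
      rfl
    vec_conj := fun h a => M.e.injective (by
      rw [hact, M.e.apply_symm_apply, M.e.apply_symm_apply, Q.proj_conj])
    ker_act := hker
    lin := fun h hh => (hlin h hh).elim fun g hg => ⟨g.1, g.2, hg⟩
    lift := fun g hg => hlift ⟨g, hg⟩
    semi := hsemi
    act_norm := hnorm }⟩

omit [Finite V] in
theorem Link.six (L : Link P Q R) (M : SixIso R) : Nonempty (Six P) := by
  have hpolar : ∀ p p', R.B (M.e p) (M.e p') =
      M.qU (p.1 + p'.1) + M.qU p.1 + M.qU p'.1 + (q6 (p.2 + p'.2) + q6 p.2 + q6 p'.2) := by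
    intro p p'
    have h := R.polar (M.e p) (M.e p')
    rw [← map_add, M.q_eq, M.q_eq, M.q_eq] at h
    have : ∀ a b c d e f B : ZMod 2, a + b = c + d + (e + f) + B → B = a + c + e + (b + d + f) := by
      decide
    exact this _ _ _ _ _ _ _ h
  have hq60 : q6 0 = 0 := rfl
  -- both summands are invariant
  have hU : ∀ h u, (M.e.symm (Q.act h (M.e (u, 0)))).2 = 0 := by
    intro h u
    set p := M.e.symm (Q.act h (M.e (u, 0))) with hp
    refine M.fix_zero _ fun g => ?_
    obtain ⟨h₁, hh₁, hg⟩ := L.up g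
    obtain ⟨g', hg'⟩ := L.down _ (P.normH.conj_mem h₁ hh₁ h⁻¹)
    have e : R.ψ g (M.e p) = M.e p := by
      rw [hp, M.e.apply_symm_apply, ← hg]
      have e1 : ∀ v, Q.act h₁ (Q.act h v) = Q.act h (Q.act (h⁻¹ * h₁ * h⁻¹⁻¹) v) := fun v => by
        rw [end_app, end_app]
        congr 2; group
      rw [e1, hg', M.equiv]
      simp
    rw [M.equiv] at e
    exact (Prod.ext_iff.1 (M.e.injective e)).2
  have hV : ∀ h x, (M.e.symm (Q.act h (M.e (0, x)))).1 = 0 := by
    intro h x
    set p := M.e.symm (Q.act h (M.e (0, x))) with hp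
    have key : ∀ w, M.qU (p.1 + w) + M.qU p.1 + M.qU w = 0 := by
      intro w
      obtain ⟨p', hp'⟩ := M.e.surjective (Q.act h⁻¹ (M.e (w, 0)))
      have hb : R.B (M.e p) (M.e (w, 0)) = 0 := by
        have e1 : M.e p = Q.act h (M.e (0, x)) := M.e.apply_symm_apply _
        have e2 : M.e (w, 0) = Q.act h (M.e p') := by
          rw [hp', end_inv]
        have e3 : p'.2 = 0 := by
          have := hU h⁻¹ w
          rwa [← hp', M.e.symm_apply_apply] at this
        have e4 : R.B (M.e p) (M.e (w, 0)) = R.B (M.e (0, x)) (M.e p') := by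
          have h1 := R.polar (Q.act h (M.e (0, x))) (Q.act h (M.e p'))
          have h2 := R.polar (M.e (0, x)) (M.e p')
          rw [← map_add (Q.act h)] at h1
          simp only [L.q_eq, Q.act_q] at h1 h2
          rw [e1, e2]
          exact add_left_cancel (h1.symm.trans h2)
        rw [e4, hpolar]
        simp only [e3, zero_add, add_zero, M.polU.2, hq60]
        have : ∀ a b : ZMod 2, a + a + (b + b) = 0 := by decide
        exact this _ _
      rw [hpolar] at hb
      simp only [add_zero, hq60] at hb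
      have : ∀ a b : ZMod 2, a + (b + b) = 0 → a = 0 := by decide
      exact this _ _ hb
    obtain ⟨h1, h0⟩ := M.polU
    have hz : ∀ a : ZMod 2 × ZMod 2, a = 0 ∨ a = (1, 0) ∨ a = (0, 1) ∨ a = (1, 1) := by decide
    rcases hz p.1 with e | e | e | e
    · exact e
    all_goals exfalso
    · have := key (0, 1)
      rw [e, show ((1, 0) : ZMod 2 × ZMod 2) + (0, 1) = (1, 1) from rfl, h1] at this
      exact one_ne_zero this
    · have := key (1, 0)
      rw [e, show ((0, 1) : ZMod 2 × ZMod 2) + (1, 0) = (1, 1) from rfl] at this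
      rw [add_right_comm, h1] at this
      exact one_ne_zero this
    · have := key (1, 0)
      rw [e, show ((1, 1) : ZMod 2 × ZMod 2) + (1, 0) = (0, 1) from rfl] at this
      rw [add_right_comm, add_comm (M.qU (0, 1)), add_assoc, add_comm (M.qU (0, 1)),
        ← add_assoc, add_comm (M.qU (1, 0)) (M.qU (1, 1)), h1] at this
      exact one_ne_zero this
  -- the two actions
  let f : ↥(Subgroup.centralizer ({z} : Set G)) →*
      AddMonoid.End ((ZMod 2 × ZMod 2) × V6) := (conjEnd M.e).comp Q.act
  have hf : ∀ h p, f h p = ((f h (p.1, 0)).1, (f h (0, p.2)).2) := by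
    intro h p
    conv_lhs => rw [show p = (p.1, 0) + (0, p.2) by simp, map_add]
    refine Prod.ext ?_ ?_
    · rw [Prod.fst_add]
      show (f h (p.1, 0)).1 + (M.e.symm (Q.act h (M.e (0, p.2)))).1 = _
      rw [hV, add_zero]
    · rw [Prod.snd_add]
      show (M.e.symm (Q.act h (M.e (p.1, 0)))).2 + (f h (0, p.2)).2 = _
      rw [hU, zero_add]
  have hmul : ∀ h k p, f (h * k) p = f h (f k p) := fun h k p => by rw [map_mul]; rfl
  have hone : ∀ p, f 1 p = p := fun p => by rw [map_one]; rfl
  let actU : ↥(Subgroup.centralizer ({z} : Set G)) →* AddMonoid.End (ZMod 2 × ZMod 2) :=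
    { toFun := fun h => (AddMonoidHom.fst _ _).comp ((f h : _ →+ _).comp (AddMonoidHom.inl _ _))
      map_one' := AddMonoidHom.ext fun u => by
        show (f 1 (u, 0)).1 = u
        rw [hone]
      map_mul' := fun h k => AddMonoidHom.ext fun u => by
        show (f (h * k) (u, 0)).1 = (f h ((f k (u, 0)).1, 0)).1
        rw [hmul, hf h] }
  let act : ↥(Subgroup.centralizer ({z} : Set G)) →* AddMonoid.End V6 :=
    { toFun := fun h => (AddMonoidHom.snd _ _).comp ((f h : _ →+ _).comp (AddMonoidHom.inr _ _))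
      map_one' := AddMonoidHom.ext fun x => by
        show (f 1 (0, x)).2 = x
        rw [hone]
      map_mul' := fun h k => AddMonoidHom.ext fun x => by
        show (f (h * k) (0, x)).2 = (f h (0, (f k (0, x)).2)).2
        rw [hmul, hf h] }
  have hactU : ∀ h u, actU h u = (f h (u, 0)).1 := fun _ _ => rfl
  have hact : ∀ h x, act h x = (f h (0, x)).2 := fun _ _ => rfl
  have hinner : ∀ h g, (∀ v, Q.act h v = R.ψ g v) → ∀ p, f h p = (p.1, M.act g p.2) := fun h g hg p => by
    show M.e.symm (Q.act h (M.e p)) = _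
    rw [hg, M.equiv, M.e.symm_apply_apply]
  refine ⟨{
    sml := fun a => (M.e.symm (Q.proj a)).1
    qU := M.qU
    big := fun a => (M.e.symm (Q.proj a)).2
    actU := actU
    act := act
    sml_mul := fun a b => by simp only [Q.proj_mul, map_add, Prod.fst_add]
    big_mul := fun a b => by simp only [Q.proj_mul, map_add, Prod.snd_add]
    surj := fun u v => (Q.proj_surj (M.e (u, v))).imp fun a ha => by
      simp only [ha, M.e.symm_apply_apply, and_self]
    eq_zero := fun a => by
      rw [← Q.proj_eq_zero, ← M.e.symm.map_eq_zero_iff]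
      exact ⟨fun h => Prod.ext h.1 h.2, fun h => ⟨congrArg Prod.fst h, congrArg Prod.snd h⟩⟩
    sq := fun a => by
      rw [← M.q_eq, L.q_eq, M.e.apply_symm_apply, ← Q.proj_sq, Subtype.ext_iff]
      rfl
    polU := M.polU
    sml_conj := fun h a => by
      rw [hactU, Q.proj_conj]
      show (M.e.symm (Q.act h (Q.proj a))).1 = _
      rw [← M.e.apply_symm_apply (Q.proj a)]
      show (f h (M.e.symm (Q.proj a))).1 = _
      rw [hf, M.e.symm_apply_apply]
    big_conj := fun h a => by
      rw [hact, Q.proj_conj]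
      show (M.e.symm (Q.act h (Q.proj a))).2 = _
      rw [← M.e.apply_symm_apply (Q.proj a)]
      show (f h (M.e.symm (Q.proj a))).2 = _
      rw [hf, M.e.symm_apply_apply]
    actU_inner := fun h hh => by
      obtain ⟨g, hg⟩ := L.down h hh
      refine DFunLike.ext _ _ fun u => ?_
      rw [hactU, hinner h g hg]
      rfl
    ker_act := fun h hh hh1 => by
      obtain ⟨g, hg⟩ := L.down h hh
      rw [← Q.ker_act]
      refine DFunLike.ext _ _ fun v => ?_
      have hg1 : g = 1 := M.act_inj (by
        rw [map_one]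
        refine DFunLike.ext _ _ fun x => ?_
        have h2 := DFunLike.congr_fun hh1 x
        rw [hact, hinner h g hg] at h2
        exact h2)
      rw [hg, hg1, map_one]
      rfl
    act_q := fun h x => by
      have e : R.q (M.e (f h (0, x))) = R.q (M.e (0, x)) := by
        show R.q (M.e (M.e.symm (Q.act h (M.e (0, x))))) = _
        rw [M.e.apply_symm_apply, L.q_eq, L.q_eq, Q.act_q]
      rw [M.q_eq, M.q_eq, hf h] at e
      rw [hact]
      simp only [show ((f h ((0 : ZMod 2 × ZMod 2), (0 : V6))).1) = 0 from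
        (congrArg Prod.fst (map_zero (f h : _ →+ _))), zero_add, M.polU.2] at e
      exact e
    card_range := ?_ }⟩
  have heq : P.H₁.map act.toHomUnits = M.act.toHomUnits.range := by
    ext u
    constructor
    · rintro ⟨h, hh, rfl⟩
      obtain ⟨g, hg⟩ := L.down h hh
      exact ⟨g, Units.ext (DFunLike.ext _ _ fun x => by
        show M.act g x = act h x
        rw [hact, hinner h g hg])⟩
    · rintro ⟨g, rfl⟩
      obtain ⟨h, hh, hg⟩ := L.up g
      exact ⟨h, hh, Units.ext (DFunLike.ext _ _ fun x => by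
        show act h x = M.act g x
        rw [hact, hinner h g hg])⟩
  rw [heq, ← card_S4U]
  refine (Nat.card_congr (MonoidHom.ofInjective (f := M.act.toHomUnits) ?_).toEquiv).symm
  intro g g' hgg
  exact M.act_inj (congrArg Units.val hgg)

end CfsgLib.U62Cent.Split

namespace CfsgLib.U62Cent

open Split

universe u

theorem splitStmt : SplitStmt.{u} := by
  intro G _ _ z P
  classical
  have hcent : ∀ h : ↥(Subgroup.centralizer ({z} : Set G)), h * zC z = zC z * h := fun h =>
    Subtype.ext (Subgroup.mem_centralizer_singleton_iff.1 h.2)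
  obtain ⟨V, _, _, ⟨Q⟩⟩ := Spor.LargeFi.exists_quadQuot P.xc hcent
  letI : Module (ZMod 2) V := AddCommGroup.zmodModule fun v => by rw [two_nsmul]; exact Q.two v
  let c : S4U →* Cfsg.PSU 4 Spor.U62.K4 2 := QuotientGroup.mk' _
  have hc : Function.Injective c := by
    rw [← MonoidHom.ker_eq_bot_iff, QuotientGroup.ker_mk', center_bot]
  obtain ⟨iso⟩ := P.iso
  let lft : ↥P.H₁ ⧸ P.J.subgroupOf P.H₁ →* Module.End (ZMod 2) V :=
    QuotientGroup.lift _ ((linHom V).comp (Q.act.comp P.H₁.subtype)) fun h hh => by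
      show linHom V (Q.act (h : _)) = 1
      rw [show Q.act (h : ↥(Subgroup.centralizer ({z} : Set G))) = 1 from (Q.ker_act _).2 hh, map_one]
  have hlft : Function.Injective lft := by
    refine (injective_iff_map_eq_one lft).2 fun q hq => ?_
    obtain ⟨h, rfl⟩ := QuotientGroup.mk_surjective q
    rw [QuotientGroup.eq_one_iff]
    refine (Q.ker_act _).1 (DFunLike.ext _ _ fun v => ?_)
    exact LinearMap.congr_fun hq v
  let ψ : S4U →* Module.End (ZMod 2) V := lft.comp (iso.symm.toMonoidHom.comp c)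
  have hdown : ∀ h ∈ P.H₁, ∃ g, ∀ v, Q.act h v = ψ g v := by
    intro h hh
    obtain ⟨g, hg⟩ := QuotientGroup.mk'_surjective _ (iso (QuotientGroup.mk ⟨h, hh⟩))
    refine ⟨g, fun v => ?_⟩
    show _ = lft (iso.symm (c g)) v
    rw [show c g = iso (QuotientGroup.mk ⟨h, hh⟩) from hg, iso.symm_apply_apply]
    rfl
  have hup : ∀ g, ∃ h ∈ P.H₁, ∀ v, Q.act h v = ψ g v := by
    intro g
    obtain ⟨⟨h, hh⟩, hq⟩ := QuotientGroup.mk_surjective (iso.symm (c g))
    refine ⟨h, hh, fun v => ?_⟩
    show _ = lft (iso.symm (c g)) v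
    rw [← hq]
    rfl
  let R : Rep V :=
    { ψ := ψ
      q := Q.q
      B := Q.B
      inj := hlft.comp (iso.symm.injective.comp hc)
      polar := Q.polar
      bil := Q.bil
      nondeg := Q.nondeg
      act_q := fun g v => by
        obtain ⟨h, -, hg⟩ := hup g
        rw [← hg, Q.act_q]
      card := by
        have := Q.card_V
        rw [P.card_J] at this
        omega }
  have L : Link P Q R := ⟨fun _ => rfl, fun _ _ => rfl, hdown, hup⟩
  rcases R.dichotomy with ⟨h1, h2⟩ | ⟨h1, h2, h3⟩
  · obtain ⟨M⟩ := IsNat.natIso (R := R) ⟨h1, h2⟩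
    exact Or.inl (L.nat M)
  · obtain ⟨M⟩ := IsSix.sixIso (R := R) ⟨h1, h2, h3⟩
    exact Or.inr (L.six M)

end CfsgLib.U62Cent
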