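import Cfsg.Agent.Lib.U62Cent.SplitBasic

/-!
Faithful orthogonal actions of `SU₄(2)` on eight bits: the components of the torus.
-/

set_option autoImplicit false
set_option maxRecDepth 100000
set_option synthInstance.maxSize 2000
set_option linter.style.haveILetI false

namespace CfsgLib.U62Cent.Split

universe u

/-- a faithful orthogonal action on eight bits -/
structure Rep (V : Type u) [AddCommGroup V] [Module (ZMod 2) V] where
  /-- the action -/
  ψ : S4U →* Module.End (ZMod 2) V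
  /-- the quadratic form -/
  q : V → ZMod 2
  /-- the polar form -/
  B : V → V → ZMod 2
  inj : Function.Injective ψ
  polar : ∀ u v, q (u + v) = q u + q v + B u v
  bil : ∀ u v x, B (u + v) x = B u x + B v x
  nondeg : ∀ u, (∀ v, B u v = 0) → u = 0
  act_q : ∀ g v, q (ψ g v) = q v
  card : Nat.card V = 256

/-- convolution -/
def cv (c d : T → ZMod 2) (z : T) : ZMod 2 := ∑ x, c x * d (z - x)

/-- a basis function -/
def dlt (y : T) (x : T) : ZMod 2 := if x = y then 1 else 0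

/-- weights of the characters -/
def wt : Fin 14 → Fin 4 → ZMod 3 :=
  ![![1, 0, 0, 0], ![0, 1, 0, 0], ![0, 0, 1, 0], ![0, 0, 0, 1],
    ![1, 1, 0, 0], ![1, 0, 1, 0], ![1, 0, 0, 1],
    ![1, -1, 0, 0], ![1, 0, -1, 0], ![1, 0, 0, -1], ![0, 1, -1, 0], ![0, 1, 0, -1], ![0, 0, 1, -1],
    ![0, 0, 0, 0]]

/-- the value of a character -/
def chi (k : Fin 14) (x : T) : ZMod 3 :=
  wt k 0 * co x 0 + wt k 1 * co x 1 + wt k 2 * co x 2 + wt k 3 * co x 3

/-- the idempotent of a pair of characters -/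
def cls (k : Fin 14) (x : T) : ZMod 2 :=
  if k = 13 then 1 else if chi k x = 0 then 0 else 1

theorem cls_mul : ∀ k l z, cv (cls k) (cls l) z = if k = l then cls k z else 0 := by decide +kernel

theorem cls_sum : ∀ z, ∑ k, cls k z = dlt 0 z := by decide +kernel

theorem cls_neg : ∀ k x, cls k (-x) = cls k x := by decide +kernel

theorem cls_shift : ∀ k x, chi k x = 0 → ∀ z, cls k (z - x) = cls k z := by decide +kernel

theorem cls_rot : ∀ k x, chi k x ≠ 0 → ∀ z,
    cls k z + cls k (z - x) + cls k (z - (x + x)) = 0 := by decide +kernel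

theorem chi_ne : ∀ k, k ≠ 13 → ∃ x, chi k x ≠ 0 := by decide +kernel

theorem cls_orbit₄ : ∀ k l : Fin 4, ∃ σ, ∀ x,
    cls (l.castLE (by norm_num)) (sm σ x) = cls (k.castLE (by norm_num)) x := by decide +kernel

theorem cls_orbit₃ : ∀ k l : Fin 3, ∃ σ, ∀ x,
    cls (![4, 5, 6] l) (sm σ x) = cls (![4, 5, 6] k) x := by decide +kernel

theorem cls_orbit₆ : ∀ k l : Fin 6, ∃ σ, ∀ x,
    cls (![7, 8, 9, 10, 11, 12] l) (sm σ x) = cls (![7, 8, 9, 10, 11, 12] k) x := by decide +kernel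

theorem sm_inv : ∀ σ x, sm σ⁻¹ (sm σ x) = x := by decide +kernel

theorem cases_fin14 : ∀ k : Fin 14, (∃ j : Fin 4, k = j.castLE (by norm_num)) ∨
    (∃ j : Fin 3, k = ![4, 5, 6] j) ∨ (∃ j : Fin 6, k = ![7, 8, 9, 10, 11, 12] j) ∨ k = 13 := by
  decide +kernel

variable {V : Type u} [AddCommGroup V] [Module (ZMod 2) V] (R : Rep V)

/-- the torus algebra -/
noncomputable def Rep.Φ (c : T → ZMod 2) : Module.End (ZMod 2) V := ∑ x, c x • R.ψ (A x)

theorem two_V (v : V) : v + v = 0 := by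
  have h : ((1 : ZMod 2) + 1) • v = 0 := by rw [show (1 : ZMod 2) + 1 = 0 from rfl, zero_smul]
  rwa [add_smul, one_smul] at h

theorem z2_cases (a : ZMod 2) : a = 0 ∨ a = 1 := by revert a; decide

theorem Rep.B_symm (u v : V) : R.B u v = R.B v u := by
  have h1 := R.polar u v
  have h2 := R.polar v u
  rw [add_comm u v, h2, add_comm (R.q v)] at h1
  exact (add_left_cancel h1).symm

theorem Rep.B_zero (v : V) : R.B 0 v = 0 := by
  have h := R.bil 0 0 v
  rw [add_zero] at h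
  exact add_eq_left.mp h.symm

theorem Rep.q_zero : R.q 0 = 0 := by
  have h := R.polar 0 0
  rw [add_zero, R.B_zero, add_zero] at h
  exact add_eq_left.mp h.symm

theorem Rep.B_act (g : S4U) (u v : V) : R.B (R.ψ g u) (R.ψ g v) = R.B u v := by
  have h := R.polar (R.ψ g u) (R.ψ g v)
  rw [← map_add, R.act_q, R.act_q, R.act_q, R.polar] at h
  exact (add_left_cancel h).symm

theorem Rep.ψ_inv (g : S4U) (v : V) : R.ψ g (R.ψ g⁻¹ v) = v := by
  rw [← Module.End.mul_apply, ← map_mul, mul_inv_cancel, map_one, Module.End.one_apply]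

theorem Rep.inv_ψ (g : S4U) (v : V) : R.ψ g⁻¹ (R.ψ g v) = v := by
  rw [← Module.End.mul_apply, ← map_mul, inv_mul_cancel, map_one, Module.End.one_apply]

theorem Rep.B_adj (g : S4U) (u v : V) : R.B (R.ψ g u) v = R.B u (R.ψ g⁻¹ v) := by
  conv_lhs => rw [← R.ψ_inv g v]
  rw [R.B_act]

theorem Rep.B_sum {ι : Type*} (s : Finset ι) (f : ι → V) (v : V) :
    R.B (∑ i ∈ s, f i) v = ∑ i ∈ s, R.B (f i) v :=
  map_sum (AddMonoidHom.mk' (fun u => R.B u v) fun a b => R.bil a b v) f s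

theorem Rep.B_smul (a : ZMod 2) (u v : V) : R.B (a • u) v = a * R.B u v := by
  rcases z2_cases a with rfl | rfl <;> simp [R.B_zero]

theorem Rep.Φ_apply (c : T → ZMod 2) (v : V) : R.Φ c v = ∑ x, c x • R.ψ (A x) v := by
  simp [Rep.Φ, LinearMap.sum_apply]

theorem Rep.Φ_add (c d : T → ZMod 2) : R.Φ (fun x => c x + d x) = R.Φ c + R.Φ d := by
  simp [Rep.Φ, add_smul, Finset.sum_add_distrib]

theorem Rep.Φ_zero : R.Φ (fun _ => 0) = 0 := by simp [Rep.Φ]

theorem Rep.Φ_sum {ι : Type*} (s : Finset ι) (c : ι → T → ZMod 2) :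
    R.Φ (fun z => ∑ i ∈ s, c i z) = ∑ i ∈ s, R.Φ (c i) := by
  simp only [Rep.Φ, Finset.sum_smul]
  exact Finset.sum_comm

theorem Rep.Φ_dlt (y : T) : R.Φ (dlt y) = R.ψ (A y) := by
  rw [Rep.Φ, Finset.sum_eq_single y (fun x _ hx => by rw [dlt, if_neg hx, zero_smul])
    (fun h => absurd (Finset.mem_univ y) h), dlt, if_pos rfl, one_smul]

theorem Rep.Φ_cv (c d : T → ZMod 2) : R.Φ (cv c d) = R.Φ c * R.Φ d := by
  simp only [Rep.Φ]
  rw [Finset.sum_mul]
  simp only [cv, Finset.sum_smul, Finset.mul_sum, smul_mul_smul_comm, ← map_mul, ← A_add]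
  rw [Finset.sum_comm]
  refine Finset.sum_congr rfl fun x _ => ?_
  refine Fintype.sum_equiv (Equiv.subRight x) _ _ fun z => ?_
  show (c x * d (z - x)) • R.ψ (A z) = (c x * d (z - x)) • R.ψ (A (x + (z - x)))
  rw [add_sub_cancel]

theorem Rep.Φ_dlt_mul (y : T) (c : T → ZMod 2) :
    R.ψ (A y) * R.Φ c = R.Φ (fun z => c (z - y)) := by
  rw [← R.Φ_dlt, ← R.Φ_cv]
  refine congrArg R.Φ (funext fun z => ?_)
  rw [cv, Finset.sum_eq_single y (fun x _ hx => by rw [dlt, if_neg hx, zero_mul])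
    (fun h => absurd (Finset.mem_univ y) h), dlt, if_pos rfl, one_mul]

theorem Rep.Φ_comm (c d : T → ZMod 2) : R.Φ c * R.Φ d = R.Φ d * R.Φ c := by
  rw [← R.Φ_cv, ← R.Φ_cv]
  refine congrArg R.Φ (funext fun z => ?_)
  exact Fintype.sum_equiv (Equiv.subLeft z) _ _ fun x => by simp [mul_comm]

theorem Rep.perm_Φ (σ : Equiv.Perm (Fin 4)) {c d : T → ZMod 2} (h : ∀ x, d (sm σ x) = c x) :
    R.ψ (perm σ) * R.Φ c = R.Φ d * R.ψ (perm σ) := by
  simp only [Rep.Φ, Finset.mul_sum, Finset.sum_mul, mul_smul_comm, smul_mul_assoc, ← map_mul]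
  refine Fintype.sum_equiv ⟨sm σ, sm σ⁻¹, sm_inv σ, fun x => by
    conv_lhs => rw [show σ = (σ⁻¹)⁻¹ from (inv_inv σ).symm]
    exact sm_inv σ⁻¹ x⟩ _ _ fun x => ?_
  show c x • R.ψ (perm σ * A x) = d (sm σ x) • R.ψ (A (sm σ x) * perm σ)
  rw [perm_A, h]

theorem Rep.B_Φ {c : T → ZMod 2} (hc : ∀ x, c (-x) = c x) (u v : V) :
    R.B (R.Φ c u) v = R.B u (R.Φ c v) := by
  rw [R.Φ_apply, R.Φ_apply, R.B_sum, R.B_symm u, R.B_sum]
  refine Fintype.sum_equiv (Equiv.neg T) _ _ fun x => ?_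
  have hinv : (A x)⁻¹ = A (-x) := inv_eq_of_mul_eq_one_right (by rw [← A_add, add_neg_cancel, A_zero])
  rw [R.B_smul, R.B_smul, R.B_adj, R.B_symm, hinv, Equiv.neg_apply, hc]

/-- the projection on a component -/
noncomputable def Rep.E (k : Fin 14) : Module.End (ZMod 2) V := R.Φ (cls k)

/-- a component -/
noncomputable def Rep.W (k : Fin 14) : Submodule (ZMod 2) V := LinearMap.range (R.E k)

theorem Rep.E_mul (k l : Fin 14) : R.E k * R.E l = if k = l then R.E k else 0 := by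
  rw [Rep.E, Rep.E, ← R.Φ_cv, show cv (cls k) (cls l) = fun z => if k = l then cls k z else 0 from
    funext (cls_mul k l)]
  split_ifs with h
  · rfl
  · exact R.Φ_zero

theorem Rep.E_sum : ∑ k, R.E k = 1 := by
  simp only [Rep.E]
  rw [← R.Φ_sum, show (fun z => ∑ k, cls k z) = dlt 0 from funext cls_sum, R.Φ_dlt, A_zero, map_one]

theorem Rep.E_comm (k : Fin 14) (x : T) : R.ψ (A x) * R.E k = R.E k * R.ψ (A x) := by
  rw [← R.Φ_dlt, Rep.E, R.Φ_comm]

theorem Rep.E_fix {k : Fin 14} {x : T} (h : chi k x = 0) : R.ψ (A x) * R.E k = R.E k := by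
  rw [Rep.E, R.Φ_dlt_mul, show (fun z => cls k (z - x)) = cls k from funext (cls_shift k x h)]

theorem Rep.E_rot {k : Fin 14} {x : T} (h : chi k x ≠ 0) :
    R.E k + R.ψ (A x) * R.E k + R.ψ (A (x + x)) * R.E k = 0 := by
  simp only [Rep.E, R.Φ_dlt_mul, ← R.Φ_add]
  rw [show (fun z => cls k z + cls k (z - x) + cls k (z - (x + x))) = fun _ => 0 from
    funext (cls_rot k x h), R.Φ_zero]

theorem Rep.mem_W {k : Fin 14} {v : V} : v ∈ R.W k ↔ R.E k v = v := by
  refine ⟨?_, fun h => ⟨v, h⟩⟩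
  rintro ⟨u, rfl⟩
  rw [← Module.End.mul_apply, R.E_mul, if_pos rfl]

theorem Rep.E_ne {k l : Fin 14} (h : k ≠ l) {v : V} (hv : v ∈ R.W l) : R.E k v = 0 := by
  rw [← R.mem_W.1 hv, ← Module.End.mul_apply, R.E_mul, if_neg h, LinearMap.zero_apply]

theorem Rep.A_mem {k : Fin 14} {v : V} (x : T) (hv : v ∈ R.W k) : R.ψ (A x) v ∈ R.W k := by
  rw [R.mem_W, ← Module.End.mul_apply, ← R.E_comm, Module.End.mul_apply, R.mem_W.1 hv]

theorem Rep.W_orth {k l : Fin 14} (h : k ≠ l) {u v : V} (hu : u ∈ R.W k) (hv : v ∈ R.W l) :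
    R.B u v = 0 := by
  rw [← R.mem_W.1 hu, Rep.E, R.B_Φ (cls_neg k)]
  show R.B u (R.E k v) = 0
  rw [R.E_ne h hv, R.B_symm, R.B_zero]

theorem Rep.rot_apply {k : Fin 14} {x : T} (h : chi k x ≠ 0) {v : V} (hv : v ∈ R.W k) :
    R.ψ (A x) (R.ψ (A x) v) = v + R.ψ (A x) v := by
  have h1 := LinearMap.congr_fun (R.E_rot h) v
  rw [LinearMap.add_apply, LinearMap.add_apply, Module.End.mul_apply, Module.End.mul_apply,
    R.mem_W.1 hv, A_add, map_mul, Module.End.mul_apply, LinearMap.zero_apply] at h1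
  rw [add_eq_zero_iff_eq_neg] at h1
  rw [h1, eq_neg_iff_add_eq_zero]
  exact two_V _

theorem Rep.rot_ne {k : Fin 14} {x : T} (h : chi k x ≠ 0) {v : V} (hv : v ∈ R.W k) (hv0 : v ≠ 0) :
    R.ψ (A x) v ≠ v ∧ R.ψ (A x) v ≠ 0 := by
  refine ⟨fun h1 => hv0 ?_, fun h1 => hv0 ?_⟩
  · have h2 := R.rot_apply h hv
    rw [h1, h1, two_V] at h2
    exact h2
  · rw [← R.inv_ψ (A x) v, h1, map_zero]

variable [Finite V]

theorem Rep.four_le {k : Fin 14} (hk : k ≠ 13) (hne : R.E k ≠ 0) : 4 ≤ Nat.card (R.W k) := by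
  obtain ⟨x, hx⟩ := chi_ne k hk
  obtain ⟨v, hv, hv0⟩ : ∃ v ∈ R.W k, v ≠ 0 := by
    by_contra hh
    push Not at hh
    exact hne (LinearMap.ext fun v => hh _ ⟨v, rfl⟩)
  obtain ⟨h1, h2⟩ := R.rot_ne hx hv hv0
  set u := R.ψ (A x) v
  have hu : u ∈ R.W k := R.A_mem x hv
  let f : Fin 4 → R.W k := ![0, ⟨v, hv⟩, ⟨u, hu⟩, ⟨v + u, (R.W k).add_mem hv hu⟩]
  have h3 : v + u ≠ 0 := fun h => h1 (by
    rw [add_eq_zero_iff_eq_neg] at h; rw [h, eq_neg_iff_add_eq_zero]; exact two_V _)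
  have hf : Function.Injective f := fun i j hij => by
    fin_cases i <;> fin_cases j <;>
      first
      | rfl
      | (exfalso; have h4 := congrArg Subtype.val hij; revert h4
         simp [f, h1, h2, hv0, h3, Ne.symm h1, Ne.symm h2, Ne.symm hv0, Ne.symm h3])
  simpa using Nat.card_le_card_of_injective f hf

theorem Rep.card_eq_of_perm {k l : Fin 14} (σ : Equiv.Perm (Fin 4))
    (h : ∀ x, cls l (sm σ x) = cls k x) : Nat.card (R.W k) ≤ Nat.card (R.W l) := by
  have hE : R.ψ (perm σ) * R.E k = R.E l * R.ψ (perm σ) := R.perm_Φ σ h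
  refine Nat.card_le_card_of_injective (fun w => (⟨R.ψ (perm σ) w, R.mem_W.2 (by
    rw [← Module.End.mul_apply, ← hE, Module.End.mul_apply, R.mem_W.1 w.2])⟩ : R.W l))
    fun a b hab => Subtype.ext ?_
  rw [← R.inv_ψ (perm σ) a, show R.ψ (perm σ) (a : V) = R.ψ (perm σ) b from congrArg Subtype.val hab,
    R.inv_ψ]

/-- several components together -/
theorem Rep.card_prod_le {n : ℕ} (f : Fin n → Fin 14) (hf : Function.Injective f) :
    ∏ j, Nat.card (R.W (f j)) ≤ 256 ∧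
      (∀ l, (∀ j, f j ≠ l) → 256 ≤ ∏ j, Nat.card (R.W (f j)) → R.E l = 0) := by
  let S : (∀ j, R.W (f j)) → V := fun w => ∑ j, (w j : V)
  have hS : ∀ w j, R.E (f j) (S w) = (w j : V) := fun w j => by
    show R.E (f j) (∑ i, (w i : V)) = _
    rw [map_sum, Finset.sum_eq_single j (fun i _ hi => R.E_ne (fun h => hi (hf h).symm) (w i).2)
      (fun h => absurd (Finset.mem_univ j) h), R.mem_W.1 (w j).2]
  have hinj : Function.Injective S := fun a b hab => funext fun j => Subtype.ext (by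
    rw [← hS a j, hab, hS b j])
  have hle := Nat.card_le_card_of_injective S hinj
  rw [Nat.card_pi, R.card] at hle
  refine ⟨hle, fun l hl hge => LinearMap.ext fun v => ?_⟩
  obtain ⟨w, hw⟩ := ((Nat.bijective_iff_injective_and_card S).2 ⟨hinj, by
    rw [Nat.card_pi, R.card]; omega⟩).2 v
  rw [← hw, LinearMap.zero_apply]
  show R.E l (∑ i, (w i : V)) = 0
  rw [map_sum]
  exact Finset.sum_eq_zero fun i _ => R.E_ne (hl i).symm (w i).2

omit [Finite V] in
theorem Rep.card_dvd (k : Fin 14) : Nat.card (R.W k) ∣ 256 :=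
  R.card ▸ AddSubgroup.card_addSubgroup_dvd_card (R.W k).toAddSubgroup

/-- The two possibilities. -/
theorem Rep.dichotomy :
    ((∀ j : Fin 4, Nat.card (R.W (j.castLE (by norm_num))) = 4) ∧
        ∀ k : Fin 14, (∀ j : Fin 4, k ≠ j.castLE (by norm_num)) → R.E k = 0) ∨
      ((∀ j : Fin 3, Nat.card (R.W (![4, 5, 6] j)) = 4) ∧ Nat.card (R.W 13) = 4 ∧
        ∀ k : Fin 14, (∀ j : Fin 4, k ≠ ![4, 5, 6, 13] j) → R.E k = 0) := by
  have hne : ∀ {k l : Fin 14}, (∃ σ, ∀ x, cls l (sm σ x) = cls k x) → R.E k ≠ 0 → R.E l ≠ 0 := by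
    rintro k l ⟨σ, h⟩ hk hl
    refine hk (LinearMap.ext fun v => ?_)
    have h1 := LinearMap.congr_fun (R.perm_Φ σ h) v
    rw [Module.End.mul_apply, Module.End.mul_apply] at h1
    change R.ψ (perm σ) (R.E k v) = R.E l _ at h1
    rw [hl, LinearMap.zero_apply] at h1
    rw [LinearMap.zero_apply, ← R.inv_ψ (perm σ) (R.E k v), h1, map_zero]
  by_cases h4 : ∃ j : Fin 4, R.E (j.castLE (by norm_num)) ≠ 0
  · left
    obtain ⟨j₀, hj₀⟩ := h4
    have hall : ∀ j : Fin 4, 4 ≤ Nat.card (R.W (j.castLE (by norm_num))) := fun j =>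
      R.four_le (fun h => by revert h; revert j; decide) (hne (cls_orbit₄ j₀ j) hj₀)
    obtain ⟨hle, hzero⟩ := R.card_prod_le (fun j : Fin 4 => j.castLE (show 4 ≤ 14 by norm_num))
      (Fin.castLE_injective (show 4 ≤ 14 by norm_num))
    rw [Fin.prod_univ_four] at hle hzero
    have h0 := hall 0; have h1 := hall 1; have h2 := hall 2; have h3 := hall 3
    refine ⟨fun j => ?_, fun k hk => hzero k (fun j => (hk j).symm) ?_⟩
    · refine le_antisymm ?_ (hall j)
      by_contra hgt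
      push Not at hgt
      have e01 : ∀ a b : ℕ, 4 ≤ a → 4 ≤ b → 16 ≤ a * b := fun a b ha hb => Nat.mul_le_mul ha hb
      fin_cases j
      · exact absurd hle (not_le.2 (lt_of_lt_of_le (show 256 < 5 * 4 * 4 * 4 by norm_num)
          (Nat.mul_le_mul (Nat.mul_le_mul (Nat.mul_le_mul hgt h1) h2) h3)))
      · exact absurd hle (not_le.2 (lt_of_lt_of_le (show 256 < 4 * 5 * 4 * 4 by norm_num)
          (Nat.mul_le_mul (Nat.mul_le_mul (Nat.mul_le_mul h0 hgt) h2) h3)))
      · exact absurd hle (not_le.2 (lt_of_lt_of_le (show 256 < 4 * 4 * 5 * 4 by norm_num)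
          (Nat.mul_le_mul (Nat.mul_le_mul (Nat.mul_le_mul h0 h1) hgt) h3)))
      · exact absurd hle (not_le.2 (lt_of_lt_of_le (show 256 < 4 * 4 * 4 * 5 by norm_num)
          (Nat.mul_le_mul (Nat.mul_le_mul (Nat.mul_le_mul h0 h1) h2) hgt)))
    · exact (Nat.mul_le_mul (Nat.mul_le_mul (Nat.mul_le_mul h0 h1) h2) h3).trans_eq' (by norm_num)
  right
  push Not at h4
  have h6 : ∀ j : Fin 6, R.E (![7, 8, 9, 10, 11, 12] j) = 0 := by
    intro j
    by_contra hj
    have hall : ∀ l : Fin 6, 4 ≤ Nat.card (R.W (![7, 8, 9, 10, 11, 12] l)) := fun l =>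
      R.four_le (fun h => by revert h; revert l; decide) (hne (cls_orbit₆ j l) hj)
    obtain ⟨hle, -⟩ := R.card_prod_le ![7, 8, 9, 10, 11, 12] (by decide)
    have := (Finset.prod_le_prod' (s := Finset.univ) fun l _ => hall l).trans hle
    simp at this
  have h3 : ∀ j : Fin 3, R.E (![4, 5, 6] j) ≠ 0 := by
    intro j hj
    have hall : ∀ l : Fin 3, R.E (![4, 5, 6] l) = 0 := fun l => by
      by_contra hl
      exact hne (cls_orbit₃ l j) hl hj
    have h13 : R.E 13 = 1 := by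
      rw [← R.E_sum]
      refine (Finset.sum_eq_single (13 : Fin 14) (fun k _ hk => ?_)
        (fun h => absurd (Finset.mem_univ _) h)).symm
      rcases cases_fin14 k with ⟨i, rfl⟩ | ⟨i, rfl⟩ | ⟨i, rfl⟩ | rfl
      exacts [h4 i, hall i, h6 i, absurd rfl hk]
    have h := R.E_fix (k := 13) (x := (1, 0, 0)) (by decide)
    rw [h13, mul_one, ← map_one R.ψ] at h
    have h1 := congrArg (fun g : S4U => (g.1.1 0 0).im) (R.inj h)
    revert h1
    decide +kernel
  have hall : ∀ j : Fin 3, 4 ≤ Nat.card (R.W (![4, 5, 6] j)) := fun j =>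
    R.four_le (fun h => by revert h; revert j; decide) (h3 j)
  obtain ⟨hle, hzero⟩ := R.card_prod_le ![4, 5, 6, 13] (by decide)
  rw [Fin.prod_univ_four] at hle hzero
  change Nat.card (R.W (![4, 5, 6] 0)) * Nat.card (R.W (![4, 5, 6] 1)) *
    Nat.card (R.W (![4, 5, 6] 2)) * Nat.card (R.W 13) ≤ 256 at hle
  have heq : ∀ j l : Fin 3, Nat.card (R.W (![4, 5, 6] j)) = Nat.card (R.W (![4, 5, 6] l)) :=
    fun j l => le_antisymm ((cls_orbit₃ j l).elim fun σ h => R.card_eq_of_perm σ h)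
      ((cls_orbit₃ l j).elim fun σ h => R.card_eq_of_perm σ h)
  rw [heq 1 0, heq 2 0] at hle
  set a := Nat.card (R.W (![4, 5, 6] 0)) with ha
  have hu1 : 1 ≤ Nat.card (R.W 13) := Nat.card_pos
  have ha4 : a = 4 := by
    have h1 : a * a * a * 1 ≤ 256 := (Nat.mul_le_mul_left _ hu1).trans hle
    rw [mul_one] at h1
    have h2 : a ≤ 6 := by
      by_contra hgt
      push Not at hgt
      have := Nat.mul_le_mul (Nat.mul_le_mul hgt hgt) hgt
      omega
    have h5 : 4 ≤ a := hall 0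
    have hd : a ∣ 256 := R.card_dvd _
    interval_cases a <;> first | rfl | (exact absurd hd (by norm_num))
  have hv : ∀ v, v = ∑ j : Fin 4, R.E (![4, 5, 6, 13] j) v := by
    intro v
    conv_lhs => rw [← Module.End.one_apply (R := ZMod 2) v, ← R.E_sum, LinearMap.sum_apply]
    refine (Finset.sum_subset (Finset.subset_univ ((Finset.univ : Finset (Fin 4)).image ![4, 5, 6, 13]))
      fun k _ hk => ?_).symm.trans (Finset.sum_image fun i _ j _ h => by revert h; revert i j; decide)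
    rcases cases_fin14 k with ⟨i, rfl⟩ | ⟨i, rfl⟩ | ⟨i, rfl⟩ | rfl
    · rw [h4 i, LinearMap.zero_apply]
    · exact absurd (by revert i; decide) hk
    · rw [h6 i, LinearMap.zero_apply]
    · exact absurd (by decide) hk
  have hu : Nat.card (R.W 13) = 4 := by
    have hs : Function.Surjective (fun w : (j : Fin 4) → R.W (![4, 5, 6, 13] j) => ∑ j, (w j : V)) :=
      fun v => ⟨fun j => ⟨_, ⟨v, rfl⟩⟩, (hv v).symm⟩
    have h1 := Nat.card_le_card_of_surjective _ hs
    rw [R.card, Nat.card_pi, Fin.prod_univ_four] at h1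
    change 256 ≤ Nat.card (R.W (![4, 5, 6] 0)) * Nat.card (R.W (![4, 5, 6] 1)) *
      Nat.card (R.W (![4, 5, 6] 2)) * Nat.card (R.W 13) at h1
    rw [heq 1 0, heq 2 0, ← ha, ha4] at h1
    rw [ha4] at hle
    omega
  refine ⟨fun j => (heq j 0).trans ha4, hu, fun k hk => hzero k (fun j => (hk j).symm) ?_⟩
  show 256 ≤ Nat.card (R.W (![4, 5, 6] 0)) * Nat.card (R.W (![4, 5, 6] 1)) *
    Nat.card (R.W (![4, 5, 6] 2)) * Nat.card (R.W 13)
  rw [heq 1 0, heq 2 0, ← ha, ha4, hu]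

end CfsgLib.U62Cent.Split
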