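import Cfsg.Agent.Lib.U62Cent.Code
import Cfsg.Agent.Lib.Classical.UnitarySimple
import Cfsg.Agent.Lib.Classical.UnitaryOrder

/-!
`SU₄(2)`: the monomial group, its generation with one more element, and its order.
-/

set_option autoImplicit false
set_option maxRecDepth 100000
set_option linter.style.haveILetI false

namespace CfsgLib.U62Cent.Split

open Matrix
open CfsgLib.Classical CfsgLib.Classical.Unitary

/-- `SU₄(2)` -/
abbrev S4U : Subgroup (Matrix.SpecialLinearGroup (Fin 4) K4) := Cfsg.SU 4 K4 2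

/-- coordinates of the torus -/
abbrev T : Type := ZMod 3 × ZMod 3 × ZMod 3

/-- the four exponents -/
def co (x : T) : Fin 4 → ZMod 3 := ![x.1, x.2.1, x.2.2, -(x.1 + x.2.1 + x.2.2)]

/-- a torus element from its exponents -/
def ofCo (f : Fin 4 → ZMod 3) : T := (f 0, f 1, f 2)

/-- the element `ω` -/
def om4 : K4 := ⟨0, 1⟩

/-- powers of `ω` -/
def pw (a : ZMod 3) : K4 := if a = 0 then 1 else if a = 1 then om4 else om4 * om4

theorem hF : Nat.card K4 = 2 ^ 2 := by rw [Spor.U62.card_K4]; norm_num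

theorem pw_norm : ∀ a, pw a ^ (2 + 1) = 1 := by decide +kernel

theorem pw_add : ∀ a b, pw (a + b) = pw a * pw b := by decide +kernel

theorem pw_zero : pw 0 = 1 := rfl

theorem norm_unit : ∀ k : K4, k ≠ 0 → k * k ^ 2 = 1 := by
  have h : ∀ a b : ZMod 2, (⟨a, b⟩ : K4) ≠ 0 → (⟨a, b⟩ : K4) * (⟨a, b⟩ : K4) ^ 2 = 1 := by
    decide +kernel
  exact fun k => h k.re k.im

theorem exists_pw : ∀ k : K4, k ≠ 0 → ∃ a, k = pw a := by
  have h : ∀ a b : ZMod 2, (⟨a, b⟩ : K4) ≠ 0 → ∃ c, (⟨a, b⟩ : K4) = pw c := by decide +kernel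
  exact fun k => h k.re k.im

theorem det_diag (x : T) : (Matrix.diagonal fun i => pw (co x i)).det = 1 := by
  revert x
  simp only [Matrix.det_diagonal, Fin.prod_univ_four]
  decide +kernel

/-- the torus -/
def A (x : T) : S4U :=
  ⟨⟨_, det_diag x⟩, diagonal_mem_SU (fun i => pw_norm (co x i)) (det_diag x)⟩

theorem A_mulVec (x : T) (v : V4) (i : Fin 4) : ((A x).1.1 *ᵥ v) i = pw (co x i) * v i :=
  mulVec_diagonal _ _ _

theorem co_add : ∀ (x y : T) (i : Fin 4), co (x + y) i = co x i + co y i := by decide +kernel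

theorem A_add (x y : T) : A (x + y) = A x * A y := su_ext fun v => by
  rw [su_mul_mulVec]
  funext i
  rw [A_mulVec, A_mulVec, A_mulVec, co_add, pw_add, mul_assoc]

theorem A_zero : A 0 = 1 := su_ext fun v => by
  rw [su_one_mulVec]
  funext i
  rw [A_mulVec, show co 0 i = 0 by revert i; decide, pw_zero, one_mul]

theorem sign_K4 (σ : Equiv.Perm (Fin 4)) : ((Equiv.Perm.sign σ : ℤ) : K4) = 1 := by
  rcases Int.units_eq_one_or (Equiv.Perm.sign σ) with h | h <;> rw [h]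
  · simp
  · simp only [Units.val_neg, Units.val_one, Int.cast_neg, Int.cast_one]
    decide +kernel

/-- permutation matrices -/
def perm : Equiv.Perm (Fin 4) →* S4U where
  toFun σ := ⟨⟨(σ⁻¹).permMatrix K4, by rw [Matrix.det_permutation]; exact sign_K4 σ⁻¹⟩,
    mem_SU_iff.2 fun u v => by
      show Cfsg.hermForm 4 K4 2 ((σ⁻¹).permMatrix K4 *ᵥ u) ((σ⁻¹).permMatrix K4 *ᵥ v) = _
      rw [permMatrix_mulVec, permMatrix_mulVec]
      exact Equiv.sum_comp σ⁻¹ fun i => u i * v i ^ 2⟩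
  map_one' := su_ext fun v => by
    show ((1 : Equiv.Perm (Fin 4))⁻¹).permMatrix K4 *ᵥ v = _
    rw [permMatrix_mulVec, su_one_mulVec]
    rfl
  map_mul' σ τ := su_ext fun v => by
    show ((σ * τ)⁻¹).permMatrix K4 *ᵥ v = _
    rw [su_mul_mulVec]
    show _ = (σ⁻¹).permMatrix K4 *ᵥ ((τ⁻¹).permMatrix K4 *ᵥ v)
    rw [permMatrix_mulVec, permMatrix_mulVec, permMatrix_mulVec, _root_.mul_inv_rev]
    rfl

theorem perm_mulVec (σ : Equiv.Perm (Fin 4)) (v : V4) (i : Fin 4) :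
    ((perm σ).1.1 *ᵥ v) i = v (σ⁻¹ i) :=
  congrFun (permMatrix_mulVec (σ := σ⁻¹) (v := v)) i

/-- the action on exponents -/
def sm (σ : Equiv.Perm (Fin 4)) (x : T) : T := ofCo (co x ∘ ⇑σ⁻¹)

theorem co_sm : ∀ (σ : Equiv.Perm (Fin 4)) (x : T) (i : Fin 4), co (sm σ x) (σ i) = co x i := by
  decide +kernel

theorem perm_A (σ : Equiv.Perm (Fin 4)) (x : T) : perm σ * A x = A (sm σ x) * perm σ := by
  refine su_ext fun v => funext fun i => ?_
  rw [su_mul_mulVec, su_mul_mulVec, perm_mulVec, A_mulVec, A_mulVec, perm_mulVec]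
  have h := co_sm σ x (σ⁻¹ i)
  rw [show σ (σ⁻¹ i) = i from σ.apply_symm_apply i] at h
  rw [h]

/-- the field automorphism -/
noncomputable def sig : K4 →+* K4 := (exists_uFrob hF).choose

theorem uF : UFrob sig 2 := (exists_uFrob hF).choose_spec

theorem skew_one : (1 : K4) + sig 1 = 0 := by rw [map_one]; decide +kernel

/-- the transvection of an isotropic vector -/
noncomputable def tr (x : V4) (hx : hf x x = 0) : S4U :=
  utv uF x 1 (by rw [← uF.hermForm_eq]; exact hx) skew_one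

theorem tr_mulVec (x : V4) (hx : hf x x = 0) (v : V4) : (tr x hx).1.1 *ᵥ v = tv x v := by
  rw [tr, utv_mulVec, one_mul, ← uF.hermForm_eq]
  rfl

theorem hf_iso {x y : V4} {g : S4U} (hy : g.1.1 *ᵥ x = y) (hx : hf x x = 0) : hf y y = 0 := by
  rw [← hy]
  exact (mem_SU_iff.1 g.2 x x).trans hx

theorem tr_conj (g : S4U) {x y : V4} (hx : hf x x = 0) (hy : hf y y = 0) {k : K4} (hk : k ≠ 0)
    (h : g.1.1 *ᵥ x = k • y) : tr y hy = g * tr x hx * g⁻¹ := by
  refine su_ext fun v => ?_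
  rw [su_mul_mulVec, su_mul_mulVec, tr_mulVec, tr_mulVec, tv, tv, mulVec_add, mulVec_smul, su_mulVec_inv,
    h, smul_smul]
  congr 2
  have h1 : hf v (k • y) = hf ((g⁻¹).1.1 *ᵥ v) x := by
    rw [← h]
    conv_lhs => rw [← su_mulVec_inv g v]
    exact mem_SU_iff.1 g.2 _ _
  rw [← h1]
  have h2 : hf v (k • y) = k ^ 2 * hf v y := by
    simp only [hf, Cfsg.hermForm, Pi.smul_apply, smul_eq_mul, Finset.mul_sum]
    exact Finset.sum_congr rfl fun i _ => by ring
  rw [h2, mul_comm (k ^ 2), mul_assoc, mul_comm (k ^ 2), norm_unit k hk, mul_one]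

/-- the weight four base point -/
def x4 : V4 := fun _ => 1

/-- a weight two base point -/
def x2 (i j : Fin 4) : V4 := fun k => if k = i ∨ k = j then 1 else 0

theorem hf_x4 : hf x4 x4 = 0 := by decide +kernel

theorem hf_x2 : ∀ i j, i ≠ j → hf (x2 i j) (x2 i j) = 0 := by decide +kernel

/-- the extra generator -/
noncomputable def t0 : S4U := tr x4 hf_x4

theorem tr_x2 (i j : Fin 4) (h : i ≠ j) : tr (x2 i j) (hf_x2 i j h) = perm (Equiv.swap i j) := by
  refine su_ext fun v => vc4_inj ?_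
  rw [tr_mulVec, vc4_tv,
    show (perm (Equiv.swap i j)).1.1 *ᵥ v = v ∘ (Equiv.swap i j) from funext fun k => by
      rw [perm_mulVec, Equiv.swap_inv]; rfl]
  have key : ∀ i j : Fin 4, i ≠ j → ∀ c < 256,
      tC4 (vc4 (x2 i j)) c = vc4 (vo4 c ∘ Equiv.swap i j) := by decide +kernel
  have := key i j h _ (vc4_lt v)
  rwa [vo4_vc4] at this

/-- code of a scaled diagonal image of a base point -/
def imC (x : T) (k : ℕ) (b : Bool) (i j : Fin 4) : ℕ :=
  vc4 fun l => Spor.U62.kOf k * (pw (co x l) * (if b then x4 l else x2 i j l))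

set_option synthInstance.maxSize 2000 in
theorem point_table : ∀ c < 256, hC4 c c = 0 → c ≠ 0 →
    ∃ k : Fin 3, ∃ x : T, imC x (k.val + 1) true 0 0 = c ∨
      ∃ i j : Fin 4, i < j ∧ imC x (k.val + 1) false i j = c := by decide +kernel

theorem kOf_ne : ∀ k : Fin 3, Spor.U62.kOf (k.val + 1) ≠ 0 := by decide +kernel

theorem gen {K : Subgroup S4U} (hA : ∀ x, A x ∈ K) (hP : ∀ σ, perm σ ∈ K) (ht : t0 ∈ K) :
    K = ⊤ := by
  refine eq_top_iff.2 ?_
  rw [← transvGroup_eq_top hF uF 4 (by norm_num) (by norm_num)]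
  refine mem_of_eq_utv uF fun v c hv hc => ?_
  have hc01 : c = 0 ∨ c = 1 := by
    have h : c + c ^ 2 = 0 := by rw [← uF.pow]; exact hc
    revert h
    have : ∀ a b : ZMod 2, (⟨a, b⟩ : K4) + (⟨a, b⟩ : K4) ^ 2 = 0 →
        (⟨a, b⟩ : K4) = 0 ∨ (⟨a, b⟩ : K4) = 1 := by decide +kernel
    exact this c.re c.im
  rcases hc01 with rfl | rfl
  · rw [show utv uF v 0 hv hc = 1 from su_ext fun u => by simp]
    exact K.one_mem
  have hv' : hf v v = 0 := by rw [hf, uF.hermForm_eq]; exact hv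
  show tr v hv' ∈ K
  by_cases hv0 : v = 0
  · rw [show tr v hv' = 1 from su_ext fun u => by rw [tr_mulVec]; simp [tv, hv0]]
    exact K.one_mem
  obtain ⟨k, x, h⟩ := point_table _ (vc4_lt v) (hf_zero_iff.1 hv') fun h => hv0 (vc4_inj (h.trans
    (show 0 = vc4 0 by decide +kernel)))
  set k' := Spor.U62.kOf (k.val + 1) with hk'
  have hbase : ∃ b : V4, ∃ hb : hf b b = 0, tr b hb ∈ K ∧
      v = fun l => k' * (pw (co x l) * b l) := by
    rcases h with h | ⟨i, j, hij, h⟩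
    · exact ⟨x4, hf_x4, ht, vc4_inj h.symm⟩
    · exact ⟨x2 i j, hf_x2 i j hij.ne, tr_x2 i j hij.ne ▸ hP _, vc4_inj h.symm⟩
  obtain ⟨b, hb, hbK, hv1⟩ := hbase
  rw [tr_conj (A x) hb hv' (k := k'⁻¹) (inv_ne_zero (kOf_ne k)) (funext fun l => by
    rw [A_mulVec, hv1, Pi.smul_apply, smul_eq_mul, ← mul_assoc, inv_mul_cancel₀ (kOf_ne k),
      one_mul])]
  exact K.mul_mem (K.mul_mem (hA x) hbK) (K.inv_mem (hA x))

/-- the vector `(1,1,1,ω)` -/
def x4' : V4 := ![1, 1, 1, om4]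

theorem hf_x4' : hf x4' x4' = 0 := by decide +kernel

/-- an element centralising the torus element `(1,1,1)` -/
noncomputable def y : S4U := t0 * tr x4' hf_x4'

theorem y_code (v : V4) : vc4 (y.1.1 *ᵥ v) = tC4 (vc4 x4) (tC4 (vc4 x4') (vc4 v)) := by
  rw [y, t0, su_mul_mulVec, tr_mulVec, tr_mulVec, vc4_tv, vc4_tv]

theorem y_comm : y * A (1, 1, 1) = A (1, 1, 1) * y := by
  refine su_ext fun v => vc4_inj ?_
  have key : ∀ c < 256, tC4 (vc4 x4) (tC4 (vc4 x4') (vc4 fun l => pw (co (1, 1, 1) l) * vo4 c l)) =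
      vc4 fun l => pw (co (1, 1, 1) l) * vo4 (tC4 (vc4 x4) (tC4 (vc4 x4') c)) l := by
    decide +kernel
  have h := key _ (vc4_lt v)
  rw [su_mul_mulVec, su_mul_mulVec, y_code,
    show (A (1, 1, 1)).1.1 *ᵥ v = fun l => pw (co (1, 1, 1) l) * v l from funext (A_mulVec _ _),
    show (A (1, 1, 1)).1.1 *ᵥ (y.1.1 *ᵥ v) =
      fun l => pw (co (1, 1, 1) l) * (y.1.1 *ᵥ v) l from funext (A_mulVec _ _)]
  rw [← y_code v, vo4_vc4, vo4_vc4] at h
  exact h

theorem y_cube : y ^ 3 = 1 := by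
  refine su_ext fun v => vc4_inj ?_
  have key : ∀ c < 256,
      tC4 (vc4 x4) (tC4 (vc4 x4') (tC4 (vc4 x4) (tC4 (vc4 x4') (tC4 (vc4 x4) (tC4 (vc4 x4') c))))) =
        c := by decide +kernel
  rw [pow_three, su_mul_mulVec, su_mul_mulVec, su_one_mulVec, y_code, y_code, y_code]
  exact key _ (vc4_lt v)

theorem t0_word :
    t0 = (A (1, 1, 0))⁻¹ * (y * perm (Equiv.swap 2 3) * y⁻¹) * A (1, 1, 0) := by
  have h2 : (2 : Fin 4) ≠ 3 := by decide
  have hw : hf (fun l => pw (co (1, 1, 0) l)) (fun l => pw (co (1, 1, 0) l)) = 0 := by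
    decide +kernel
  have e1 : tr (fun l => pw (co (1, 1, 0) l)) hw = y * perm (Equiv.swap 2 3) * y⁻¹ := by
    rw [← tr_x2 2 3 h2]
    refine tr_conj y (hf_x2 2 3 h2) hw (k := om4) (by decide +kernel) (vc4_inj ?_)
    rw [y_code]
    decide +kernel
  rw [← e1, tr_conj (A (1, 1, 0)) hf_x4 hw (k := 1) one_ne_zero (funext fun l => by
    rw [A_mulVec, one_smul]; simp [x4])]
  rw [t0]
  group

theorem card_S4U : Nat.card S4U = 25920 := by
  have h : (2 + 1) * Nat.card S4U = Nat.card (Cfsg.GU 4 K4 2) :=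
    CfsgLib.Classical.card_SU_mul (q := 2) hF (by norm_num)
  rw [CfsgLib.Classical.card_GU (q := 2) hF] at h
  simp only [Finset.prod_range_succ, Finset.prod_range_zero] at h
  norm_num [show Even 2 from ⟨1, rfl⟩, show ¬ Even 3 by decide, show Even 4 from ⟨2, rfl⟩,
    show ¬ Even 1 by decide] at h
  omega

theorem center_bot : Subgroup.center S4U = ⊥ := by
  rw [← Subgroup.card_eq_one]
  exact (card_center_SU (q := 2) hF (by norm_num)).trans rfl

/-- A homomorphism to a smaller group is trivial. -/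
theorem hom_small {H : Type*} [Group H] [Finite H] (f : S4U →* H) (h : Nat.card H < 25920)
    (g : S4U) : f g = 1 := by
  rcases normal_su_le_center_or_eq_top hF uF (by norm_num) (by norm_num) f.ker with hk | hk
  · rw [center_bot, le_bot_iff, MonoidHom.ker_eq_bot_iff] at hk
    have := Nat.card_le_card_of_injective f hk
    rw [card_S4U] at this
    omega
  · exact MonoidHom.mem_ker.1 (hk ▸ Subgroup.mem_top g)

end CfsgLib.U62Cent.Split
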