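import Cfsg.Agent.Lib.U62Cent.Base
import Cfsg.Agent.Lib.U62Cent.Checks

/-!
Two-subgroups of the image of the centraliser in case A: elementary ones have order at most 16, those of
order at least 128 have at least three commutators, and the involutions of `SU₄(2)` form two classes.
-/

set_option autoImplicit false
set_option maxRecDepth 100000

namespace CfsgLib.U62Cent

open Matrix
open CfsgLib.Spor.U62 (kOf kCode)

universe u

attribute [local irreducible] mulM cd4 tM

namespace Fus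

theorem cd4_conj_word (g : U4) {l : List ℕ} (h : wB l = true) (hr : wB l.reverse = true) :
    cd4 (wU l * g * (wU l)⁻¹) = mulM (wM l) (mulM (cd4 g) (wM l.reverse)) := by
  rw [← wU_reverse, mul_assoc, cd4_mul, cd4_mul, cd4_wU h, cd4_wU hr]

theorem wB_reverse {l : List ℕ} (h : wB l = true) : wB l.reverse = true := by
  simpa [wB] using h

/-- An elementary abelian subgroup of `SU₄(2)` has order at most 16, and one of order 16 contains the five
transvections of a line. -/
theorem elementary_le {Y : Subgroup U4} (hsq : ∀ a ∈ Y, a * a = 1) :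
    Nat.card Y ≤ 16 ∧ (Nat.card Y = 16 → ∃ k : U4, ∀ x ∈ linePts, k * tvI x * k⁻¹ ∈ Y) := by
  classical
  have hcomm : ∀ a ∈ Y, ∀ b ∈ Y, a * b = b * a := fun a ha b hb => by
    have h := hsq _ (mul_mem ha hb)
    calc a * b = a * (a * b * (a * b)) * b := by rw [h, mul_one]
      _ = (a * a) * (b * a) * (b * b) := by group
      _ = b * a := by rw [hsq a ha, hsq b hb, one_mul, mul_one]
  have hY : IsPGroup 2 Y := fun a => ⟨1, Subtype.ext (by
    rw [pow_one, pow_two, Subgroup.coe_mul, Subgroup.coe_one]; exact hsq _ a.2)⟩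
  obtain ⟨g, hg⟩ := exists_conj_le hY
  let e : Y → ℕ := fun y => cd4 (g * (y : U4) * g⁻¹)
  have hinj : Function.Injective e := fun a b h =>
    Subtype.ext (mul_left_cancel (mul_right_cancel (cd4_injective h)))
  have hprop : ∀ a b : Y, mulM (e a) (e b) = mulM (e b) (e a) ∧ mulM (e a) (e a) = oneM := fun a b => by
    have h1 := hsq _ a.2
    have h2 := hcomm _ a.2 _ b.2
    constructor
    · rw [← cd4_mul, ← cd4_mul]
      refine congrArg cd4 ?_
      calc g * (a : U4) * g⁻¹ * (g * b * g⁻¹) = g * ((a : U4) * b) * g⁻¹ := by group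
        _ = g * ((b : U4) * a) * g⁻¹ := by rw [h2]
        _ = _ := by group
    · rw [← cd4_mul, show g * (a : U4) * g⁻¹ * (g * a * g⁻¹) = g * ((a : U4) * a) * g⁻¹ by group, h1,
        mul_one, mul_inv_cancel, cd4_one]
  haveI : Fintype Y := Fintype.ofFinite _
  let s : Finset ℕ := Finset.univ.image e
  have hcard : Nat.card Y = s.card := by
    rw [Nat.card_eq_fintype_card, Finset.card_image_of_injective _ hinj, Finset.card_univ]
  have hsub : s ⊆ lineL.toFinset ∨ s.card < 16 := by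
    by_cases h : ∀ a : Y, e a ∈ lineL
    · refine Or.inl fun c hc => ?_
      obtain ⟨a, -, rfl⟩ := Finset.mem_image.1 hc
      exact List.mem_toFinset.2 (h a)
    · push_neg at h
      obtain ⟨a, ha⟩ := h
      refine Or.inr ?_
      have hchk := List.all_eq_true.1 outside_line (e a) (hg _ a.2)
      simp only [Bool.or_eq_true, Bool.not_eq_true', Nat.blt_eq, (hprop a a).2, Nat.beq_refl,
        Bool.not_true, Bool.false_eq_true, or_false] at hchk
      rcases hchk with hchk | hchk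
      · exact absurd (memN_iff.1 hchk) ha
      refine lt_of_le_of_lt ?_ hchk
      refine le_trans (Finset.card_le_card ?_) (List.toFinset_card_le _)
      intro c hc
      obtain ⟨b, -, rfl⟩ := Finset.mem_image.1 hc
      refine List.mem_toFinset.2 (List.mem_filter.2 ⟨hg _ b.2, ?_⟩)
      simp only [Bool.and_eq_true, Nat.beq_eq]
      exact ⟨(hprop b b).2, (hprop a b).1⟩
  obtain ⟨hlen, hnd⟩ := line_len
  have hL : lineL.toFinset.card = 16 := by rw [List.toFinset_card_of_nodup hnd, hlen]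
  constructor
  · rcases hsub with h | h
    · exact hcard ▸ (Finset.card_le_card h).trans hL.le
    · omega
  · intro h16
    rcases hsub with h | h
    swap
    · omega
    have heq : s = lineL.toFinset := Finset.eq_of_subset_of_card_le h (by omega)
    refine ⟨g⁻¹, fun x hx => ?_⟩
    have hc := List.all_eq_true.1 line_pts x hx
    simp only [Bool.and_eq_true] at hc
    obtain ⟨hx256, hiso⟩ := isoB_spec hc.1
    have hmem : tM x ∈ s := heq ▸ List.mem_toFinset.2 (memN_iff.1 hc.2)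
    obtain ⟨a, -, ha⟩ := Finset.mem_image.1 hmem
    have e1 : g * (a : U4) * g⁻¹ = tvI x :=
      cd4_injective (by rw [tvI_eq hiso, cd4_tvU, vc4_vo4 x hx256]; exact ha)
    rw [← e1, show g⁻¹ * (g * (a : U4) * g⁻¹) * g⁻¹⁻¹ = a by group]
    exact a.2

/-- A 2-subgroup of order 64 has at least three values of commutators. -/
theorem commutators_two {Y : Subgroup U4} (hY : IsPGroup 2 Y) (h64 : 64 ≤ Nat.card Y) (c : U4)
    (hc : ∀ a ∈ Y, ∀ b ∈ Y, a * b * a⁻¹ * b⁻¹ = 1 ∨ a * b * a⁻¹ * b⁻¹ = c) : False := by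
  classical
  obtain ⟨g, hg⟩ := exists_conj_le hY
  have hsurj : ∀ x ∈ sylP, g⁻¹ * x * g ∈ Y := by
    obtain ⟨f, hf⟩ : ∃ f : Y → sylP, ∀ y : Y, ((f y : sylP) : U4) = g * (y : U4) * g⁻¹ :=
      ⟨fun y => ⟨g * (y : U4) * g⁻¹, hg _ y.2⟩, fun _ => rfl⟩
    have hinj : Function.Injective f := fun a b h => by
      have h' := congrArg Subtype.val h
      rw [hf, hf] at h'
      exact Subtype.ext (mul_left_cancel (mul_right_cancel h'))
    have hb : Function.Bijective f := (Nat.bijective_iff_injective_and_card f).2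
      ⟨hinj, le_antisymm (Nat.card_le_card_of_injective f hinj) (by rw [card_sylP]; exact h64)⟩
    intro x hx
    obtain ⟨y, hy⟩ := hb.2 ⟨x, hx⟩
    have e : g * (y : U4) * g⁻¹ = x := (hf y).symm.trans (congrArg Subtype.val hy)
    rw [← e, show g⁻¹ * (g * (y : U4) * g⁻¹) * g = y by group]
    exact y.2
  have hlift : ∀ n ∈ sylC, ∃ x ∈ sylP, cd4 x = n := fun n hn => by
    obtain ⟨p, hp, rfl⟩ := List.mem_map.1 hn
    exact ⟨_, word_mem hp⟩
  obtain ⟨a, b, c', d, ha, hb, hc', hd, h1, h2, h12, sa, sb, sc, sd⟩ := two_commutators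
  obtain ⟨A, hA, rfl⟩ := hlift a ha
  obtain ⟨B, hB, rfl⟩ := hlift b hb
  obtain ⟨C, hC, rfl⟩ := hlift c' hc'
  obtain ⟨D, hD, rfl⟩ := hlift d hd
  have hinv : ∀ x : U4, mulM (cd4 x) (cd4 x) = oneM → x⁻¹ = x := fun x hx =>
    inv_eq_of_mul_eq_one_right (cd4_injective (by rw [cd4_mul, cd4_one]; exact hx))
  simp only [← cd4_mul, ← cd4_one] at h1 h2 h12
  have hval : ∀ x ∈ sylP, ∀ y ∈ sylP, x⁻¹ = x → y⁻¹ = y →
      x * y * (x * y) = 1 ∨ x * y * (x * y) = g * c * g⁻¹ := by
    intro x hx y hy ex ey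
    rcases hc _ (hsurj x hx) _ (hsurj y hy) with h | h
    · left
      calc x * y * (x * y) = x * y * (x⁻¹ * y⁻¹) := by rw [ex, ey]
        _ = g * ((g⁻¹ * x * g) * (g⁻¹ * y * g) * (g⁻¹ * x * g)⁻¹ * (g⁻¹ * y * g)⁻¹) * g⁻¹ := by group
        _ = 1 := by rw [h]; group
    · right
      calc x * y * (x * y) = x * y * (x⁻¹ * y⁻¹) := by rw [ex, ey]
        _ = g * ((g⁻¹ * x * g) * (g⁻¹ * y * g) * (g⁻¹ * x * g)⁻¹ * (g⁻¹ * y * g)⁻¹) * g⁻¹ := by group
        _ = _ := by rw [h]
  rcases hval A hA B hB (hinv _ sa) (hinv _ sb) with e | e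
  · exact h1 (by rw [e])
  rcases hval C hC D hD (hinv _ sc) (hinv _ sd) with e' | e'
  · exact h2 (by rw [e'])
  exact h12 (by rw [e, e'])

theorem x₀_iso : hf x₀ x₀ = 0 := by decide +kernel

theorem rep_pts : isoB x₀C = true ∧ isoB 80 = true := by decide +kernel

/-- Every involution is conjugate to a transvection or to a product of two orthogonal ones. -/
theorem invol_cases {g : U4} (hg : g * g = 1) (hg1 : g ≠ 1) :
    ∃ k : U4, k * g * k⁻¹ = tvU x₀ x₀_iso ∨ k * g * k⁻¹ = tvU x₀ x₀_iso * tvI 80 := by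
  classical
  have hY : IsPGroup 2 (Subgroup.zpowers g) := IsPGroup.of_card (n := 1) (by
    rw [Nat.card_zpowers, pow_one]
    haveI := Fact.mk Nat.prime_two
    exact orderOf_eq_prime (by rw [pow_two, hg]) hg1)
  obtain ⟨k, hk⟩ := exists_conj_le hY
  obtain ⟨y, hy⟩ : ∃ y, y = k * g * k⁻¹ := ⟨_, rfl⟩
  have hyP : cd4 y ∈ sylC := hy ▸ hk g (Subgroup.mem_zpowers g)
  have hyy : mulM (cd4 y) (cd4 y) = oneM := by
    rw [← cd4_mul, hy, show k * g * k⁻¹ * (k * g * k⁻¹) = k * (g * g) * k⁻¹ by group, hg, mul_one,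
      mul_inv_cancel, cd4_one]
  have hy1 : cd4 y ≠ oneM := fun e => hg1 (by
    have e1 : y = 1 := cd4_injective (by rw [e, cd4_one])
    rw [hy, mul_inv_eq_one] at e1
    exact mul_eq_left.1 e1)
  have hchk := List.all_eq_true.1 rep_check _ hyP
  simp only [Bool.or_eq_true, Bool.not_eq_true', List.any_eq_true, Bool.and_eq_true, Nat.beq_eq,
    hyy, Nat.beq_refl] at hchk
  obtain ⟨h5, h80⟩ := rep_pts
  obtain ⟨-, h80'⟩ := isoB_spec h80
  rcases hchk with (h | h) | ⟨t, -, ⟨h1, h2⟩, h3⟩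
  · exact absurd h (by simp)
  · exact absurd h hy1
  refine ⟨wU t.2.1 * k, ?_⟩
  have e : cd4 (wU t.2.1 * k * g * (wU t.2.1 * k)⁻¹) =
      if Nat.beq t.2.2 0 then tM x₀C else mulM (tM x₀C) (tM 80) := by
    rw [show wU t.2.1 * k * g * (wU t.2.1 * k)⁻¹ = wU t.2.1 * (k * g * k⁻¹) * (wU t.2.1)⁻¹ by group,
      ← hy, cd4_conj_word y h2 (wB_reverse h2), h3]
    simp only [Nat.beq_eq]
  split_ifs at e
  · left
    exact cd4_injective (by rw [e, cd4_tvU, x₀_code])
  · right
    exact cd4_injective (by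
      rw [e, cd4_mul, cd4_tvU, x₀_code, tvI_eq h80', cd4_tvU, vc4_vo4 80 (by norm_num)])

end Fus

namespace Nat4

variable {G : Type u} [Group G] {z : G} {P : Hyp z} (M : Nat4 P)

/-- the action as a permutation -/
def pa : Cz z →* Equiv.Perm V4 where
  toFun h :=
    { toFun := fun v => M.act h v
      invFun := fun v => M.act h⁻¹ v
      left_inv := M.act_inv_act h
      right_inv := M.act_act_inv h }
  map_one' := Equiv.ext fun v => by
    show M.act 1 v = v
    rw [map_one]; rfl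
  map_mul' a b := Equiv.ext fun v => M.act_mul a b v

theorem pa_apply (h : Cz z) (v : V4) : M.pa h v = M.act h v := rfl

theorem pa_eq_one_iff (h : Cz z) : M.pa h = 1 ↔ h ∈ P.J := by
  rw [← M.ker_act]
  constructor
  · intro e
    exact DFunLike.ext _ _ fun v => (Equiv.ext_iff.1 e v : M.act h v = v)
  · intro e
    exact Equiv.ext fun v => by rw [pa_apply, e]; rfl

/-- a matrix as a permutation of the module -/
def permU : U4 →* Equiv.Perm V4 where
  toFun g :=
    { toFun := fun v => mat4 g *ᵥ v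
      invFun := fun v => mat4 g⁻¹ *ᵥ v
      left_inv := fun v => by dsimp only; rw [Matrix.mulVec_mulVec, ← map_mul, inv_mul_cancel, map_one, Matrix.one_mulVec]
      right_inv := fun v => by dsimp only; rw [Matrix.mulVec_mulVec, ← map_mul, mul_inv_cancel, map_one, Matrix.one_mulVec] }
  map_one' := Equiv.ext fun v => by
    show mat4 1 *ᵥ v = v
    rw [map_one, Matrix.one_mulVec]
  map_mul' a b := Equiv.ext fun v => by
    show mat4 (a * b) *ᵥ v = mat4 a *ᵥ (mat4 b *ᵥ v)
    rw [map_mul, Matrix.mulVec_mulVec]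

theorem permU_injective : Function.Injective permU := fun _ _ e => mat4_ext fun v => Equiv.ext_iff.1 e v

theorem pa_inner (h : P.H₁) : M.pa h = permU (M.rho h) := Equiv.ext fun v => M.act_rho h v

theorem outer_semi {h : Cz z} (hh : h ∉ P.H₁) (c : K4) (v : V4) : M.pa h (c • v) = c ^ 2 • M.pa h v :=
  M.semi h hh c v

theorem mul_mem_inner (hi : P.H₁.index = 1 ∨ P.H₁.index = 2) {a b : Cz z} (ha : a ∉ P.H₁) (hb : b ∉ P.H₁) :
    a * b ∈ P.H₁ := by
  rcases hi with h | h
  · exact absurd (Subgroup.index_eq_one.1 h ▸ Subgroup.mem_top a) ha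
  · exact (Subgroup.mul_mem_iff_of_index_two h).2 ⟨fun x => absurd x ha, fun x => absurd x hb⟩

/-- The inner part of a subgroup of the image has index at most two. -/
theorem inner_part {X : Subgroup (Equiv.Perm V4)} (hX : ∀ x ∈ X, ∃ h, M.pa h = x) :
    Nat.card X ≤ 2 * Nat.card (X.comap permU) ∧
      (Nat.card X ≤ Nat.card (X.comap permU) ∨
        ∃ h : Cz z, h ∉ P.H₁ ∧ M.pa h ∈ X) := by
  classical
  have hin : ∀ x ∈ X, (∀ h, M.pa h = x → h ∈ P.H₁) → ∃ y ∈ X.comap permU, permU y = x := by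
    intro x hx hall
    obtain ⟨h, rfl⟩ := hX x hx
    refine ⟨M.rho ⟨h, hall h rfl⟩, ?_, (M.pa_inner ⟨h, _⟩).symm⟩
    rw [Subgroup.mem_comap, ← M.pa_inner]
    exact hx
  by_cases hex : ∃ h : Cz z, h ∉ P.H₁ ∧ M.pa h ∈ X
  · obtain ⟨h₀, hh₀, hh₀X⟩ := hex
    refine ⟨?_, Or.inr ⟨h₀, hh₀, hh₀X⟩⟩
    have hstep : ∀ x : X, ∃ y : X.comap permU,
        permU (y : U4) = (x : Equiv.Perm V4) ∨ permU (y : U4) = M.pa h₀ * x := by
      intro x
      obtain ⟨h, hh⟩ := hX x x.2
      by_cases hin' : h ∈ P.H₁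
      · refine ⟨⟨M.rho ⟨h, hin'⟩, ?_⟩, Or.inl ?_⟩
        · rw [Subgroup.mem_comap, ← M.pa_inner, hh]; exact x.2
        · show permU (M.rho ⟨h, hin'⟩) = _
          rw [← M.pa_inner, hh]
      · refine ⟨⟨M.rho ⟨h₀ * h, mul_mem_inner P.index hh₀ hin'⟩, ?_⟩, Or.inr ?_⟩
        · rw [Subgroup.mem_comap, ← M.pa_inner, map_mul, hh]; exact mul_mem hh₀X x.2
        · show permU (M.rho ⟨h₀ * h, _⟩) = _
          rw [← M.pa_inner, map_mul, hh]
    choose f hf' using hstep
    let F : X → Bool × X.comap permU := fun x => (decide (permU (f x : U4) = (x : Equiv.Perm V4)), f x)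
    have hinj : Function.Injective F := by
      intro x x' e
      simp only [F, Prod.mk.injEq, decide_eq_decide] at e
      obtain ⟨e1, e2⟩ := e
      by_cases h : permU (f x : U4) = (x : Equiv.Perm V4)
      · exact Subtype.ext (h.symm.trans ((congrArg (fun y : X.comap permU => permU (y : U4)) e2).trans (e1.1 h)))
      · have h' : ¬ permU (f x' : U4) = (x' : Equiv.Perm V4) := fun k => h (e1.2 k)
        refine Subtype.ext (mul_left_cancel (((hf' x).resolve_left h).symm.trans ?_))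
        rw [congrArg (fun y : X.comap permU => permU (y : U4)) e2]
        exact (hf' x').resolve_left h'
    have := Nat.card_le_card_of_injective F hinj
    rwa [Nat.card_prod, Nat.card_eq_fintype_card (α := Bool), Fintype.card_bool] at this
  · push_neg at hex
    have hle : Nat.card X ≤ Nat.card (X.comap permU) := by
      have hall : ∀ x : X, ∃ y : X.comap permU, permU (y : U4) = (x : Equiv.Perm V4) := fun x => by
        obtain ⟨y, hy, e⟩ := hin x x.2 fun h hh => by_contra fun k => hex h k (hh ▸ x.2)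
        exact ⟨⟨y, hy⟩, e⟩
      choose f hf' using hall
      exact Nat.card_le_card_of_injective f fun a b e => Subtype.ext (by rw [← hf' a, ← hf' b, e])
    exact ⟨by omega, Or.inl hle⟩

/-- An elementary abelian subgroup of the image has order at most 16. -/
theorem rank_le {X : Subgroup (Equiv.Perm V4)} (hX : ∀ x ∈ X, ∃ h, M.pa h = x)
    (hsq : ∀ x ∈ X, x * x = 1) : Nat.card X ≤ 16 := by
  classical
  have hcomm : ∀ a ∈ X, ∀ b ∈ X, a * b = b * a := fun a ha b hb => by
    have h := hsq _ (mul_mem ha hb)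
    calc a * b = a * (a * b * (a * b)) * b := by rw [h, mul_one]
      _ = (a * a) * (b * a) * (b * b) := by group
      _ = b * a := by rw [hsq a ha, hsq b hb, one_mul, mul_one]
  obtain ⟨h2, hout⟩ := M.inner_part hX
  have hY := Fus.elementary_le (Y := X.comap permU) fun a ha =>
    permU_injective (by rw [map_mul, map_one]; exact hsq _ ha)
  rcases hout with h | ⟨h, hh, hhX⟩
  · exact h.trans hY.1
  by_contra hlt
  push_neg at hlt
  have h16 : Nat.card (X.comap permU) = 16 → False := by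
    intro e16
    obtain ⟨k, hk⟩ := hY.2 e16
    have key : ∀ x ∈ Fus.linePts, ∀ u : V4, tv (vo4 x) (mat4 k⁻¹ *ᵥ M.pa h u) =
        mat4 k⁻¹ *ᵥ M.pa h (mat4 k *ᵥ tv (vo4 x) (mat4 k⁻¹ *ᵥ u)) := by
      intro x hx u
      have hc := List.all_eq_true.1 Fus.line_pts x hx
      simp only [Bool.and_eq_true] at hc
      obtain ⟨-, hiso⟩ := isoB_spec hc.1
      have h1 : ∀ w : V4, permU (k * tvI x * k⁻¹) w = mat4 k *ᵥ tv (vo4 x) (mat4 k⁻¹ *ᵥ w) := fun w => by
        show mat4 (k * tvI x * k⁻¹) *ᵥ w = _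
        rw [map_mul, map_mul, ← Matrix.mulVec_mulVec, ← Matrix.mulVec_mulVec, tvI_eq hiso, mat4_tvU]
      have hc1 := hcomm _ (hk x hx) _ hhX
      have e : permU (k * tvI x * k⁻¹) (M.pa h u) = M.pa h (permU (k * tvI x * k⁻¹) u) :=
        Equiv.ext_iff.1 hc1 u
      rw [h1, h1] at e
      have e2 := congrArg (fun w => mat4 k⁻¹ *ᵥ w) e
      simp only [Matrix.mulVec_mulVec, ← map_mul, inv_mul_cancel, map_one, Matrix.one_mulVec] at e2
      exact e2
    obtain ⟨F, hF⟩ : ∃ F : V4 → V4, ∀ v, F v = mat4 k⁻¹ *ᵥ M.pa h (mat4 k *ᵥ v) := ⟨_, fun _ => rfl⟩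
    have hFs : ∀ (c : K4) v, F (c • v) = c ^ 2 • F v := fun c v => by
      rw [hF, hF, Matrix.mulVec_smul, M.outer_semi hh, Matrix.mulVec_smul]
    have hFa : ∀ u v, F (u + v) = F u + F v := fun u v => by
      simp only [hF, Matrix.mulVec_add, pa_apply, map_add]
    have hFc : ∀ x ∈ Fus.linePts, ∀ v, tv (vo4 x) (F v) = F (tv (vo4 x) v) := fun x hx v => by
      have := key x hx (mat4 k *ᵥ v)
      rw [← hF, Matrix.mulVec_mulVec, ← map_mul, inv_mul_cancel, map_one, Matrix.one_mulVec, ← hF] at this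
      exact this
    refine semilinear_five hFs hFa hFc fun v hv => ?_
    have e1 : M.pa h (mat4 k *ᵥ v) = M.pa h 0 := by
      have e2 := congrArg (fun w => mat4 k *ᵥ w) ((hF v).symm.trans hv)
      simp only [Matrix.mulVec_mulVec, ← map_mul, mul_inv_cancel, map_one, Matrix.one_mulVec,
        Matrix.mulVec_zero] at e2
      rw [e2, pa_apply, map_zero]
    have e3 := congrArg (fun w => mat4 k⁻¹ *ᵥ w) ((M.pa h).injective e1)
    simpa [Matrix.mulVec_mulVec, ← map_mul] using e3
  have hp : IsPGroup 2 (X.comap permU) := fun a => ⟨1, Subtype.ext (by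
    rw [pow_one, pow_two, Subgroup.coe_mul, Subgroup.coe_one]
    exact permU_injective (by rw [map_mul, map_one]; exact hsq _ a.2))⟩
  haveI := Fact.mk Nat.prime_two
  obtain ⟨n, hn⟩ := IsPGroup.iff_card.1 hp
  have h16' : Nat.card (X.comap permU) ≤ 16 := hY.1
  rcases Nat.lt_or_ge n 4 with hn4 | hn4
  · have : 2 ^ n ≤ 2 ^ 3 := Nat.pow_le_pow_right (by norm_num) (by omega)
    omega
  · have : 2 ^ 4 ≤ 2 ^ n := Nat.pow_le_pow_right (by norm_num) hn4
    exact h16 (by omega)
where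
  semilinear_five {F : V4 → V4} (hFs : ∀ (c : K4) v, F (c • v) = c ^ 2 • F v)
      (hFa : ∀ u v, F (u + v) = F u + F v)
      (hFc : ∀ x ∈ Fus.linePts, ∀ v, tv (vo4 x) (F v) = F (tv (vo4 x) v))
      (h0 : ∀ v, F v = 0 → v = 0) : False := by
    have two : ∀ a b : V4, a + b = a → b = 0 := fun a b h => add_left_cancel (h.trans (add_zero a).symm)
    have fix : ∀ x ∈ Fus.linePts, ∀ v : ℕ, hf (vo4 v) (vo4 x) = 1 → ∃ c : K4, F (vo4 x) = c • vo4 x := by
      intro x hx v hv
      have e := hFc x hx (vo4 v)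
      rw [tv, tv, hFa, hFs, hv, one_pow, one_smul] at e
      exact ⟨_, (add_left_cancel e).symm⟩
    obtain ⟨hv1, hv2, hv3, hv4⟩ : hf (vo4 1) (vo4 5) = 1 ∧ hf (vo4 16) (vo4 80) = 1 ∧
        hf (vo4 1) (vo4 85) = 1 ∧ hf (vo4 16) (vo4 90) = 1 := by decide +kernel
    obtain ⟨c1, h1⟩ := fix 5 (by simp [Fus.linePts]) 1 hv1
    obtain ⟨c2, h2⟩ := fix 80 (by simp [Fus.linePts]) 16 hv2
    obtain ⟨c3, h3⟩ := fix 85 (by simp [Fus.linePts]) 1 hv3
    obtain ⟨c4, h4⟩ := fix 90 (by simp [Fus.linePts]) 16 hv4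
    obtain ⟨e85, e90, a0, a1, b0, b1, d0⟩ : vo4 85 = vo4 5 + vo4 80 ∧ vo4 90 = kOf 2 • vo4 5 + vo4 80 ∧
        vo4 5 0 = 1 ∧ vo4 80 0 = 0 ∧ vo4 5 2 = 0 ∧ vo4 80 2 = 1 ∧ kOf 2 ^ 2 + kOf 2 = 1 := by decide +kernel
    rw [e85, hFa, h1, h2] at h3
    rw [e90, hFa, hFs, h1, h2] at h4
    have p0 := congrFun h3 0
    have p2 := congrFun h3 2
    have q0 := congrFun h4 0
    have q2 := congrFun h4 2
    simp only [Pi.add_apply, Pi.smul_apply, smul_eq_mul, a0, a1, b0, b1, mul_one, mul_zero, add_zero,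
      zero_add] at p0 p2 q0 q2
    have hc : c1 = 0 := by
      have h2' : (2 : K4) = 0 := by decide +kernel
      linear_combination q0 - kOf 2 * q2 + kOf 2 * (p2 - p0) - c1 * d0 + (c1 * kOf 2) * h2'
    rw [hc, zero_smul] at h1
    have := congrFun (h0 _ h1) 0
    rw [a0, Pi.zero_apply] at this
    exact one_ne_zero this

/-- A 2-subgroup of the image of order at least 128 has at least three values of commutators. -/
theorem commutators_le {X : Subgroup (Equiv.Perm V4)} (hX : ∀ x ∈ X, ∃ h, M.pa h = x)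
    (hp : IsPGroup 2 X) (h128 : 128 ≤ Nat.card X) (c : Equiv.Perm V4)
    (hc : ∀ a ∈ X, ∀ b ∈ X, a * b * a⁻¹ * b⁻¹ = 1 ∨ a * b * a⁻¹ * b⁻¹ = c) : False := by
  classical
  obtain ⟨h2, -⟩ := M.inner_part hX
  have h64 : 64 ≤ Nat.card (X.comap permU) := by omega
  have hY : IsPGroup 2 (X.comap permU) :=
    hp.comap_of_injective permU permU_injective
  have key : ∀ a ∈ X.comap permU, ∀ b ∈ X.comap permU,
      permU (a * b * a⁻¹ * b⁻¹) = 1 ∨ permU (a * b * a⁻¹ * b⁻¹) = c := by
    intro a ha b hb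
    simp only [map_mul, map_inv]
    exact hc _ ha _ hb
  by_cases hex : ∃ d, permU d = c
  · obtain ⟨d, hd⟩ := hex
    refine Fus.commutators_two hY h64 d fun a ha b hb => (key a ha b hb).imp (fun e => ?_) (fun e => ?_)
    · exact permU_injective (e.trans (map_one _).symm)
    · exact permU_injective (e.trans hd.symm)
  · refine Fus.commutators_two hY h64 1 fun a ha b hb => Or.inl ?_
    exact permU_injective (((key a ha b hb).resolve_right fun e => hex ⟨_, e⟩).trans (map_one _).symm)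

end Nat4

end CfsgLib.U62Cent
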